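import Groth.Agent.EtMVLib.HpullApply
import Groth.Agent.EtFound.PullStalk
import Mathlib.Algebra.Homology.DerivedCategory.Ext.ExactSequences

/-!
# Naturality of the pullback maps on etale cohomology
-/

set_option autoImplicit false

universe u

open CategoryTheory CategoryTheory.Limits AlgebraicGeometry Opposite CategoryTheory.Abelian

namespace Groth.Agent.EtDerLib

set_option backward.isDefEq.respectTransparency.types false

variable {X Y : Scheme.{u}} (f : X ⟶ Y) [PreservesFiniteLimits (EtCoh.pull f)]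

/-- the functorial map on cohomology, as composition with a degree zero class -/
theorem HF_map_apply {Z : Scheme.{u}} {F G : EtCoh.Ab Z} (a : F ⟶ G) (n : ℕ) (x : EtCoh.H Z F n) :
    (EtCoh.HF Z n).map a x = x.comp (Ext.mk₀ a) (add_zero n) := rfl

theorem Hpull_comp {F G : EtCoh.Ab Y} {n k m : ℕ} (x : EtCoh.H Y F n) (e : Ext F G k) (h : n + k = m) :
    EtCore.Hpull f G m (x.comp e h) = (EtCore.Hpull f F n x).comp (e.mapExactFunctor (EtCoh.pull f)) h := by
  rw [EtMVLib.Hpull_apply, EtMVLib.Hpull_apply, Ext.mapExactFunctor_comp]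
  exact (Ext.comp_assoc _ _ _ (zero_add n) h (by omega)).symm

theorem Hpull_natural {F G : EtCoh.Ab Y} (a : F ⟶ G) (n : ℕ) (x : EtCoh.H Y F n) :
    EtCore.Hpull f G n (x.comp (Ext.mk₀ a) (add_zero n)) =
      (EtCore.Hpull f F n x).comp (Ext.mk₀ ((EtCoh.pull f).map a)) (add_zero n) := by
  rw [Hpull_comp, Ext.mapExactFunctor_mk₀]

theorem Hpull_δ {S : ShortComplex (EtCoh.Ab Y)} (hS : S.ShortExact) {n m : ℕ} (h : n + 1 = m)
    (x : EtCoh.H Y S.X₃ n) :
    EtCore.Hpull f S.X₁ m (x.comp hS.extClass h) =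
      (EtCore.Hpull f S.X₃ n x).comp (hS.map_of_exact (EtCoh.pull f)).extClass h :=
  (Hpull_comp f x hS.extClass h).trans (congrArg (fun t => Ext.comp _ t h) (Ext.mapExactFunctor_extClass _ hS))

end Groth.Agent.EtDerLib
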