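import Groth.Agent.S8525
import Groth.Agent.EtFound.Stalk
import Groth.Agent.EtFound.Detect
import Groth.Agent.EtDerLib.HpullNat
import Groth.Prelude.Def_EtAcyc

/-!
# Torsion sheaves: quotients and inverse images
-/

set_option autoImplicit false

universe u

open CategoryTheory CategoryTheory.Limits AlgebraicGeometry Opposite

namespace Groth.Agent.EtDerLib

set_option backward.isDefEq.respectTransparency.types false

theorem isLTorsion_of_epi {X : Scheme.{u}} {L : Set ℕ} {F G : EtCoh.Ab X} (p : F ⟶ G) [Epi p]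
    (hF : EtAcyc.IsLTorsion L F) : EtAcyc.IsLTorsion L G := by
  rw [S8525.result] at hF ⊢
  intro Ω _ _ ξ t
  obtain ⟨s, rfl⟩ := (EtFound.epi_iff_stalks p).1 ‹_› Ω ξ t
  obtain ⟨m, hm, h0⟩ := hF Ω ξ s
  exact ⟨m, hm, by rw [← map_nsmul, h0, map_zero]⟩

theorem isLTorsion_pull {X Y : Scheme.{u}} {L : Set ℕ} (f : X ⟶ Y) {F : EtCoh.Ab Y}
    (hF : EtAcyc.IsLTorsion L F) : EtAcyc.IsLTorsion L ((EtCoh.pull f).obj F) := by
  rw [S8525.result] at hF ⊢
  intro Ω _ _ ξ t
  let e := ((EtFound.sheafFiberPullIso (A := AddCommGrpCat.{u + 1}) f ξ).app F).addCommGroupIsoToAddEquiv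
  obtain ⟨m, hm, h0⟩ := hF Ω (ξ ≫ f) (e t)
  exact ⟨m, hm, e.injective (by rw [map_nsmul, h0, map_zero])⟩

end Groth.Agent.EtDerLib
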