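import Groth.Agent.EtPBC63.Torsion
import Groth.Agent.EtDerLib.Torsion

/-!
# `L`-torsion sheaves as colimits; cohomology of `L`-torsion sheaves
-/

set_option autoImplicit false

universe u

open CategoryTheory CategoryTheory.Limits AlgebraicGeometry Opposite

namespace Groth.Agent.EtDerLib

open Groth.Agent.EtFound Groth.Agent.EtPBC63

set_option linter.style.haveILetI false
set_option backward.isDefEq.respectTransparency.types false

theorem primesIn_one (L : Set ℕ) : EtAcyc.PrimesIn L 1 :=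
  ⟨one_pos, fun _ hp h => absurd (Nat.dvd_one.1 h) hp.ne_one⟩

theorem primesIn_mul {L : Set ℕ} {m n : ℕ} (hm : EtAcyc.PrimesIn L m) (hn : EtAcyc.PrimesIn L n) :
    EtAcyc.PrimesIn L (m * n) :=
  ⟨Nat.mul_pos hm.1 hn.1, fun p hp h => (hp.dvd_mul.1 h).elim (hm.2 p hp) (hn.2 p hp)⟩

variable {X : Scheme.{u}}

/-- killed by an integer with prime factors in `L` -/
def KilledIn (L : Set ℕ) (G : EtCoh.Ab X) : Prop := ∃ m, EtAcyc.PrimesIn L m ∧ m • 𝟙 G = 0

theorem nsmul_id_comp {G H : EtCoh.Ab X} (a : G ⟶ H) (m : ℕ) : (m • 𝟙 G) ≫ a = a ≫ (m • 𝟙 H) := by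
  rw [Preadditive.nsmul_comp, Preadditive.comp_nsmul, Category.id_comp, Category.comp_id]

theorem KilledIn.of_epi {L : Set ℕ} {G H : EtCoh.Ab X} (a : G ⟶ H) [Epi a] (h : KilledIn L G) : KilledIn L H := by
  obtain ⟨m, hm, h0⟩ := h
  exact ⟨m, hm, (cancel_epi a).1 (by rw [← nsmul_id_comp, h0, zero_comp, comp_zero])⟩

theorem KilledIn.biprod {L : Set ℕ} {G H : EtCoh.Ab X} (h : KilledIn L G) (h' : KilledIn L H) : KilledIn L (G ⊞ H) := by
  obtain ⟨m, hm, h0⟩ := h
  obtain ⟨n, hn, h0'⟩ := h'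
  refine ⟨m * n, primesIn_mul hm hn, ?_⟩
  apply biprod.hom_ext'
  · rw [comp_zero, ← nsmul_id_comp, mul_comm, mul_nsmul', h0, smul_zero, zero_comp]
  · rw [comp_zero, ← nsmul_id_comp, mul_nsmul', h0', smul_zero, zero_comp]

/-- an `L`-torsion sheaf is a filtered colimit of constructible sheaves killed by integers in `L` -/
theorem exists_colimit_LTorsion [CompactSpace X] [QuasiSeparatedSpace X] (L : Set ℕ) (F : EtCoh.Ab X)
    (hF : EtAcyc.IsLTorsion L F) :
    ∃ (J : Type (u + 1)) (_ : SmallCategory J) (_ : IsFiltered J) (D : J ⥤ EtCoh.Ab X)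
      (c : Cocone D) (_ : IsColimit c), Nonempty (c.pt ≅ F) ∧
        ∀ j, EtPBC.IsConstructible (D.obj j) ∧ KilledIn L (D.obj j) :=
  exists_colimit F (fun G => EtPBC.IsConstructible G ∧ KilledIn L G) (fun _ h => h.1)
    (fun _ _ ⟨e⟩ h => ⟨isConstructible_of_iso e h.1, h.2.of_epi e.hom⟩)
    (fun G h => ⟨isConstructible_of_isZero h, 1, primesIn_one L, h.eq_of_src _ _⟩)
    (fun _ _ h h' => ⟨isConstructible_biprod h.1 h'.1, h.2.biprod h'.2⟩)
    (fun _ _ φ h h' => ⟨isConstructible_cokernel φ h h'.1, h'.2.of_epi (cokernel.π φ)⟩)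
    (fun Ω _ _ ξ c => by
      let Φ := Scheme.pointSmallEtale ξ
      obtain ⟨U, x, t, rfl⟩ := Φ.toPresheafFiber_jointly_surjective c
      change F.obj.obj (op U) at t
      obtain ⟨W, g, n, ⟨q, hq⟩, hn, hns⟩ := hF U t
        ((x.left : Spec (CommRingCat.of Ω) ⟶ U.left).base (default : Spec (CommRingCat.of Ω)))
      obtain ⟨w, hw, -⟩ := exists_lift_point g x q hq
      obtain ⟨V, hV, r, v, hv⟩ := exists_affine_nhd W w
      obtain ⟨h, hh⟩ := exists_hom_of_nsmul (n := n) (F.obj.map r.op (F.obj.map g.op t))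
        (by rw [← map_nsmul, hns, map_zero])
      haveI : NeZero n := ⟨hn.1.ne'⟩
      refine ⟨_, ⟨S0133.result X V (ZMod n), n, hn, ?_⟩, h, _,
        (stalk_map_germ h V v (one V n)).trans ?_⟩
      · exact extZeroConst_nsmul V (fun m : ZMod n => ZModModule.char_nsmul_eq_zero n m)
      · rw [hh]
        refine (Φ.toPresheafFiber_w_apply r v F.obj _).trans ?_
        rw [hv, Φ.toPresheafFiber_w_apply, hw]
        rfl)

/-- cohomology of an `L`-torsion sheaf on a qcqs scheme is `L`-torsion -/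
theorem exists_nsmul_H_eq_zero [CompactSpace X] [QuasiSeparatedSpace X] {L : Set ℕ} (F : EtCoh.Ab X)
    (hF : EtAcyc.IsLTorsion L F) (n : ℕ) (x : EtCoh.H X F n) :
    ∃ m, EtAcyc.PrimesIn L m ∧ m • x = 0 := by
  obtain ⟨J, _, _, D, c, hc, ⟨e⟩, hD⟩ := exists_colimit_LTorsion L F hF
  haveI := EtLC12.QcqsAcyclic.preservesColimitsOfShape_HF X n J
  obtain ⟨j, y, hy⟩ := Concrete.isColimit_exists_rep _ (isColimitOfPreserves (EtCoh.HF X n) hc)
    ((EtCoh.HF X n).map e.inv x)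
  obtain ⟨m, hm, hjm⟩ := (hD j).2
  have hy0 : m • y = 0 := by
    let Φ := AddMonoidHom.mk' (fun a : D.obj j ⟶ D.obj j => Sheaf.H.map a n y) fun a b => Sheaf.H.map_add_apply a b y
    refine Eq.trans ?_ ((congrArg Φ hjm).trans (map_zero Φ))
    rw [map_nsmul]
    exact congrArg (m • ·) (Sheaf.H.map_id_apply y).symm
  refine ⟨m, hm, ?_⟩
  have hx : x = (EtCoh.HF X n).map (c.ι.app j ≫ e.hom) y := by
    rw [Functor.map_comp, ConcreteCategory.comp_apply]
    refine Eq.trans ?_ (congrArg ((EtCoh.HF X n).map e.hom) hy).symm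
    exact ((EtCoh.HF X n).mapIso e).addCommGroupIsoToAddEquiv.apply_symm_apply x |>.symm
  rw [hx]
  exact (map_nsmul ((EtCoh.HF X n).map (c.ι.app j ≫ e.hom)).hom m y).symm.trans ((congrArg _ hy0).trans (map_zero _))

end Groth.Agent.EtDerLib
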