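import Groth.Agent.EtDerLib.ZU
import Groth.Agent.EtDerLib.TorsionColim
import Groth.Agent.TriCat.AcyclicObj

/-!
# Higher direct images: local criteria on cohomology classes
-/

set_option autoImplicit false

universe u

open CategoryTheory CategoryTheory.Limits AlgebraicGeometry Opposite CategoryTheory.Abelian
open scoped ZeroObject

namespace Groth.Agent.EtDerLib

set_option linter.style.haveILetI false
set_option backward.isDefEq.respectTransparency.types false

/-- sections killed by an exact sequence are locally images -/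
theorem exists_local_preimage {Y : Scheme.{u}} {S : ShortComplex (EtCoh.Ab Y)} (hS : S.Exact) (V : Y.Etale)
    (x : S.X₂.obj.obj (op V)) (hx : S.g.hom.app (op V) x = 0) (v : V.left) :
    ∃ (W : Y.Etale) (g : W ⟶ V) (t : S.X₁.obj.obj (op W)),
      (∃ w : W.left, g.left.base w = v) ∧ S.f.hom.app (op W) t = S.X₂.obj.map g.op x := by
  let φ : ZU V ⟶ S.X₂ := (zuEquiv V S.X₂).symm x
  have hφ : φ ≫ S.g = 0 := by
    rw [zuEquiv_symm_comp, hx, Equiv.symm_apply_eq, zuEquiv_eq]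
    rfl
  haveI := S.exact_iff_epi_kernel_lift.1 hS
  haveI := (Sheaf.isLocallySurjective_iff_epi' _ (kernel.lift S.g S.f S.zero)).2 inferInstance
  let z := zuEquiv V (kernel S.g) (kernel.lift S.g φ hφ)
  obtain ⟨W, g, w, hg, hw⟩ := (EtFound.mem_topology_iff _).1
    (Presheaf.imageSieve_mem Y.smallEtaleTopology (kernel.lift S.g S.f S.zero).hom z) v
  obtain ⟨t, ht⟩ := hg
  refine ⟨W, g, t, ⟨w, hw⟩, ?_⟩
  have h1 : S.f.hom.app (op W) t =
      (kernel.ι S.g).hom.app (op W) ((kernel.lift S.g S.f S.zero).hom.app (op W) t) := by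
    conv_lhs => rw [← kernel.lift_ι S.g S.f S.zero]
    rfl
  rw [h1, ht, NatTrans.naturality_apply (kernel.ι S.g).hom]
  congr 1
  rw [← zuEquiv_comp, kernel.lift_ι, Equiv.apply_symm_apply]

theorem cokernel_exact {Y : Scheme.{u}} {A B : EtCoh.Ab Y} (a : A ⟶ B) :
    (ShortComplex.mk a (cokernel.π a) (cokernel.condition a)).Exact :=
  ShortComplex.exact_of_g_is_cokernel _ (cokernelIsCokernel a)

theorem isLTorsion_of_iso {Y : Scheme.{u}} {L : Set ℕ} {F G : EtCoh.Ab Y} (e : F ≅ G) :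
    EtAcyc.IsLTorsion L F ↔ EtAcyc.IsLTorsion L G :=
  ⟨isLTorsion_of_epi e.hom, isLTorsion_of_epi e.inv⟩

theorem isLTorsion_empty_iff {Y : Scheme.{u}} (F : EtCoh.Ab Y) : EtAcyc.IsLTorsion ∅ F ↔ IsZero F := by
  constructor
  · intro h
    have := (S8525.result ∅ F).1 h
    rw [IsZero.iff_id_eq_zero]
    refine EtFound.eq_of_stalks _ _ fun Ω _ _ ξ => ConcreteCategory.hom_ext _ _ fun t => ?_
    obtain ⟨m, hm, h0⟩ := this Ω ξ t
    obtain rfl : m = 1 := by
      by_contra hm1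
      obtain ⟨p, hp, hpm⟩ := Nat.exists_prime_and_dvd hm1
      exact hm.2 p hp hpm
    rw [one_smul] at h0
    subst h0
    exact (map_zero _).trans (map_zero _).symm
  · intro h U s x
    refine ⟨U, 𝟙 U, 1, ⟨x, rfl⟩, primesIn_one _, ?_⟩
    have h1 : (1 : ℕ) • F.obj.map (𝟙 U).op s = (𝟙 F : F ⟶ F).hom.app (op U) (F.obj.map (𝟙 U).op s) := one_nsmul _
    refine h1.trans ?_
    rw [h.eq_of_src (𝟙 F) 0]
    rfl

variable {X Y : Scheme.{u}} (f : X ⟶ Y) [EtCoh.BCCont f]

/-- every class is, locally on the base, killed by an integer in `L` -/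
def LocP (L : Set ℕ) (F : EtCoh.Ab X) (q : ℕ) : Prop :=
  ∀ (V : Y.Etale) (ξ : HT F q ((EtCoh.bc f).obj V)) (v : V.left), ∃ (W : Y.Etale) (g : W ⟶ V) (m : ℕ),
    (∃ w : W.left, g.left.base w = v) ∧ EtAcyc.PrimesIn L m ∧ m • HTres F q ((EtCoh.bc f).map g) ξ = 0

theorem locP_one_iff {S : ShortComplex (EtCoh.Ab X)} (hS : S.ShortExact) [Injective S.X₂] (L : Set ℕ) :
    EtAcyc.IsLTorsion L (cokernel ((EtCoh.push f).map S.g)) ↔ LocP f L S.X₁ 1 := by
  let T := ShortComplex.mk ((EtCoh.push f).map S.g) (cokernel.π _) (cokernel.condition _)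
  constructor
  · intro h V ξ v
    obtain ⟨y, rfl⟩ := secδ_surjective hS _ ξ
    let y' : ((EtCoh.push f).obj S.X₃).obj.obj (op V) := y
    obtain ⟨W, g, m, ⟨w, hw⟩, hm, h0⟩ := h V ((cokernel.π ((EtCoh.push f).map S.g)).hom.app (op V) y') v
    have h1 : T.g.hom.app (op W) (m • ((EtCoh.push f).obj S.X₃).obj.map g.op y') = 0 := by
      rw [map_nsmul]
      refine Eq.trans ?_ h0
      exact congrArg (m • ·) (NatTrans.naturality_apply (cokernel.π ((EtCoh.push f).map S.g)).hom g.op y')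
    obtain ⟨W', g', t, ⟨w', hw'⟩, ht⟩ := exists_local_preimage (cokernel_exact _) W _ h1 w
    refine ⟨W', g' ≫ g, m, ⟨w', ?_⟩, hm, ?_⟩
    · exact (Scheme.Hom.comp_apply _ _ _).trans ((congrArg g.left.base hw').trans hw)
    · rw [← secδ_res, ← secδ_nsmul, secδ_eq_zero_iff]
      refine ⟨t, ht.trans ?_⟩
      change S.X₃.obj.map ((EtCoh.bc f).map g').op (m • S.X₃.obj.map ((EtCoh.bc f).map g).op y) = _
      rw [map_nsmul]
      congr 1
      rw [Functor.map_comp, op_comp, Functor.map_comp_apply]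
  · intro h V c v
    haveI : Epi T.g := inferInstanceAs (Epi (cokernel.π _))
    obtain ⟨V₁, g₁, y, ⟨v₁, hv₁⟩, hy⟩ := exists_local_preimage (S := ShortComplex.mk (cokernel.π ((EtCoh.push f).map S.g))
      (0 : cokernel ((EtCoh.push f).map S.g) ⟶ 0) comp_zero) ((ShortComplex.exact_iff_epi _ rfl).2 inferInstance)
      V c rfl v
    obtain ⟨W, g, m, ⟨w, hw⟩, hm, h0⟩ := h V₁ (secδ hS _ y) v₁
    rw [← secδ_res, ← secδ_nsmul, secδ_eq_zero_iff] at h0
    obtain ⟨t, ht⟩ := h0
    refine ⟨W, g ≫ g₁, m, ⟨w, (Scheme.Hom.comp_apply _ _ _).trans ((congrArg g₁.left.base hw).trans hv₁)⟩, hm, ?_⟩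
    rw [op_comp, Functor.map_comp_apply, ← hy]
    let C := cokernel ((EtCoh.push f).map S.g)
    refine (congrArg (m • ·) (NatTrans.naturality_apply (cokernel.π ((EtCoh.push f).map S.g)).hom g.op y).symm).trans ?_
    rw [← map_nsmul]
    refine (congrArg ((cokernel.π ((EtCoh.push f).map S.g)).hom.app (op W)) ht.symm).trans ?_
    exact congrArg (fun φ : (EtCoh.push f).obj S.X₂ ⟶ C => φ.hom.app (op W) t) (cokernel.condition ((EtCoh.push f).map S.g))

theorem locP_succ_iff {S : ShortComplex (EtCoh.Ab X)} (hS : S.ShortExact) [Injective S.X₂] (L : Set ℕ) (q : ℕ) :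
    LocP f L S.X₃ (q + 1) ↔ LocP f L S.X₁ (q + 2) := by
  constructor
  · intro h V ξ v
    obtain ⟨x, rfl⟩ := (δ_bijective hS q _).2 ξ
    obtain ⟨W, g, m, hw, hm, h0⟩ := h V x v
    refine ⟨W, g, m, hw, hm, ?_⟩
    rw [HTres_comp_apply]
    exact (map_nsmul (hS.extClass.postcomp _ rfl) m _).symm.trans ((congrArg _ h0).trans (map_zero _))
  · intro h V x v
    obtain ⟨W, g, m, hw, hm, h0⟩ := h V (x.comp hS.extClass rfl) v
    refine ⟨W, g, m, hw, hm, (δ_bijective hS q _).1 ?_⟩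
    change (m • HTres S.X₃ (q + 1) ((EtCoh.bc f).map g) x).comp hS.extClass rfl = (0 : HT S.X₃ (q + 1) _).comp hS.extClass rfl
    rw [Ext.zero_comp, ← h0, HTres_comp_apply]
    exact map_nsmul (hS.extClass.postcomp _ rfl) m _

theorem isLTorsion_Rpush_iff (L : Set ℕ) : ∀ (q : ℕ) (F : EtCoh.Ab X),
    EtAcyc.IsLTorsion L ((EtCoh.Rpush f (q + 1)).obj F) ↔ LocP f L F (q + 1) := by
  haveI : (EtCoh.push f).IsRightAdjoint := (EtCoh.pullPushAdj f).isRightAdjoint
  let := HasDerivedCategory.standard (EtCoh.Ab X)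
  let := HasDerivedCategory.standard (EtCoh.Ab Y)
  intro q
  induction q with
  | zero =>
    intro F
    let S := EtMVLib.injSES F
    have hS := EtMVLib.injSES_shortExact F
    haveI : Injective S.X₂ := inferInstanceAs (Injective (Injective.under F))
    obtain ⟨δ, w₁, w₂, w₃, -, e₂, e₃⟩ := TriCat.exists_rightDerived_ses (EtCoh.push f) hS 0
    haveI : Epi δ := e₃.epi_f ((TriCat.isRightAcyclic_of_injective S.X₂ 1 one_pos).eq_of_tgt _ _)
    refine (isLTorsion_of_iso ?_).trans (locP_one_iff f hS L)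
    exact (e₂.gIsCokernel.coconePointUniqueUpToIso (cokernelIsCokernel _)) ≪≫
      cokernel.mapIso _ _ ((EtCoh.push f).rightDerivedZeroIsoSelf.app S.X₂)
        ((EtCoh.push f).rightDerivedZeroIsoSelf.app S.X₃) ((EtCoh.push f).rightDerivedZeroIsoSelf.hom.naturality S.g)
  | succ q ih =>
    intro F
    let S := EtMVLib.injSES F
    have hS := EtMVLib.injSES_shortExact F
    haveI : Injective S.X₂ := inferInstanceAs (Injective (Injective.under F))
    obtain ⟨δ, w₁, w₂, w₃, -, e₂, e₃⟩ := TriCat.exists_rightDerived_ses (EtCoh.push f) hS (q + 1)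
    haveI : Mono δ := e₂.mono_g ((TriCat.isRightAcyclic_of_injective S.X₂ (q + 1) (by omega)).eq_of_src _ _)
    haveI : Epi δ := e₃.epi_f ((TriCat.isRightAcyclic_of_injective S.X₂ (q + 1 + 1) (by omega)).eq_of_tgt _ _)
    haveI := isIso_of_mono_of_epi δ
    exact (isLTorsion_of_iso (asIso δ)).symm.trans ((ih _).trans (locP_succ_iff f hS L q))

theorem isZero_Rpush_iff (q : ℕ) (F : EtCoh.Ab X) :
    IsZero ((EtCoh.Rpush f (q + 1)).obj F) ↔ LocP f ∅ F (q + 1) :=
  (isLTorsion_empty_iff _).symm.trans (isLTorsion_Rpush_iff f ∅ q F)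

open Classical in
/-- direct images of `L`-torsion sheaves -/
theorem isLTorsion_push [QuasiCompact f] {L : Set ℕ} {F : EtCoh.Ab X} (hF : EtAcyc.IsLTorsion L F) :
    EtAcyc.IsLTorsion L ((EtCoh.push f).obj F) := by
  intro V s v
  obtain ⟨O, hO, hvO, -⟩ := exists_isAffineOpen_mem_and_subset (Set.mem_univ v) (U := (⊤ : V.left.Opens))
  let W := EtFound.restrictEtale V O
  let g : W ⟶ V := EtFound.restrictEtaleHom V O
  haveI : IsAffine W.left := hO
  haveI hqc : QuasiCompact (pullback.fst W.hom f : ((EtCoh.bc f).obj W).left ⟶ W.left) :=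
    MorphismProperty.pullback_fst W.hom f ‹QuasiCompact f›
  haveI : CompactSpace ((EtCoh.bc f).obj W).left :=
    @QuasiCompact.compactSpace_of_compactSpace _ _ (pullback.fst W.hom f : ((EtCoh.bc f).obj W).left ⟶ W.left) hqc (isCompact_univ_iff.1 (isAffineOpen_top W.left).isCompact)
  let t : F.obj.obj (op ((EtCoh.bc f).obj W)) := F.obj.map ((EtCoh.bc f).map g).op s
  choose A a m hq hm h0 using fun x : ((EtCoh.bc f).obj W).left => hF _ t x
  obtain ⟨T, hT⟩ := isCompact_univ.elim_finite_subcover (fun x => Set.range (a x).left.base)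
    (fun x => haveI := EtFound.etale_left (a x); (a x).left.isOpenMap.isOpen_range)
    (fun x _ => Set.mem_iUnion.2 ⟨x, hq x⟩)
  refine ⟨W, g, ∏ x ∈ T, m x, ⟨⟨v, hvO⟩, rfl⟩, ?_, ?_⟩
  · exact Finset.prod_induction _ (EtAcyc.PrimesIn L) (fun _ _ => primesIn_mul) (primesIn_one L) (fun x _ => hm x)
  · change (∏ x ∈ T, m x) • t = 0
    refine EtFound.eq_of_cover F _ _ ((EtFound.mem_topology_iff _).2 fun p => ?_)
    obtain ⟨x, hx, q, hp⟩ := Set.mem_iUnion₂.1 (hT (Set.mem_univ p))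
    refine ⟨A x, a x, q, ?_, hp⟩
    change F.obj.map (a x).op ((∏ x ∈ T, m x) • t) = F.obj.map (a x).op 0
    rw [map_zero, map_nsmul, ← Finset.prod_erase_mul T m hx, mul_nsmul', h0 x, smul_zero]

end Groth.Agent.EtDerLib
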