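import Groth.Agent.EtDerLib.ZU
import Groth.Agent.EtDerLib.HpullNat
import Groth.Agent.EtMVLib.PullSec
import Groth.Agent.EtMVLib.ExtTools

/-!
# Universal classes: compatibility of pullback with cohomology over etale objects
-/

set_option autoImplicit false

universe w v v' v'' u u' u''

open CategoryTheory CategoryTheory.Limits AlgebraicGeometry Opposite CategoryTheory.Abelian

namespace Groth.Agent.EtDerLib

set_option linter.style.haveILetI false
set_option backward.isDefEq.respectTransparency.types false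

section Generic

variable {A : Type u} [Category.{v} A] [Abelian A] [HasExt.{w} A] [EnoughInjectives A]
  {B : Type u'} [Category.{v'} B] [Abelian B] [HasExt.{w} B] [EnoughInjectives B]
  {C : Type u''} [Category.{v''} C] [Abelian C] [HasExt.{w} C]
  {Z : A} {cB : B} {cC : C} (R : A ⥤ B) [R.Additive] [PreservesFiniteLimits R] [PreservesFiniteColimits R]
  (c : cB ⟶ R.obj Z) (K : B ⥤ C) [K.Additive] [PreservesFiniteLimits K] [PreservesFiniteColimits K]
  (cK : cC ⟶ K.obj cB)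

omit [EnoughInjectives B] in
theorem hpl_hpl (F : A) (n : ℕ) (x : Ext.{w} Z F n) :
    hpl K cK (R.obj F) n (hpl R c F n x) =
      haveI : PreservesFiniteLimits (R ⋙ K) := comp_preservesFiniteLimits R K
      haveI : PreservesFiniteColimits (R ⋙ K) := comp_preservesFiniteColimits R K
      hpl (R ⋙ K) (cK ≫ K.map c) F n x := by
  haveI : PreservesFiniteLimits (R ⋙ K) := comp_preservesFiniteLimits R K
  haveI : PreservesFiniteColimits (R ⋙ K) := comp_preservesFiniteColimits R K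
  change (Ext.mk₀ cK).comp (((Ext.mk₀ c).comp (x.mapExactFunctor R) (zero_add n)).mapExactFunctor K) (zero_add n) =
    (Ext.mk₀ (cK ≫ K.map c)).comp (x.mapExactFunctor (R ⋙ K)) (zero_add n)
  rw [Ext.mapExactFunctor_comp, Ext.mapExactFunctor_mk₀, EtMVLib.mapExactFunctor_functorComp R K,
    Ext.mk₀_comp_mk₀_assoc]

omit [EnoughInjectives B] in
theorem hpl_natTrans {R' : A ⥤ B} [R'.Additive] [PreservesFiniteLimits R'] [PreservesFiniteColimits R']
    (e : R ⟶ R') (F : A) (n : ℕ) (x : Ext.{w} Z F n) :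
    (hpl R c F n x).comp (Ext.mk₀ (e.app F)) (add_zero n) = hpl R' (c ≫ e.app Z) F n x := by
  change ((Ext.mk₀ c).comp (x.mapExactFunctor R) (zero_add n)).comp (Ext.mk₀ (e.app F)) (add_zero n) =
    (Ext.mk₀ (c ≫ e.app Z)).comp (x.mapExactFunctor R') (zero_add n)
  rw [Ext.comp_assoc_of_third_deg_zero, EtMVLib.mapExactFunctor_natTrans R R' e, Ext.mk₀_comp_mk₀_assoc]

omit [EnoughInjectives A] in
theorem bijective_comp_mk₀ {F G : A} (e : F ≅ G) (P : A) (n : ℕ) :
    Function.Bijective (fun z : Ext.{w} P F n => z.comp (Ext.mk₀ e.hom) (add_zero n)) :=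
  Function.bijective_iff_has_inverse.2 ⟨fun z => z.comp (Ext.mk₀ e.inv) (add_zero n),
    fun z => by simp [Ext.comp_assoc_of_third_deg_zero],
    fun z => by simp [Ext.comp_assoc_of_third_deg_zero]⟩

section Square

variable {B' : Type u'} [Category.{v'} B'] [Abelian B'] [HasExt.{w} B'] {cB' : B'}
  (R' : A ⥤ B') [R'.Additive] [PreservesFiniteLimits R'] [PreservesFiniteColimits R']
  (c' : cB' ⟶ R'.obj Z) (K' : B' ⥤ C) [K'.Additive] [PreservesFiniteLimits K'] [PreservesFiniteColimits K']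
  (cK' : cC ⟶ K'.obj cB')

omit [EnoughInjectives B] in
theorem hpl_square (e : R ⋙ K ≅ R' ⋙ K') (h : (cK ≫ K.map c) ≫ e.hom.app Z = cK' ≫ K'.map c')
    (F : A) (n : ℕ) (x : Ext.{w} Z F n) :
    (hpl K cK (R.obj F) n (hpl R c F n x)).comp (Ext.mk₀ (e.hom.app F)) (add_zero n) =
      hpl K' cK' (R'.obj F) n (hpl R' c' F n x) := by
  haveI : PreservesFiniteLimits (R ⋙ K) := comp_preservesFiniteLimits R K
  haveI : PreservesFiniteColimits (R ⋙ K) := comp_preservesFiniteColimits R K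
  haveI : PreservesFiniteLimits (R' ⋙ K') := comp_preservesFiniteLimits R' K'
  haveI : PreservesFiniteColimits (R' ⋙ K') := comp_preservesFiniteColimits R' K'
  refine (congrArg (fun t => Ext.comp t (Ext.mk₀ (e.hom.app F)) (add_zero n)) (hpl_hpl R c K cK F n x)).trans ?_
  refine (hpl_natTrans (R ⋙ K) (cK ≫ K.map c) e.hom F n x).trans ?_
  refine Eq.trans ?_ (hpl_hpl R' c' K' cK' F n x).symm
  exact congrArg (fun t => hpl (R' ⋙ K') t F n x) h

end Square

end Generic

variable {X Y T T' : Scheme.{u}}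

/-- the map from the constant sheaf given by a global section -/
noncomputable def el {G : EtCoh.Ab T} (t : G.obj.obj (op (EtCoh.top T))) : EtCoh.const T ℤ ⟶ G :=
  ((EtCore.constAdj T).homEquiv _ _).symm
    (AddCommGrpCat.ofHom ((zmultiplesHom _ t).comp AddEquiv.ulift.toAddMonoidHom))

theorem el_comp {G H : EtCoh.Ab T} (t : G.obj.obj (op (EtCoh.top T))) (φ : G ⟶ H) :
    el t ≫ φ = el (φ.hom.app (op (EtCoh.top T)) t) := by
  refine ((EtCore.constAdj T).homEquiv_naturality_right_symm _ _).symm.trans (congrArg _ ?_)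
  refine AddCommGrpCat.hom_ext (AddMonoidHom.ext fun z => ?_)
  exact map_zsmul (φ.hom.app (op (EtCoh.top T))).hom z.down t

theorem el_pull (k : T' ⟶ T) {G : EtCoh.Ab T} (t : G.obj.obj (op (EtCoh.top T))) :
    (EtCore.pullConst k ℤ).inv ≫ (EtCoh.pull k).map (el t) = el ((EtMVLib.pullSec k).app G t) := by
  apply ((EtCore.constAdj T').homEquiv _ _).injective
  refine ((EtCore.constAdj T').homEquiv_naturality_right _ _).trans ?_
  refine (congrArg (· ≫ _) (EtMVLib.homEquiv_pullConst_inv k ℤ)).trans ?_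
  refine ((Category.assoc _ _ _).trans (congrArg (_ ≫ ·) ((EtMVLib.pullSec k).naturality (el t)).symm)).trans ?_
  refine (Category.assoc _ _ _).symm.trans ?_
  refine (congrArg (· ≫ (EtMVLib.pullSec k).app G) ((EtCore.constAdj T).homEquiv_unit _ _ (el t)).symm).trans ?_
  rw [el, el, Equiv.apply_symm_apply, Equiv.apply_symm_apply]
  refine AddCommGrpCat.hom_ext (AddMonoidHom.ext fun z => ?_)
  exact map_zsmul ((EtMVLib.pullSec k).app G).hom z.down t

section Sigma

/-- the section of `U ×_X T ⟶ T` given by a point `a` -/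
noncomputable def secT (p : T ⟶ X) (U : X.Etale) (a : T ⟶ U.left) (ha : a ≫ U.hom = p) :
    EtCoh.top T ⟶ (EtCoh.bc p).obj U :=
  MorphismProperty.Over.homMk
    (pullback.lift (f := U.hom) (g := p) a (𝟙 T) (ha.trans (Category.id_comp p).symm))
    (pullback.lift_snd _ _ _)

/-- the value of a section at a point -/
noncomputable def sig (p : T ⟶ X) (U : X.Etale) (a : T ⟶ U.left) (ha : a ≫ U.hom = p) (F : EtCoh.Ab X)
    (s : F.obj.obj (op U)) : ((EtCoh.pull p).obj F).obj.obj (op (EtCoh.top T)) :=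
  ((EtCoh.pull p).obj F).obj.map (secT p U a ha).op (((EtCoh.pullPushAdj p).unit.app F).hom.app (op U) s)

theorem sig_natural (p : T ⟶ X) (U : X.Etale) (a : T ⟶ U.left) (ha : a ≫ U.hom = p) {F G : EtCoh.Ab X}
    (φ : F ⟶ G) (s : F.obj.obj (op U)) :
    ((EtCoh.pull p).map φ).hom.app (op (EtCoh.top T)) (sig p U a ha F s) =
      sig p U a ha G (φ.hom.app (op U) s) := by
  refine (NatTrans.naturality_apply ((EtCoh.pull p).map φ).hom (secT p U a ha).op _).trans ?_
  refine congrArg (((EtCoh.pull p).obj G).obj.map (secT p U a ha).op) ?_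
  exact congrArg (fun m : F ⟶ (EtCoh.push p).obj ((EtCoh.pull p).obj G) => m.hom.app (op U) s)
    ((EtCoh.pullPushAdj p).unit.naturality φ).symm

theorem sig_map (p : T ⟶ X) {U U' : X.Etale} (g : U' ⟶ U) (a : T ⟶ U'.left) (ha : a ≫ U'.hom = p)
    (b : T ⟶ U.left) (hb : b ≫ U.hom = p) (e : a ≫ g.left = b) (F : EtCoh.Ab X) (s : F.obj.obj (op U)) :
    sig p U' a ha F (F.obj.map g.op s) = sig p U b hb F s := by
  subst e
  refine (congrArg _ (NatTrans.naturality_apply ((EtCoh.pullPushAdj p).unit.app F).hom g.op s)).trans ?_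
  refine (Functor.map_comp_apply ((EtCoh.pull p).obj F).obj ((EtCoh.bc p).map g).op (secT p U' a ha).op _).symm.trans ?_
  refine congrArg (fun m => ((EtCoh.pull p).obj F).obj.map (Quiver.Hom.op m) _) ?_
  refine MorphismProperty.Over.Hom.ext (pullback.hom_ext ?_ ?_)
  · refine (Category.assoc _ _ _).trans ((congrArg (_ ≫ ·) (EtCoh.isPullback_bc_map p g).w).trans ?_)
    refine (Category.assoc _ _ _).symm.trans ((congrArg (· ≫ g.left) (pullback.lift_fst _ _ _)).trans ?_)
    exact (pullback.lift_fst _ _ _).symm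
  · refine (Category.assoc _ _ _).trans
      ((congrArg (_ ≫ ·) (MorphismProperty.Over.w ((EtCoh.bc p).map g))).trans ?_)
    exact (pullback.lift_snd _ _ _).trans (pullback.lift_snd _ _ _).symm

theorem sig_congr {p p' : T ⟶ X} (h : p = p') (U : X.Etale) (a : T ⟶ U.left) (ha : a ≫ U.hom = p)
    (F : EtCoh.Ab X) (s : F.obj.obj (op U)) :
    ((EtCore.pullCongr h).hom.app F).hom.app (op (EtCoh.top T)) (sig p U a ha F s) =
      sig p' U a (ha.trans h) F s := by
  subst h
  rfl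

theorem sig_comp (k : T' ⟶ T) (p : T ⟶ X) (U : X.Etale) (b : T' ⟶ ((EtCoh.bc p).obj U).left)
    (hb : b ≫ ((EtCoh.bc p).obj U).hom = k) (hb' : (b ≫ pullback.fst U.hom p) ≫ U.hom = k ≫ p)
    (F : EtCoh.Ab X) (s : F.obj.obj (op U)) :
    ((EtCore.pullComp k p).hom.app F).hom.app (op (EtCoh.top T'))
        (sig (k ≫ p) U (b ≫ pullback.fst U.hom p) hb' F s) =
      sig k ((EtCoh.bc p).obj U) b hb ((EtCoh.pull p).obj F)
        (((EtCoh.pullPushAdj p).unit.app F).hom.app (op U) s) := by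
  have h : (EtCoh.pullPushAdj (k ≫ p)).unit.app F ≫ (EtCoh.push (k ≫ p)).map ((EtCore.pullComp k p).hom.app F) =
    ((EtCoh.pullPushAdj p).unit.app F ≫ (EtCoh.push p).map ((EtCoh.pullPushAdj k).unit.app _)) ≫
      (EtCoh.pushComp p k).hom.app _ := by
    refine (Adjunction.unit_leftAdjointUniq_hom_app (EtCoh.pullPushAdj (k ≫ p))
      (((EtCoh.pullPushAdj p).comp (EtCoh.pullPushAdj k)).ofNatIsoRight (EtCoh.pushComp p k)) F).trans ?_
    rw [Adjunction.ofNatIsoRight_unit]
    simp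
  refine (NatTrans.naturality_apply ((EtCore.pullComp k p).hom.app F).hom
    (secT (k ≫ p) U (b ≫ pullback.fst U.hom p) hb').op _).trans ?_
  refine (congrArg _ (congrArg (fun m : F ⟶ (EtCoh.push (k ≫ p)).obj ((EtCoh.pull k).obj ((EtCoh.pull p).obj F)) =>
    m.hom.app (op U) s) h)).trans ?_
  change ((EtCoh.pull k).obj ((EtCoh.pull p).obj F)).obj.map _
    (((EtCoh.pull k).obj ((EtCoh.pull p).obj F)).obj.map (Quiver.Hom.op _) _) = _
  refine (Functor.map_comp_apply _ _ _ _).symm.trans ?_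
  refine congrArg (fun m => ((EtCoh.pull k).obj ((EtCoh.pull p).obj F)).obj.map (Quiver.Hom.op m) _) ?_
  refine MorphismProperty.Over.Hom.ext ?_
  change pullback.lift (f := U.hom) (g := k ≫ p) (b ≫ pullback.fst U.hom p) (𝟙 T') _ ≫ _ =
    pullback.lift (f := pullback.snd U.hom p) (g := k) b (𝟙 T') _
  apply pullback.hom_ext
  · apply pullback.hom_ext
    · simp [MorphismProperty.Over.pullbackComp]
      erw [pullbackLeftPullbackSndIso_inv_fst]
      exact (pullback.lift_fst _ _ _).trans ((congrArg (· ≫ pullback.fst U.hom p) (pullback.lift_fst b (𝟙 T') (hb.trans (Category.id_comp k).symm)).symm).trans (Category.assoc _ _ _))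
    · simp [MorphismProperty.Over.pullbackComp]
      erw [pullbackLeftPullbackSndIso_inv_fst_snd]
      refine ((Category.assoc _ _ _).symm.trans ((congrArg (· ≫ k) (pullback.lift_snd _ _ _)).trans (Category.id_comp k))).trans ?_
      exact ((Category.assoc _ _ _).symm.trans ((congrArg (· ≫ pullback.snd U.hom p) (pullback.lift_fst b (𝟙 T') (hb.trans (Category.id_comp k).symm))).trans hb)).symm
  · simp [MorphismProperty.Over.pullbackComp]
    erw [pullbackLeftPullbackSndIso_inv_snd_snd]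
    exact (pullback.lift_snd _ _ _).trans (pullback.lift_snd b (𝟙 T') (hb.trans (Category.id_comp k).symm)).symm

theorem pullSec_eq_sig (k : T' ⟶ T) (G : EtCoh.Ab T) (t : G.obj.obj (op (EtCoh.top T))) :
    (EtMVLib.pullSec k).app G t = sig k (EtCoh.top T) k (Category.comp_id k) G t := by
  refine congrArg (fun m => ((EtCoh.pull k).obj G).obj.map (Quiver.Hom.op m) _) ?_
  exact (EtCore.bcTopIsTerminal k).hom_ext _ _

theorem pullSec_sig (k : T' ⟶ T) (p : T ⟶ X) (U : X.Etale) (a : T ⟶ U.left) (ha : a ≫ U.hom = p)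
    (F : EtCoh.Ab X) (s : F.obj.obj (op U)) :
    (EtMVLib.pullSec k).app ((EtCoh.pull p).obj F) (sig p U a ha F s) =
      ((EtCore.pullComp k p).hom.app F).hom.app (op (EtCoh.top T'))
        (sig (k ≫ p) U (k ≫ a) ((Category.assoc _ _ _).trans (congrArg (k ≫ ·) ha)) F s) := by
  let b : T' ⟶ ((EtCoh.bc p).obj U).left := k ≫ (secT p U a ha).left
  have hb : b ≫ ((EtCoh.bc p).obj U).hom = k :=
    (Category.assoc _ _ _).trans ((congrArg (k ≫ ·) (pullback.lift_snd _ _ _)).trans (Category.comp_id k))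
  have hb1 : b ≫ pullback.fst U.hom p = k ≫ a :=
    (Category.assoc _ _ _).trans (congrArg (k ≫ ·) (pullback.lift_fst _ _ _))
  rw [pullSec_eq_sig]
  refine (sig_map k (secT p U a ha) k (Category.comp_id k) b hb rfl _ _).trans ?_
  refine (sig_comp k p U b hb (by rw [hb1, Category.assoc, ha]) F s).symm.trans ?_
  congr 2

end Sigma

theorem restr_eq_sig (j : T ⟶ X) [AlgebraicGeometry.Etale j] [EtShriek.JCont j] (U : X.Etale) (a : T ⟶ U.left)
    (ha : a ≫ U.hom = j) (F : EtCoh.Ab X) (s : F.obj.obj (op U)) :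
    ((EtLC12.AffineLocalAcyclic.restrIsoPull j).hom.app F).hom.app (op (EtCoh.top T))
      (F.obj.map (MorphismProperty.Over.homMk a (ha.trans (Category.id_comp j).symm) :
        (EtShriek.compEtale j).obj (EtCoh.top T) ⟶ U).op s) = sig j U a ha F s := by
  let adj' : EtShriek.compEtale j ⊣ EtCoh.bc j :=
    MorphismProperty.Over.mapPullbackAdj EtCoh.etaleMP ⊤ j (inferInstanceAs (AlgebraicGeometry.Etale j)) trivial
  have hu := Adjunction.unit_leftAdjointUniq_hom_app
    (adj'.sheafPushforwardContinuous (E := AddCommGrpCat.{u + 1}) T.smallEtaleTopology X.smallEtaleTopology)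
    (EtCoh.pullPushAdj j) F
  refine Eq.trans ?_ (congrArg (((EtCoh.pull j).obj F).obj.map (secT j U a ha).op)
    (congrArg (fun m : F ⟶ (EtCoh.push j).obj ((EtCoh.pull j).obj F) => m.hom.app (op U) s) hu))
  refine Eq.trans ?_ (NatTrans.naturality_apply ((EtLC12.AffineLocalAcyclic.restrIsoPull j).hom.app F).hom
    (secT j U a ha).op _)
  refine congrArg (((EtLC12.AffineLocalAcyclic.restrIsoPull j).hom.app F).hom.app (op (EtCoh.top T))) ?_
  refine Eq.trans ?_ (Functor.map_comp_apply F.obj _ _ _)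
  refine congrArg (fun m => F.obj.map (Quiver.Hom.op m) s) ?_
  refine MorphismProperty.Over.Hom.ext ?_
  exact (pullback.lift_fst a (𝟙 T) _).symm

theorem topCls_eq (U : X.Etale) :
    topCls U = el (sig U.hom U (𝟙 U.left) (Category.id_comp _) (ZU U) (univSec U)) := by
  haveI : AlgebraicGeometry.Etale U.hom := U.prop
  haveI := EtFound.jCont U.hom
  exact congrArg el (restr_eq_sig U.hom U (𝟙 U.left) (Category.id_comp _) (ZU U) (univSec U))

theorem trans₃_app {A B : Type*} [Category A] [Category B] {P Q R S : A ⥤ B} (a : Q ≅ P) (b : Q ≅ R) (c : R ≅ S)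
    (z : A) : (a.symm ≪≫ b ≪≫ c).hom.app z = a.inv.app z ≫ b.hom.app z ≫ c.hom.app z := rfl

theorem app_comp₃ {Z : Scheme.{u}} {F G H K : EtCoh.Ab Z} (a : F ⟶ G) (b : G ⟶ H) (c : H ⟶ K) (m : F ⟶ K)
    (hm : m = a ≫ b ≫ c) (U : Z.Etaleᵒᵖ) (z : F.obj.obj U) :
    m.hom.app U z = c.hom.app U (b.hom.app U (a.hom.app U z)) := by
  subst hm; rfl

theorem app_symm_trans₃ {A : Type*} [Category A] {Z : Scheme.{u}} {P Q R S : A ⥤ EtCoh.Ab Z} (a : Q ≅ P) (b : Q ≅ R)
    (c : R ≅ S) (F : A) {U : Z.Etaleᵒᵖ} (z : (Q.obj F).obj.obj U) :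
    ((a.symm ≪≫ b ≪≫ c).hom.app F).hom.app U ((a.hom.app F).hom.app U z) =
      (c.hom.app F).hom.app U ((b.hom.app F).hom.app U z) := by
  refine (app_comp₃ (a.inv.app F) (b.hom.app F) (c.hom.app F) _ (trans₃_app a b c F) _ _).trans ?_
  exact congrArg _ (congrArg _ (congrArg (fun m : Q.obj F ⟶ Q.obj F => m.hom.app U z) (a.hom_inv_id_app F)))

/-- pullbacks along a commutative square -/
noncomputable def sqG (f : X ⟶ Y) (k₁ : T ⟶ X) (k₂ : T ⟶ T') (w : T' ⟶ Y) (h : k₁ ≫ f = k₂ ≫ w) :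
    EtCoh.pull f ⋙ EtCoh.pull k₁ ≅ EtCoh.pull w ⋙ EtCoh.pull k₂ :=
  (EtCore.pullComp k₁ f).symm ≪≫ EtCore.pullCongr h ≪≫ EtCore.pullComp k₂ w

theorem sqG_def (f : X ⟶ Y) (k₁ : T ⟶ X) (k₂ : T ⟶ T') (w : T' ⟶ Y) (h : k₁ ≫ f = k₂ ≫ w) :
    sqG f k₁ k₂ w h = (EtCore.pullComp k₁ f).symm ≪≫ EtCore.pullCongr h ≪≫ EtCore.pullComp k₂ w := rfl

theorem sig_square (f : X ⟶ Y) (k₁ : T ⟶ X) (k₂ : T ⟶ T') (w : T' ⟶ Y) (h : k₁ ≫ f = k₂ ≫ w)
    (U : Y.Etale) (a : T' ⟶ U.left) (ha : a ≫ U.hom = w) (b : T ⟶ U.left) (hb : b ≫ U.hom = k₁ ≫ f)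
    (e : b = k₂ ≫ a) (F : EtCoh.Ab Y) (s : F.obj.obj (op U)) :
    ((sqG f k₁ k₂ w h).hom.app F).hom.app (op (EtCoh.top T))
        (((EtCore.pullComp k₁ f).hom.app F).hom.app (op (EtCoh.top T)) (sig (k₁ ≫ f) U b hb F s)) =
      (EtMVLib.pullSec k₂).app ((EtCoh.pull w).obj F) (sig w U a ha F s) := by
  subst e
  rw [sqG_def]
  rw [app_symm_trans₃ (EtCore.pullComp k₁ f) (EtCore.pullCongr h) (EtCore.pullComp k₂ w) F, sig_congr,
    pullSec_sig k₂ w U a ha F s]

theorem cls_square (f : X ⟶ Y) (k₁ : T ⟶ X) (k₂ : T ⟶ T') (w : T' ⟶ Y) (h : k₁ ≫ f = k₂ ≫ w)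
    (U : Y.Etale) (a : T' ⟶ U.left) (ha : a ≫ U.hom = w) (b : T ⟶ U.left) (hb : b ≫ U.hom = k₁ ≫ f)
    (e : b = k₂ ≫ a) (F : EtCoh.Ab Y) (s : F.obj.obj (op U)) :
    el (((EtCore.pullComp k₁ f).hom.app F).hom.app (op (EtCoh.top T)) (sig (k₁ ≫ f) U b hb F s)) ≫
        (sqG f k₁ k₂ w h).hom.app F =
      (EtCore.pullConst k₂ ℤ).inv ≫ (EtCoh.pull k₂).map (el (sig w U a ha F s)) :=
  ((el_comp _ _).trans (congrArg el (sig_square f k₁ k₂ w h U a ha b hb e F s))).trans (el_pull k₂ _).symm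

section PT

variable (f : X ⟶ Y)

/-- `ZU (f⁻¹ W) ⟶ f⁻¹ (ZU W)` -/
noncomputable def ptCls (W : Y.Etale) : ZU ((EtCoh.bc f).obj W) ⟶ (EtCoh.pull f).obj (ZU W) :=
  (zuEquiv _ _).symm (((EtCoh.pullPushAdj f).unit.app (ZU W)).hom.app (op W) (univSec W))

theorem ptCls_natural {W W' : Y.Etale} (g : W' ⟶ W) :
    ZUmap ((EtCoh.bc f).map g) ≫ ptCls f W = ptCls f W' ≫ (EtCoh.pull f).map (ZUmap g) := by
  apply (zuEquiv _ _).injective
  rw [zuEquiv_ZUmap, zuEquiv_comp, ptCls, ptCls, Equiv.apply_symm_apply, Equiv.apply_symm_apply]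
  refine (NatTrans.naturality_apply ((EtCoh.pullPushAdj f).unit.app (ZU W)).hom g.op _).symm.trans ?_
  refine Eq.trans ?_ (congrArg (fun m : ZU W' ⟶ (EtCoh.push f).obj ((EtCoh.pull f).obj (ZU W)) =>
    m.hom.app (op W') (univSec W')) ((EtCoh.pullPushAdj f).unit.naturality (ZUmap g)))
  refine congrArg (((EtCoh.pullPushAdj f).unit.app (ZU W)).hom.app (op W')) ?_
  refine Eq.trans ?_ ((zuEquiv_ZUmap g (𝟙 (ZU W))).symm.trans ?_)
  · rfl
  · rw [Category.comp_id, zuEquiv_eq]
    rfl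

variable [PreservesFiniteLimits (EtCoh.pull f)]

/-- pullback `H^q(W, F) → H^q(f⁻¹ W, f⁻¹ F)` -/
noncomputable def PT (F : EtCoh.Ab Y) (q : ℕ) (W : Y.Etale) :
    HT F q W →+ HT ((EtCoh.pull f).obj F) q ((EtCoh.bc f).obj W) :=
  hpl (EtCoh.pull f) (ptCls f W) F q

theorem PT_res (F : EtCoh.Ab Y) (q : ℕ) {W W' : Y.Etale} (g : W' ⟶ W) (x : HT F q W) :
    PT f F q W' (HTres F q g x) = HTres ((EtCoh.pull f).obj F) q ((EtCoh.bc f).map g) (PT f F q W x) := by
  change (Ext.mk₀ (ptCls f W')).comp (((Ext.mk₀ (ZUmap g)).comp x (zero_add q)).mapExactFunctor (EtCoh.pull f))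
      (zero_add q) =
    (Ext.mk₀ (ZUmap ((EtCoh.bc f).map g))).comp
      ((Ext.mk₀ (ptCls f W)).comp (x.mapExactFunctor (EtCoh.pull f)) (zero_add q)) (zero_add q)
  rw [Ext.mapExactFunctor_comp, Ext.mapExactFunctor_mk₀, Ext.mk₀_comp_mk₀_assoc, Ext.mk₀_comp_mk₀_assoc,
    ptCls_natural]

/-- the square of pullbacks over `W` -/
noncomputable def sqIso (W : Y.Etale) :
    EtCoh.pull f ⋙ EtCoh.pull (pullback.snd W.hom f) ≅
      EtCoh.pull W.hom ⋙ EtCoh.pull (pullback.fst W.hom f) :=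
  sqG f (pullback.snd W.hom f) (pullback.fst W.hom f) W.hom pullback.condition.symm

omit [PreservesFiniteLimits (EtCoh.pull f)] in
theorem sqIso_def (W : Y.Etale) :
    sqIso f W = sqG f (pullback.snd W.hom f) (pullback.fst W.hom f) W.hom pullback.condition.symm := rfl

omit [PreservesFiniteLimits (EtCoh.pull f)] in
theorem ptCls_univ (W : Y.Etale) :
    (ptCls f W).hom.app (op ((EtCoh.bc f).obj W)) (univSec ((EtCoh.bc f).obj W)) =
      ((EtCoh.pullPushAdj f).unit.app (ZU W)).hom.app (op W) (univSec W) := by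
  rw [← zuEquiv_eq, ptCls, Equiv.apply_symm_apply]

omit [PreservesFiniteLimits (EtCoh.pull f)] in
theorem sig_ptCls (W : Y.Etale) :
    ((EtCoh.pull (pullback.snd W.hom f)).map (ptCls f W)).hom.app (op (EtCoh.top _))
      (sig (pullback.snd W.hom f) ((EtCoh.bc f).obj W) (𝟙 _) (Category.id_comp _) _ (univSec ((EtCoh.bc f).obj W))) =
      ((EtCore.pullComp (pullback.snd W.hom f) f).hom.app (ZU W)).hom.app (op (EtCoh.top _))
        (sig (pullback.snd W.hom f ≫ f) W (pullback.fst W.hom f) pullback.condition (ZU W) (univSec W)) := by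
  refine (sig_natural _ _ _ _ _ _).trans ?_
  rw [ptCls_univ]
  refine (sig_comp (pullback.snd W.hom f) f W (𝟙 _) (Category.id_comp _) ?_ (ZU W) (univSec W)).symm.trans ?_
  · exact (congrArg (· ≫ W.hom) (Category.id_comp _)).trans pullback.condition
  · congr 2

omit [PreservesFiniteLimits (EtCoh.pull f)] in
theorem cls_ptCls (W : Y.Etale) :
    topCls ((EtCoh.bc f).obj W) ≫ (EtCoh.pull (pullback.snd W.hom f)).map (ptCls f W) =
      el (((EtCore.pullComp (pullback.snd W.hom f) f).hom.app (ZU W)).hom.app (op (EtCoh.top _))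
        (sig (pullback.snd W.hom f ≫ f) W (pullback.fst W.hom f) pullback.condition (ZU W) (univSec W))) :=
  ((congrArg (· ≫ _) (topCls_eq _)).trans (el_comp _ _)).trans (congrArg el (sig_ptCls f W))

omit [PreservesFiniteLimits (EtCoh.pull f)] in
theorem sqIso_cls (W : Y.Etale) :
    (topCls ((EtCoh.bc f).obj W) ≫ (EtCoh.pull (pullback.snd W.hom f)).map (ptCls f W)) ≫
        (sqIso f W).hom.app (ZU W) =
      (EtCore.pullConst (pullback.fst W.hom f) ℤ).inv ≫
        (EtCoh.pull (pullback.fst W.hom f)).map (topCls W) := by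
  rw [cls_ptCls, sqIso_def, topCls_eq W]
  exact cls_square f (pullback.snd W.hom f) (pullback.fst W.hom f) W.hom pullback.condition.symm W
    (𝟙 W.left) (Category.id_comp _) (pullback.fst W.hom f) pullback.condition (Category.comp_id _).symm
    (ZU W) (univSec W)

theorem toH_PT (W : Y.Etale) [PreservesFiniteLimits (EtCoh.pull (pullback.fst W.hom f))]
    (F : EtCoh.Ab Y) (q : ℕ) (x : HT F q W) :
    (toH ((EtCoh.bc f).obj W) ((EtCoh.pull f).obj F) q (PT f F q W x)).comp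
        (Ext.mk₀ ((sqIso f W).hom.app F)) (add_zero q) =
      EtCore.Hpull (pullback.fst W.hom f) ((EtCoh.pull W.hom).obj F) q (toH W F q x) := by
  let wh : W.left ⟶ Y := W.hom
  haveI : PreservesFiniteLimits (EtCoh.pull wh) := EtFound.pull_preservesFiniteLimits wh
  haveI := EtFound.pull_preservesFiniteLimits (pullback.snd W.hom f)
  let k₂ : pullback W.hom f ⟶ W.left := pullback.fst W.hom f
  haveI : PreservesFiniteLimits (EtCoh.pull k₂) := EtFound.pull_preservesFiniteLimits k₂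
  exact hpl_square (EtCoh.pull f) (ptCls f W) (EtCoh.pull (pullback.snd W.hom f))
    (topCls ((EtCoh.bc f).obj W)) (EtCoh.pull wh) (topCls W) (EtCoh.pull k₂)
    (EtCore.pullConst (pullback.fst W.hom f) ℤ).inv (sqIso f W) (sqIso_cls f W) F q x

theorem PT_bijective (W : Y.Etale) [PreservesFiniteLimits (EtCoh.pull (pullback.fst W.hom f))]
    (F : EtCoh.Ab Y) (q : ℕ)
    (h : Function.Bijective (EtCore.Hpull (pullback.fst W.hom f) ((EtCoh.pull W.hom).obj F) q)) :
    Function.Bijective (PT f F q W) := by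
  have h1 := h.comp (toH_bijective W q F)
  have e : (fun z => Ext.comp z (Ext.mk₀ ((sqIso f W).hom.app F)) (add_zero q)) ∘
      (toH ((EtCoh.bc f).obj W) ((EtCoh.pull f).obj F) q) ∘ (PT f F q W) =
      (EtCore.Hpull (pullback.fst W.hom f) ((EtCoh.pull W.hom).obj F) q) ∘ (toH W F q) :=
    funext (toH_PT f W F q)
  rw [← e] at h1
  have h2 : Function.Bijective ((toH ((EtCoh.bc f).obj W) ((EtCoh.pull f).obj F) q) ∘ (PT f F q W)) := by
    have hb := bijective_comp_mk₀ ((sqIso f W).app F) (EtCoh.const ((EtCoh.bc f).obj W).left ℤ) q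
    exact ⟨Function.Injective.of_comp h1.1, fun z => (h1.2 _).imp fun a ha => hb.1 ha⟩
  have h3 := toH_bijective ((EtCoh.bc f).obj W) q ((EtCoh.pull f).obj F)
  exact ⟨Function.Injective.of_comp h2.1, fun z => (h2.2 (toH _ _ q z)).imp fun a ha => h3.1 ha⟩

end PT

end Groth.Agent.EtDerLib
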