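import Groth.Agent.EtDerLib.HpullNat
import Groth.Agent.EtMVLib.Abstract
import Mathlib.CategoryTheory.Abelian.Injective.Ext

/-!
# Maps of Ext groups induced by an exact functor, and short exact sequences
-/

set_option autoImplicit false

universe w v v' u u'

open CategoryTheory CategoryTheory.Limits CategoryTheory.Abelian

namespace Groth.Agent.EtDerLib

set_option linter.style.haveILetI false

variable {A : Type u} [Category.{v} A] [Abelian A] [HasExt.{w} A]
  {B : Type u'} [Category.{v'} B] [Abelian B] [HasExt.{w} B]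
  {Z : A} {cB : B} (R : A ⥤ B) [R.Additive] [PreservesFiniteLimits R] [PreservesFiniteColimits R]
  (c : cB ⟶ R.obj Z)

/-- pullback on Ext groups from a distinguished object -/
noncomputable abbrev hpl (F : A) (n : ℕ) : Ext.{w} Z F n →+ Ext.{w} cB (R.obj F) n :=
  AddMonoidHom.comp
    (AddMonoidHom.mk' (fun e => (Ext.mk₀ c).comp e (zero_add n)) (fun _ _ => Ext.comp_add _ _ _ _))
    (R.mapExtAddHom _ _ n)

theorem hpl_comp {F G : A} {n k m : ℕ} (x : Ext.{w} Z F n) (e : Ext.{w} F G k) (h : n + k = m) :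
    hpl R c G m (x.comp e h) = (hpl R c F n x).comp (e.mapExactFunctor R) h := by
  change (Ext.mk₀ c).comp ((x.comp e h).mapExactFunctor R) (zero_add m) =
    ((Ext.mk₀ c).comp (x.mapExactFunctor R) (zero_add n)).comp (e.mapExactFunctor R) h
  rw [Ext.mapExactFunctor_comp]
  exact (Ext.comp_assoc _ _ _ (zero_add n) h (by omega)).symm

theorem hpl_natural {F G : A} (a : F ⟶ G) (n : ℕ) (x : Ext.{w} Z F n) :
    hpl R c G n (x.comp (Ext.mk₀ a) (add_zero n)) = (hpl R c F n x).comp (Ext.mk₀ (R.map a)) (add_zero n) := by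
  rw [hpl_comp, Ext.mapExactFunctor_mk₀]

theorem hpl_δ {S : ShortComplex A} (hS : S.ShortExact) {n m : ℕ} (h : n + 1 = m) (x : Ext.{w} Z S.X₃ n) :
    hpl R c S.X₁ m (x.comp hS.extClass h) = (hpl R c S.X₃ n x).comp (hS.map_of_exact R).extClass h :=
  (hpl_comp R c x hS.extClass h).trans (congrArg (fun t => Ext.comp _ t h) (Ext.mapExactFunctor_extClass _ hS))

/-- bijective in degrees `p + 1 < n` and injective in degree `p + 1 = n` -/
def BijBelowA (F : A) (n : ℕ) : Prop :=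
  (∀ p : ℕ, p + 1 < n → Function.Bijective (hpl R c F p)) ∧
    (∀ p : ℕ, p + 1 = n → Function.Injective (hpl R c F p))

variable {S : ShortComplex A} (hS : S.ShortExact) (hB : ∀ p, Function.Bijective (hpl R c S.X₂ p))

include hS hB
set_option linter.unusedSectionVars false

theorem ladder_zero_surjective (hC : Function.Injective (hpl R c S.X₃ 0)) :
    Function.Surjective (hpl R c S.X₁ 0) := fun y => by
  obtain ⟨t, ht⟩ := (hB 0).2 (y.comp (Ext.mk₀ (R.map S.f)) (add_zero 0))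
  have h0 : t.comp (Ext.mk₀ S.g) (add_zero 0) = 0 := by
    refine hC ?_
    rw [hpl_natural R c, ht, Ext.comp_assoc_of_second_deg_zero, Ext.mk₀_comp_mk₀, ← Functor.map_comp, S.zero,
      Functor.map_zero, Ext.mk₀_zero, Ext.comp_zero, map_zero]
  obtain ⟨s, hs⟩ := Ext.covariant_sequence_exact₂ _ hS t h0
  refine ⟨s, sub_eq_zero.1 ?_⟩
  haveI := hS.mono_f
  haveI : Mono (R.map S.f) := (hS.map_of_exact R).mono_f
  refine Ext.postcomp_mk₀_injective_of_mono _ (R.map S.f) (Eq.trans ?_ (map_zero _).symm)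
  change (hpl R c S.X₁ 0 s - y).comp (Ext.mk₀ (R.map S.f)) (add_zero 0) = 0
  rw [sub_eq_add_neg, Ext.add_comp, Ext.neg_comp, ← hpl_natural R c, ← sub_eq_add_neg, ← ht]
  exact sub_eq_zero.2 (congrArg _ hs)

theorem ladder_succ_surjective (p : ℕ) (hC : Function.Surjective (hpl R c S.X₃ p))
    (h₂ : Subsingleton (Ext.{w} cB (R.obj S.X₂) (p + 1))) :
    Function.Surjective (hpl R c S.X₁ (p + 1)) := fun y => by
  obtain ⟨z, hz⟩ := Ext.covariant_sequence_exact₁ _ (hS.map_of_exact R) y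
    (h₂.elim _ _) (n₀ := p) rfl
  obtain ⟨w, hw⟩ := hC z
  exact ⟨w.comp hS.extClass rfl, (hpl_δ R c hS rfl w).trans ((congrArg (fun t => Ext.comp t _ rfl) hw).trans hz)⟩

theorem ladder_succ_injective (p : ℕ) (hC : Function.Injective (hpl R c S.X₃ p))
    (h₂ : Subsingleton (Ext.{w} Z S.X₂ (p + 1))) :
    Function.Injective (hpl R c S.X₁ (p + 1)) := by
  rw [injective_iff_map_eq_zero]
  intro x hx
  obtain ⟨w, hw⟩ := Ext.covariant_sequence_exact₁ _ hS x (h₂.elim _ _) (n₀ := p) rfl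
  have h0 : (hpl R c S.X₃ p w).comp (hS.map_of_exact R).extClass rfl = 0 :=
    (hpl_δ R c hS rfl w).symm.trans ((congrArg (hpl R c S.X₁ (p + 1)) hw).trans hx)
  obtain ⟨z, hz⟩ := Ext.covariant_sequence_exact₃ _ (hS.map_of_exact R) _ rfl h0
  obtain ⟨t, ht⟩ := (hB p).2 z
  have hw' : w = t.comp (Ext.mk₀ S.g) (add_zero p) := hC (by
    rw [hpl_natural R c, ht]
    exact hz.symm)
  have h1 : (Ext.mk₀ S.g).comp hS.extClass (zero_add 1) = 0 := hS.comp_extClass
  rw [← hw, hw', Ext.comp_assoc_of_second_deg_zero, h1, Ext.comp_zero]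

theorem ladder_X₃_injective (p : ℕ) (hA : Function.Injective (hpl R c S.X₁ (p + 1)))
    (hA' : Function.Surjective (hpl R c S.X₁ p)) : Function.Injective (hpl R c S.X₃ p) := by
  rw [injective_iff_map_eq_zero]
  intro w hw
  have h0 : w.comp hS.extClass rfl = 0 :=
    hA ((hpl_δ R c hS rfl w).trans ((congrArg (fun t => Ext.comp t _ rfl) hw).trans
      ((Ext.zero_comp _ _ _ _ _).trans (map_zero _).symm)))
  obtain ⟨t, ht⟩ := Ext.covariant_sequence_exact₃ _ hS w (n₁ := p + 1) rfl h0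
  have h2 : (hpl R c S.X₂ p t).comp (Ext.mk₀ (R.map S.g)) (add_zero p) = 0 := by
    rw [← hpl_natural R c, ht, hw]
  obtain ⟨s, hs⟩ := Ext.covariant_sequence_exact₂ _ (hS.map_of_exact R) _ h2
  obtain ⟨r, hr⟩ := hA' s
  have ht' : t = r.comp (Ext.mk₀ S.f) (add_zero p) := (hB p).1 (by
    rw [hpl_natural R c, hr]
    exact hs.symm)
  rw [← ht, ht', Ext.comp_assoc_of_second_deg_zero, Ext.mk₀_comp_mk₀, S.zero, Ext.mk₀_zero, Ext.comp_zero]

theorem ladder_X₃_surjective (p : ℕ) (hA : Function.Surjective (hpl R c S.X₁ (p + 1))) :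
    Function.Surjective (hpl R c S.X₃ p) := fun y => by
  obtain ⟨x, hx⟩ := hA (y.comp (hS.map_of_exact R).extClass rfl)
  have h0 : x.comp (Ext.mk₀ S.f) (add_zero _) = 0 := (hB (p + 1)).1 (by
    rw [hpl_natural R c, map_zero, hx]
    exact (Ext.comp_assoc y _ _ rfl (add_zero 1) (by omega)).trans
      ((congrArg (fun t => Ext.comp y t rfl) (hS.map_of_exact R).extClass_comp).trans (Ext.comp_zero _ _ _ _ _)))
  obtain ⟨w, hw⟩ := Ext.covariant_sequence_exact₁ _ hS x h0 (n₀ := p) rfl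
  have h1 : (hpl R c S.X₃ p w - y).comp (hS.map_of_exact R).extClass rfl = 0 := by
    rw [sub_eq_add_neg, Ext.add_comp, Ext.neg_comp, ← sub_eq_add_neg, sub_eq_zero]
    exact (hpl_δ R c hS rfl w).symm.trans ((congrArg _ hw).trans hx)
  obtain ⟨z, hz⟩ := Ext.covariant_sequence_exact₃ _ (hS.map_of_exact R) _ rfl h1
  obtain ⟨t, ht⟩ := (hB p).2 z
  refine ⟨w - t.comp (Ext.mk₀ S.g) (add_zero p), ?_⟩
  rw [map_sub, hpl_natural R c, ht]
  exact (congrArg (fun v => hpl R c S.X₃ p w - v) hz).trans (sub_sub_cancel _ _)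

/-- dimension shifting of the pullback condition -/
theorem bijBelow_succ_iff (hv : ∀ p, Subsingleton (Ext.{w} Z S.X₂ (p + 1)))
    (hv' : ∀ p, Subsingleton (Ext.{w} cB (R.obj S.X₂) (p + 1))) (n : ℕ) :
    BijBelowA R c S.X₁ (n + 1) ↔ Function.Injective (hpl R c S.X₁ 0) ∧ BijBelowA R c S.X₃ n := by
  refine ⟨fun h => ⟨?_, fun p hp => ⟨?_, ?_⟩, fun p hp => ?_⟩, fun ⟨h0, h⟩ => ⟨fun p hp => ?_, fun p hp => ?_⟩⟩
  · rcases n.eq_zero_or_pos with rfl | hn
    · exact h.2 0 rfl
    · exact (h.1 0 (by omega)).1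
  · exact ladder_X₃_injective R c hS hB p (h.1 (p + 1) (by omega)).1 (h.1 p (by omega)).2
  · exact ladder_X₃_surjective R c hS hB p (h.1 (p + 1) (by omega)).2
  · exact ladder_X₃_injective R c hS hB p (h.2 (p + 1) (by omega)) (h.1 p (by omega)).2
  · rcases p with _ | p
    · refine ⟨h0, ladder_zero_surjective R c hS hB ?_⟩
      rcases (Nat.succ_le_of_lt (by omega : 0 < n)).eq_or_lt with e | e
      · exact h.2 0 e
      · exact (h.1 0 e).1
    · exact ⟨ladder_succ_injective R c hS hB p (h.1 p (by omega)).1 (hv p),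
        ladder_succ_surjective R c hS hB p (h.1 p (by omega)).2 (hv' p)⟩
  · rcases p with _ | p
    · exact h0
    · exact ladder_succ_injective R c hS hB p (h.2 p (by omega)) (hv p)

omit hS hB

section Scheme

open AlgebraicGeometry

/-- the condition for pullback of etale cohomology -/
abbrev BijBelow {X Y : Scheme.{u}} (f : X ⟶ Y) [PreservesFiniteLimits (EtCoh.pull f)] (F : EtCoh.Ab Y) (n : ℕ) : Prop :=
  BijBelowA (EtCoh.pull f) (EtCore.pullConst f ℤ).inv F n

theorem bijBelow_iff {X Y : Scheme.{u}} (f : X ⟶ Y) [PreservesFiniteLimits (EtCoh.pull f)] (F : EtCoh.Ab Y) (n : ℕ) :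
    BijBelow f F n ↔ (∀ p : ℕ, p + 1 < n → Function.Bijective (EtCore.Hpull f F p)) ∧
      (∀ p : ℕ, p + 1 = n → Function.Injective (EtCore.Hpull f F p)) := Iff.rfl

end Scheme

end Groth.Agent.EtDerLib
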