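import Groth.Agent.BigSiteLib.HofPushBij
import Groth.Agent.EtDerLib.Ladder

/-!
# Leray in the case of vanishing of the first higher direct images
-/

set_option autoImplicit false

universe w v v' u u'

open CategoryTheory CategoryTheory.Limits CategoryTheory.Abelian

namespace Groth.Agent.EtDerLib

open BigSiteLib.HofBij

set_option linter.style.haveILetI false

variable {A : Type u} [Category.{v} A] [Abelian A] [EnoughInjectives A] [HasExt.{w} A]
  {B : Type u'} [Category.{v'} B] [Abelian B] [HasExt.{w} B]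
  {L : B ⥤ A} {R : A ⥤ B} [L.Additive] [R.Additive] [PreservesFiniteLimits L] [PreservesFiniteColimits L]
  (adj : L ⊣ R) {ZA : A} {ZB : B} (i : ZA ⟶ L.obj ZB)

omit [EnoughInjectives A] [R.Additive] in
theorem hof_unit (G : B) (p : ℕ) (x : Ext.{w} ZB G p) :
    hof adj i (L.obj G) p (x.comp (Ext.mk₀ (adj.unit.app G)) (add_zero p)) = hpl L i G p x := by
  change ((Ext.mk₀ i).comp ((x.comp (Ext.mk₀ (adj.unit.app G)) (add_zero p)).mapExactFunctor L) (zero_add p)).comp
      (Ext.mk₀ (adj.counit.app (L.obj G))) (add_zero p) = (Ext.mk₀ i).comp (x.mapExactFunctor L) (zero_add p)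
  rw [Ext.mapExactFunctor_comp, Ext.mapExactFunctor_mk₀, Ext.comp_assoc_of_third_deg_zero,
    Ext.comp_assoc_of_third_deg_zero, Ext.mk₀_comp_mk₀, adj.left_triangle_components, Ext.comp_mk₀_id]

omit [EnoughInjectives A] [R.Additive] in
theorem hof_zero (F : A) (p : ℕ) : hof adj i F p 0 = 0 := by simp [hof]

theorem hof_injective_iff (F : A) (p : ℕ) :
    Function.Injective (hof adj i F p) ↔ ∀ x, hof adj i F p x = 0 → x = 0 :=
  (injective_iff_map_eq_zero (AddMonoidHom.mk' (hof adj i F p) (hof_add adj i F p)))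

theorem hof_trunc (hi : IsIso i) [PreservesFiniteLimits R] : ∀ (n : ℕ) (F : A),
    (∀ q : ℕ, 1 ≤ q → q ≤ n → IsZero ((R.rightDerived q).obj F)) →
      (∀ p ≤ n, Function.Bijective (hof adj i F p)) ∧ Function.Injective (hof adj i F (n + 1)) := by
  intro n
  induction n with
  | zero =>
    intro F _
    refine ⟨fun p hp => by obtain rfl : p = 0 := (by omega); exact hof_bijective_zero adj i hi F,
      (hof_injective_iff adj i F 1).2 fun x hx => ?_⟩
    let Q := Classical.arbitrary (InjectivePresentation F)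
    have hS := Q.shortExact_shortComplex
    let S := Q.shortComplex
    haveI : Injective S.X₂ := Q.injective
    have hex : (S.map R).Exact ∧ Mono (R.map S.f) := by
      have t := (Functor.preservesFiniteLimits_tfae R).out 3 0
      exact t.1 (show PreservesFiniteLimits R from inferInstance) S hS
    haveI := hex.2
    let T := ShortComplex.mk (R.map S.f) (cokernel.π (R.map S.f)) (cokernel.condition _)
    have hT : T.ShortExact :=
      { exact := ShortComplex.exact_of_g_is_cokernel _ (cokernelIsCokernel _), mono_f := hex.2,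
        epi_g := inferInstanceAs (Epi (cokernel.π _)) }
    let m : T.X₃ ⟶ R.obj S.X₃ := cokernel.desc _ (R.map S.g) (by rw [← R.map_comp, S.zero, R.map_zero])
    haveI : Mono m := hex.1.mono_cokernelDesc
    haveI : Injective T.X₂ := Injective.injective_of_adjoint adj S.X₂
    obtain ⟨y, rfl⟩ := Ext.covariant_sequence_exact₁ ZB hT x (Ext.eq_zero_of_injective _) (n₀ := 0) rfl
    obtain ⟨φ, rfl⟩ := (Ext.mk₀_bijective _ _).2 y
    have hn : (hT.extClass.mapExactFunctor L).comp (Ext.mk₀ (adj.counit.app S.X₁)) (add_zero 1) =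
        (Ext.mk₀ (L.map m ≫ adj.counit.app S.X₃)).comp hS.extClass (zero_add 1) :=
      (congrArg (fun t => Ext.comp t (Ext.mk₀ (adj.counit.app S.X₁)) (add_zero 1))
        (Ext.mapExactFunctor_extClass L hT)).trans
        (ShortComplex.ShortExact.extClass_naturality (hT.map_of_exact L) hS
          ({ τ₁ := adj.counit.app S.X₁, τ₂ := adj.counit.app S.X₂, τ₃ := L.map m ≫ adj.counit.app S.X₃
             comm₁₂ := (adj.counit.naturality S.f).symm
             comm₂₃ := by
              change adj.counit.app S.X₂ ≫ S.g = L.map (cokernel.π (R.map S.f)) ≫ L.map m ≫ adj.counit.app S.X₃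
              rw [← L.map_comp_assoc, cokernel.π_desc]
              exact (adj.counit.naturality S.g).symm } : T.map L ⟶ S))
    have h1 : (Ext.mk₀ (i ≫ L.map φ ≫ L.map m ≫ adj.counit.app S.X₃)).comp hS.extClass (zero_add 1) = 0 := by
      rw [← hx, hof, Ext.mapExactFunctor_comp, Ext.mapExactFunctor_mk₀, Ext.comp_assoc_of_third_deg_zero,
        Ext.comp_assoc_of_third_deg_zero]
      erw [hn]
      rw [Ext.mk₀_comp_mk₀_assoc, Ext.mk₀_comp_mk₀_assoc, Category.assoc]
    obtain ⟨z, hz⟩ := Ext.covariant_sequence_exact₃ ZA hS _ (zero_add 1) h1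
    obtain ⟨ψ, rfl⟩ := (Ext.mk₀_bijective _ _).2 z
    rw [Ext.mk₀_comp_mk₀] at hz
    have hψ : ψ ≫ S.g = i ≫ (adj.homEquiv ZB S.X₃).symm (φ ≫ m) := by
      rw [(Ext.mk₀_bijective _ _).1 hz, Adjunction.homEquiv_counit, L.map_comp, Category.assoc]
    let φ' : ZB ⟶ T.X₂ := adj.homEquiv ZB S.X₂ (inv i ≫ ψ)
    have hφ : φ' ≫ T.g = φ := by
      refine (cancel_mono m).1 ((adj.homEquiv ZB S.X₃).symm.injective ?_)
      refine Eq.trans ?_ ((cancel_epi i).1 (hψ.symm.trans (IsIso.hom_inv_id_assoc i (ψ ≫ S.g)).symm)).symm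
      rw [Category.assoc]
      change (adj.homEquiv ZB S.X₃).symm (φ' ≫ cokernel.π (R.map S.f) ≫ m) = _
      rw [cokernel.π_desc, Adjunction.homEquiv_naturality_right_symm, Equiv.symm_apply_apply, Category.assoc]
    rw [← hφ, ← Ext.mk₀_comp_mk₀, Ext.comp_assoc_of_second_deg_zero]
    exact (congrArg (fun t => Ext.comp _ t _) hT.comp_extClass).trans (Ext.comp_zero _ _ _ _ _)
  | succ n ih =>
    intro F hF
    let Q := Classical.arbitrary (InjectivePresentation F)
    have hS := Q.shortExact_shortComplex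
    let S := Q.shortComplex
    haveI : Injective S.X₂ := Q.injective
    haveI : Injective (R.obj S.X₂) := Injective.injective_of_adjoint adj _
    have hS' : (S.map R).ShortExact := TriCat.shortExact_map_of_subsingleton hS (hF 1 le_rfl (by omega))
    have hG : ∀ q : ℕ, 1 ≤ q → q ≤ n → IsZero ((R.rightDerived q).obj S.X₃) := fun q h1 h2 => by
      let := HasDerivedCategory.standard A
      let := HasDerivedCategory.standard B
      obtain ⟨δ, w₁, w₂, w₃, -, e₂, -⟩ := TriCat.exists_rightDerived_ses R hS q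
      exact e₂.isZero_X₂ ((TriCat.isRightAcyclic_of_injective S.X₂ q (by omega)).eq_of_src _ _)
        ((hF (q + 1) (by omega) (by omega)).eq_of_tgt _ _)
    obtain ⟨eb, ei⟩ := ih S.X₃ hG
    let e' : Ext.{w} (R.obj S.X₃) (R.obj S.X₁) 1 := hS'.extClass
    have hn : (e'.mapExactFunctor L).comp (Ext.mk₀ (adj.counit.app S.X₁)) (add_zero 1) =
        (Ext.mk₀ (adj.counit.app S.X₃)).comp hS.extClass (zero_add 1) :=
      (congrArg (fun t => Ext.comp t (Ext.mk₀ (adj.counit.app S.X₁)) (add_zero 1)) (Ext.mapExactFunctor_extClass L hS')).trans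
        (ShortComplex.ShortExact.extClass_naturality (hS'.map_of_exact L) hS
          ({ τ₁ := adj.counit.app S.X₁, τ₂ := adj.counit.app S.X₂, τ₃ := adj.counit.app S.X₃
             comm₁₂ := (adj.counit.naturality S.f).symm, comm₂₃ := (adj.counit.naturality S.g).symm } :
            (S.map R).map L ⟶ S))
    have inj : ∀ q : ℕ, Function.Injective (hof adj i S.X₃ q) → Function.Injective (hof adj i F (q + 1)) := by
      intro q hq
      refine (hof_injective_iff adj i F (q + 1)).2 fun x hx => ?_
      obtain ⟨y, hy⟩ : ∃ y : Ext.{w} ZB (R.obj S.X₃) q, y.comp e' rfl = x :=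
        haveI : Injective (S.map R).X₂ := ‹Injective (R.obj S.X₂)›
        Ext.covariant_sequence_exact₁ ZB hS' x (Ext.eq_zero_of_injective _) rfl
      subst hy
      have hx' : (hof adj i S.X₃ q y).comp hS.extClass rfl = 0 := (hof_comp adj i q y e' hS.extClass hn).symm.trans hx
      obtain ⟨z, hz⟩ := Ext.covariant_sequence_exact₃ ZA hS (hof adj i S.X₃ q y) (n₁ := q + 1) rfl hx'
      obtain ⟨z', hz'⟩ := (hof_bijective adj i hi q S.X₂ (TriCat.isRightAcyclic_of_injective _)).2 z
      have hy' : y = z'.comp (Ext.mk₀ (R.map S.g)) (add_zero q) :=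
        hq ((hz.symm.trans (congrArg (fun t => Ext.comp t (Ext.mk₀ S.g) (add_zero q)) hz'.symm)).trans
          (hof_natural adj i S.g q z').symm)
      have h0 : (Ext.mk₀ (R.map S.g)).comp e' (zero_add 1) = 0 := hS'.comp_extClass
      rw [hy', Ext.comp_assoc_of_second_deg_zero, h0, Ext.comp_zero]
    refine ⟨fun p hp => ?_, inj (n + 1) ei⟩
    cases p with
    | zero => exact hof_bijective_zero adj i hi F
    | succ q =>
      refine ⟨inj q (eb q (by omega)).1, fun z => ?_⟩
      obtain ⟨y, hy⟩ : ∃ y : Ext.{w} ZA S.X₃ q, y.comp hS.extClass rfl = z :=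
        Ext.covariant_sequence_exact₁ ZA hS z (Ext.eq_zero_of_injective _) rfl
      obtain ⟨y', hy'⟩ := (eb q (by omega)).2 y
      exact ⟨y'.comp e' rfl, (hof_comp adj i q y' e' hS.extClass hn).trans
        ((congrArg (fun t => Ext.comp t hS.extClass rfl) hy').trans hy)⟩

end Groth.Agent.EtDerLib
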