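import Groth.Agent.EtDerLib.Classes
import Groth.Agent.EtDerLib.TruncLeray
import Groth.Agent.EtDerLib.RpushLoc
import Groth.Agent.EtMVLib.OpenSeq
import Groth.Agent.S0642
import Groth.Prelude.Def_EtAcyc

/-!
# Acyclicity in terms of unit maps and higher direct images
-/

set_option autoImplicit false

universe u

open CategoryTheory CategoryTheory.Limits AlgebraicGeometry Opposite CategoryTheory.Abelian

namespace Groth.Agent.EtDerLib

set_option linter.style.haveILetI false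
set_option backward.isDefEq.respectTransparency.types false

variable {X Y : Scheme.{u}} (f : X ⟶ Y)

/-- bijective in degrees `≤ n`, injective in degree `n + 1` -/
def CompAt [PreservesFiniteLimits (EtCoh.pull f)] (F : EtCoh.Ab Y) (n : ℕ) : Prop :=
  (∀ q ≤ n, Function.Bijective (EtCore.Hpull f F q)) ∧ Function.Injective (EtCore.Hpull f F (n + 1))

/-- a class of positive degree on an etale object vanishes locally -/
theorem exists_HTres_eq_zero : ∀ (q : ℕ) (F : EtCoh.Ab Y) (W : Y.Etale) (ξ : HT F (q + 1) W) (w : W.left),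
    ∃ (W' : Y.Etale) (g : W' ⟶ W), (∃ w' : W'.left, g.left.base w' = w) ∧ HTres F (q + 1) g ξ = 0 := by
  intro q
  induction q with
  | zero =>
    intro F W ξ w
    have hS := EtMVLib.injSES_shortExact F
    haveI : Injective (EtMVLib.injSES F).X₂ := inferInstanceAs (Injective (Injective.under F))
    obtain ⟨y, rfl⟩ := secδ_surjective hS W ξ
    haveI := hS.epi_g
    obtain ⟨W', g, t, hw, ht⟩ := exists_local_preimage
      (S := ShortComplex.mk (EtMVLib.injSES F).g (0 : _ ⟶ (EtMVLib.injSES F).X₃) comp_zero)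
      ((ShortComplex.exact_iff_epi _ rfl).2 inferInstance) W y rfl w
    exact ⟨W', g, hw, (secδ_res hS g y).symm.trans ((secδ_eq_zero_iff hS W' _).2 ⟨t, ht⟩)⟩
  | succ q ih =>
    intro F W ξ w
    have hS := EtMVLib.injSES_shortExact F
    haveI : Injective (EtMVLib.injSES F).X₂ := inferInstanceAs (Injective (Injective.under F))
    obtain ⟨x, rfl⟩ := (δ_bijective hS q W).2 ξ
    obtain ⟨W', g, hw, h0⟩ := ih _ W x w
    refine ⟨W', g, hw, ?_⟩
    rw [HTres_comp_apply, h0, Ext.zero_comp]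

section OneMorphism

variable [PreservesFiniteLimits (EtCoh.pull f)]

theorem compAt_of_vanish {F : EtCoh.Ab Y} {n : ℕ} [IsIso ((EtCoh.pullPushAdj f).unit.app F)]
    (h : ∀ q : ℕ, 1 ≤ q → q ≤ n → IsZero ((EtCoh.Rpush f q).obj ((EtCoh.pull f).obj F))) :
    CompAt f F n := by
  haveI : (EtCoh.pull f).IsLeftAdjoint := (EtCoh.pullPushAdj f).isLeftAdjoint
  haveI : (EtCoh.push f).IsRightAdjoint := (EtCoh.pullPushAdj f).isRightAdjoint
  haveI : (EtCoh.pull f).Additive := (EtCoh.pullPushAdj f).left_adjoint_additive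
  obtain ⟨hb, hi⟩ := hof_trunc (EtCoh.pullPushAdj f) (EtCore.pullConst f ℤ).inv inferInstance n
    ((EtCoh.pull f).obj F) h
  have e : ∀ p, ⇑(EtCore.Hpull f F p) =
      BigSiteLib.HofBij.hof (EtCoh.pullPushAdj f) (EtCore.pullConst f ℤ).inv ((EtCoh.pull f).obj F) p ∘
        (fun x : EtCoh.H Y F p => x.comp (Ext.mk₀ ((EtCoh.pullPushAdj f).unit.app F)) (add_zero p)) :=
    fun p => funext fun x => (hof_unit (EtCoh.pullPushAdj f) (EtCore.pullConst f ℤ).inv F p x).symm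
  have hc := fun p => bijective_comp_mk₀ (asIso ((EtCoh.pullPushAdj f).unit.app F)) (EtCoh.const Y ℤ) p
  exact ⟨fun q hq => by rw [e]; exact (hb q hq).comp (hc q), by rw [e]; exact hi.comp (hc (n + 1)).1⟩

theorem PT_zero_mk₀ (F : EtCoh.Ab Y) (W : Y.Etale) (φ : ZU W ⟶ F) :
    PT f F 0 W (Ext.mk₀ φ) = Ext.mk₀ (ptCls f W ≫ (EtCoh.pull f).map φ) := by
  change (Ext.mk₀ (ptCls f W)).comp ((Ext.mk₀ φ).mapExactFunctor (EtCoh.pull f)) (zero_add 0) = _
  rw [Ext.mapExactFunctor_mk₀, Ext.mk₀_comp_mk₀]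

theorem zuEquiv_ptCls (F : EtCoh.Ab Y) (W : Y.Etale) (φ : ZU W ⟶ F) :
    zuEquiv ((EtCoh.bc f).obj W) ((EtCoh.pull f).obj F) (ptCls f W ≫ (EtCoh.pull f).map φ) =
      ((EtCoh.pullPushAdj f).unit.app F).hom.app (op W) (zuEquiv W F φ) := by
  rw [zuEquiv_comp, ptCls, Equiv.apply_symm_apply, zuEquiv_eq]
  exact (congrArg (fun m : ZU W ⟶ (EtCoh.push f).obj ((EtCoh.pull f).obj F) => m.hom.app (op W) (univSec W))
    ((EtCoh.pullPushAdj f).unit.naturality φ)).symm

theorem unit_isIso_of_compAt {F : EtCoh.Ab Y}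
    (h : ∀ (W : Y.Etale) [PreservesFiniteLimits (EtCoh.pull (pullback.fst W.hom f))],
      Function.Bijective (EtCore.Hpull (pullback.fst W.hom f) ((EtCoh.pull W.hom).obj F) 0)) :
    IsIso ((EtCoh.pullPushAdj f).unit.app F) := by
  suffices IsIso ((EtCoh.pullPushAdj f).unit.app F).hom by
    haveI : IsIso ((sheafToPresheaf Y.smallEtaleTopology AddCommGrpCat.{u + 1}).map
        ((EtCoh.pullPushAdj f).unit.app F)) := this
    exact isIso_of_reflects_iso _ (sheafToPresheaf Y.smallEtaleTopology AddCommGrpCat.{u + 1})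
  haveI : ∀ U, IsIso (((EtCoh.pullPushAdj f).unit.app F).hom.app U) := fun U => by
    obtain ⟨W⟩ := U
    haveI := EtFound.pull_preservesFiniteLimits (pullback.fst W.hom f)
    refine (ConcreteCategory.isIso_iff_bijective _).2 ?_
    have hPT := PT_bijective f W F 0 (h W)
    constructor
    · intro a b hab
      refine (zuEquiv W F).symm.injective ((Ext.mk₀_bijective _ _).1 (hPT.1 ?_))
      rw [PT_zero_mk₀, PT_zero_mk₀]
      refine congrArg _ ((zuEquiv ((EtCoh.bc f).obj W) ((EtCoh.pull f).obj F)).injective ?_)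
      rw [zuEquiv_ptCls, zuEquiv_ptCls, Equiv.apply_symm_apply, Equiv.apply_symm_apply]
      exact hab
    · intro b
      obtain ⟨x, hx⟩ := hPT.2 (Ext.mk₀ ((zuEquiv ((EtCoh.bc f).obj W) ((EtCoh.pull f).obj F)).symm b))
      obtain ⟨φ, rfl⟩ := (Ext.mk₀_bijective _ _).2 x
      rw [PT_zero_mk₀] at hx
      refine ⟨zuEquiv W F φ, ?_⟩
      rw [← zuEquiv_ptCls, (Ext.mk₀_bijective _ _).1 hx, Equiv.apply_symm_apply]
  exact NatIso.isIso_of_isIso_app _

theorem Rpush_isZero_of_compAt [EtCoh.BCCont f] {F : EtCoh.Ab Y} {q : ℕ}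
    (h : ∀ (W : Y.Etale) [PreservesFiniteLimits (EtCoh.pull (pullback.fst W.hom f))],
      Function.Bijective (EtCore.Hpull (pullback.fst W.hom f) ((EtCoh.pull W.hom).obj F) (q + 1))) :
    IsZero ((EtCoh.Rpush f (q + 1)).obj ((EtCoh.pull f).obj F)) := by
  rw [isZero_Rpush_iff]
  intro V ξ v
  haveI := EtFound.pull_preservesFiniteLimits (pullback.fst V.hom f)
  obtain ⟨x, rfl⟩ := (PT_bijective f V F (q + 1) (h V)).2 ξ
  obtain ⟨W, g, hw, h0⟩ := exists_HTres_eq_zero q F V x v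
  refine ⟨W, g, 1, hw, primesIn_one _, ?_⟩
  rw [one_smul, ← PT_res, h0, map_zero]

end OneMorphism

section Compose

variable {X' : Scheme.{u}} (φ : X' ⟶ X) [PreservesFiniteLimits (EtCoh.pull φ)]
  [PreservesFiniteLimits (EtCoh.pull f)] [PreservesFiniteLimits (EtCoh.pull (φ ≫ f))]

theorem Hpull_Hpull (F : EtCoh.Ab Y) (q : ℕ) (x : EtCoh.H Y F q) :
    (EtCore.Hpull φ ((EtCoh.pull f).obj F) q (EtCore.Hpull f F q x)).comp
        (Ext.mk₀ ((EtMVLib.θ f (φ ≫ f) φ rfl).hom.app F)) (add_zero q) = EtCore.Hpull (φ ≫ f) F q x := by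
  haveI := comp_preservesFiniteLimits (EtCoh.pull f) (EtCoh.pull φ)
  haveI := comp_preservesFiniteColimits (EtCoh.pull f) (EtCoh.pull φ)
  have h := hpl_hpl (EtCoh.pull f) (EtCore.pullConst f ℤ).inv (EtCoh.pull φ) (EtCore.pullConst φ ℤ).inv F q x
  refine (congrArg (fun t => Ext.comp t (Ext.mk₀ ((EtMVLib.θ f (φ ≫ f) φ rfl).hom.app F)) (add_zero q)) h).trans ?_
  refine (hpl_natTrans (EtCoh.pull f ⋙ EtCoh.pull φ) _ (EtMVLib.θ f (φ ≫ f) φ rfl).hom F q x).trans ?_
  exact congrArg (fun t => hpl (EtCoh.pull (φ ≫ f)) t F q x)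
    ((Category.assoc _ _ _).trans (EtMVLib.pullConst_comp f (φ ≫ f) φ rfl))

theorem Hpull_comp_bijective_iff (F : EtCoh.Ab Y) (q : ℕ)
    (hφ : Function.Bijective (EtCore.Hpull φ ((EtCoh.pull f).obj F) q)) :
    (Function.Bijective (EtCore.Hpull (φ ≫ f) F q) ↔ Function.Bijective (EtCore.Hpull f F q)) ∧
      (Function.Injective (EtCore.Hpull (φ ≫ f) F q) ↔ Function.Injective (EtCore.Hpull f F q)) := by
  have hc := bijective_comp_mk₀ ((EtMVLib.θ f (φ ≫ f) φ rfl).app F) (EtCoh.const X' ℤ) q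
  have e : ⇑(EtCore.Hpull (φ ≫ f) F q) =
      (fun z => Ext.comp z (Ext.mk₀ ((EtMVLib.θ f (φ ≫ f) φ rfl).hom.app F)) (add_zero q)) ∘
        EtCore.Hpull φ ((EtCoh.pull f).obj F) q ∘ EtCore.Hpull f F q :=
    funext fun x => (Hpull_Hpull f φ F q x).symm
  rw [e]
  exact ⟨(Function.Bijective.of_comp_iff' hc _).trans (Function.Bijective.of_comp_iff' hφ _),
    (Function.Injective.of_comp_iff hc.1 _).trans (Function.Injective.of_comp_iff hφ.1 _)⟩

theorem compAt_comp_iso [IsIso φ] (F : EtCoh.Ab Y) (n : ℕ) :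
    CompAt (φ ≫ f) F n ↔ CompAt f F n := by
  have h := fun q => Hpull_comp_bijective_iff f φ F q (S0642.result φ ((EtCoh.pull f).obj F) q)
  exact ⟨fun ⟨a, b⟩ => ⟨fun q hq => (h q).1.1 (a q hq), (h _).2.1 b⟩,
    fun ⟨a, b⟩ => ⟨fun q hq => (h q).1.2 (a q hq), (h _).2.2 b⟩⟩

end Compose

end Groth.Agent.EtDerLib
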