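import Groth.Agent.EtDerLib.Acyc
import Groth.Agent.EtFound.PushOutside
import Groth.Prelude.Def_SGA4b

/-!
# Acyclicity and composition
-/

set_option autoImplicit false

universe u

open CategoryTheory CategoryTheory.Limits AlgebraicGeometry Opposite CategoryTheory.Abelian

namespace Groth.Agent.EtDerLib

set_option linter.style.haveILetI false
set_option backward.isDefEq.respectTransparency.types false

variable {P X Y : Scheme.{u}} (g : P ⟶ X) (f : X ⟶ Y)

theorem compAt_comp_iff [PreservesFiniteLimits (EtCoh.pull g)] [PreservesFiniteLimits (EtCoh.pull f)]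
    [PreservesFiniteLimits (EtCoh.pull (g ≫ f))] (F : EtCoh.Ab Y) (n : ℕ)
    (hg : CompAt g ((EtCoh.pull f).obj F) n) : CompAt (g ≫ f) F n ↔ CompAt f F n := by
  have e : ∀ q, ⇑(EtCore.Hpull (g ≫ f) F q) =
      (fun z => Ext.comp z (Ext.mk₀ ((EtMVLib.θ f (g ≫ f) g rfl).hom.app F)) (add_zero q)) ∘
        EtCore.Hpull g ((EtCoh.pull f).obj F) q ∘ EtCore.Hpull f F q :=
    fun q => funext fun x => (Hpull_Hpull f g F q x).symm
  have hc := fun q => bijective_comp_mk₀ ((EtMVLib.θ f (g ≫ f) g rfl).app F) (EtCoh.const P ℤ) q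
  have hi : Function.Injective (EtCore.Hpull (g ≫ f) F (n + 1)) ↔ Function.Injective (EtCore.Hpull f F (n + 1)) := by
    rw [e]; exact (Function.Injective.of_comp_iff (hc _).1 _).trans (Function.Injective.of_comp_iff hg.2 _)
  have hb : ∀ q ≤ n, Function.Bijective (EtCore.Hpull (g ≫ f) F q) ↔ Function.Bijective (EtCore.Hpull f F q) :=
    fun q hq => by
      rw [e]; exact (Function.Bijective.of_comp_iff' (hc q) _).trans (Function.Bijective.of_comp_iff' (hg.1 q hq) _)
  exact ⟨fun h => ⟨fun q hq => (hb q hq).1 (h.1 q hq), hi.1 h.2⟩,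
    fun h => ⟨fun q hq => (hb q hq).2 (h.1 q hq), hi.2 h.2⟩⟩

/-- units compose -/
theorem unitSh_comp_iff (F : EtDesc.Sh Y) [IsIso ((EtDesc.adjSh g).unit.app ((EtDesc.pullSh f).obj F))] :
    IsIso ((EtDesc.adjSh (g ≫ f)).unit.app F) ↔ IsIso ((EtDesc.adjSh f).unit.app F) := by
  let adj := ((EtDesc.adjSh f).comp (EtDesc.adjSh g)).ofNatIsoRight (EtDesc.pushCompSh f g)
  have h := Adjunction.unit_leftAdjointUniq_hom_app (EtDesc.adjSh (g ≫ f)) adj F
  have h2 : adj.unit.app F = ((EtDesc.adjSh f).unit.app F ≫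
      (EtDesc.pushSh f).map ((EtDesc.adjSh g).unit.app ((EtDesc.pullSh f).obj F))) ≫
        (EtDesc.pushCompSh f g).hom.app _ := by
    simp only [adj, Adjunction.ofNatIsoRight_unit]
    simp
  rw [h2] at h
  constructor
  · intro _
    have h3 := (congrArg (fun m => IsIso m) h).mp inferInstance
    exact (isIso_comp_right_iff _ ((EtDesc.pushSh f).map ((EtDesc.adjSh g).unit.app ((EtDesc.pullSh f).obj F)))).1
      ((isIso_comp_right_iff _ _).1 h3)
  · intro _
    have h3 : IsIso ((EtDesc.adjSh (g ≫ f)).unit.app F ≫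
        (EtDesc.pushSh (g ≫ f)).map ((Adjunction.leftAdjointUniq (EtDesc.adjSh (g ≫ f)) adj).hom.app F)) :=
      (congrArg (fun m => IsIso m) h).mpr inferInstance
    exact (isIso_comp_right_iff _ _).1 h3

theorem unitSh_isIso_of_isIso [IsIso g] (F : EtDesc.Sh X) : IsIso ((EtDesc.adjSh g).unit.app F) :=
  EtFound.unit_isIso_of_outside g (EtFound.liftable_of_isClosedImmersion g) g.isClosedEmbedding.isClosed_range F
    fun _ _ _ _ hξ => absurd (g.surjective _) hξ

end Groth.Agent.EtDerLib
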