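import Groth.Agent.EtDerLib.FiniteCompare
import Groth.Agent.EtDerLib.TorsionColim
import Groth.Agent.SGA4hFrob.ConstPull
import Groth.Agent.S3889
import Groth.Agent.GalEt.Killed
import Groth.Agent.GalEt.Devissage
import Groth.Agent.EtFound.SepClosedField
import Groth.Agent.EtDual68.FTrace
import Groth.Agent.EtFound.StalkSet


/-!
# Cohomology with constant coefficients: composition, limits, connectedness
-/

set_option autoImplicit false

universe u

open CategoryTheory CategoryTheory.Limits AlgebraicGeometry Opposite CategoryTheory.Abelian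

noncomputable section

namespace Groth.Agent.EtDerLib

set_option linter.style.haveILetI false
set_option backward.isDefEq.respectTransparency.types false

theorem mk₀_nsmul {C : Type*} [Category* C] [Abelian C] [HasExt.{u + 1} C] {A B : C} (m : ℕ) (a : A ⟶ B) :
    Ext.mk₀ (m • a) = m • Ext.mk₀ a := by
  induction m with
  | zero => rw [zero_smul, zero_smul, Ext.mk₀_zero]
  | succ m ih => rw [succ_nsmul, succ_nsmul, Ext.mk₀_add, ih]

variable {X Y T : Scheme.{u}} (ℓ : ℕ)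

/-- pullback with constant coefficients -/
def cPull (f : X ⟶ Y) [PreservesFiniteLimits (EtCoh.pull f)] (q : ℕ)
    (x : EtCoh.H Y (EtCoh.const Y (ZMod ℓ)) q) : EtCoh.H X (EtCoh.const X (ZMod ℓ)) q :=
  (EtCore.Hpull f (EtCoh.const Y (ZMod ℓ)) q x).comp (Ext.mk₀ (EtCore.pullConst f (ZMod ℓ)).hom) (add_zero q)

theorem cPull_zero (f : X ⟶ Y) [PreservesFiniteLimits (EtCoh.pull f)] (q : ℕ) : cPull ℓ f q 0 = 0 := by
  simp [cPull]

theorem cPull_nsmul (f : X ⟶ Y) [PreservesFiniteLimits (EtCoh.pull f)] (q m : ℕ)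
    (x : EtCoh.H Y (EtCoh.const Y (ZMod ℓ)) q) : cPull ℓ f q (m • x) = m • cPull ℓ f q x := by
  induction m with
  | zero => simp [cPull_zero]
  | succ m ih => rw [succ_nsmul, succ_nsmul, ← ih]; simp [cPull]

theorem cPull_comp (φ : T ⟶ X) (f : X ⟶ Y) {k : T ⟶ Y} (e : φ ≫ f = k) [PreservesFiniteLimits (EtCoh.pull φ)]
    [PreservesFiniteLimits (EtCoh.pull f)] [PreservesFiniteLimits (EtCoh.pull k)] (q : ℕ)
    (x : EtCoh.H Y (EtCoh.const Y (ZMod ℓ)) q) : cPull ℓ φ q (cPull ℓ f q x) = cPull ℓ k q x := by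
  rw [cPull, cPull, cPull, Hpull_natural φ (EtCore.pullConst f (ZMod ℓ)).hom, Ext.comp_assoc_of_third_deg_zero,
    Ext.mk₀_comp_mk₀, SGA4hFrob.pullConst_comp_hom φ f k e, ← Ext.mk₀_comp_mk₀,
    ← Ext.comp_assoc_of_third_deg_zero]
  exact congrArg (fun t => Ext.comp t _ (add_zero q)) (Hpull_Hpull' f φ e _ q x)

theorem cPull_surjective (f : X ⟶ Y) [PreservesFiniteLimits (EtCoh.pull f)] (q : ℕ)
    (h : Function.Surjective (EtCore.Hpull f (EtCoh.const Y (ZMod ℓ)) q)) : Function.Surjective (cPull ℓ f q) :=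
  (bijective_comp_mk₀ (EtCore.pullConst f (ZMod ℓ)) (EtCoh.const X ℤ) q).2.comp h

theorem cPull_injective (f : X ⟶ Y) [PreservesFiniteLimits (EtCoh.pull f)] (q : ℕ)
    (h : Function.Injective (EtCore.Hpull f (EtCoh.const Y (ZMod ℓ)) q)) : Function.Injective (cPull ℓ f q) :=
  (bijective_comp_mk₀ (EtCore.pullConst f (ZMod ℓ)) (EtCoh.const X ℤ) q).1.comp h

theorem pullConst_coh (k : T ⟶ X) (t : X ⟶ Y) {w : T ⟶ Y} (h : w = k ≫ t) :
    (EtCore.pullConst w (ZMod ℓ)).hom = (EtCore.pullCongr h ≪≫ EtCore.pullComp k t).hom.app (EtCoh.const Y (ZMod ℓ)) ≫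
      (EtCoh.pull k).map (EtCore.pullConst t (ZMod ℓ)).hom ≫ (EtCore.pullConst k (ZMod ℓ)).hom := by
  subst h
  rw [SGA4hFrob.pullConst_comp_hom k t (k ≫ t) rfl (ZMod ℓ)]
  simp [EtCore.pullCongr]

theorem hpullThen_eq (f : X ⟶ Y) [PreservesFiniteLimits (EtCoh.pull f)] (q : ℕ) {M : EtCoh.Ab X}
    (e : EtCoh.const X (ZMod ℓ) ⟶ M) (a : (EtCoh.pull f).obj (EtCoh.const Y (ZMod ℓ)) ⟶ M)
    (ha : (EtCore.pullConst f (ZMod ℓ)).hom ≫ e = a) (x : EtCoh.H Y (EtCoh.const Y (ZMod ℓ)) q) :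
    EtLim.HpullThen f (EtCoh.const Y (ZMod ℓ)) a q x = (cPull ℓ f q x).comp (Ext.mk₀ e) (add_zero q) := by
  rw [cPull, Ext.comp_assoc_of_third_deg_zero, Ext.mk₀_comp_mk₀, ha]
  rfl

theorem isIso_ι_const {C : Type*} [Category* C] {ι : Type u} [Category* ι] [IsConnected ι] (M : C)
    [HasColimit ((Functor.const ι).obj M)] (j : ι) :
    colimit.ι ((Functor.const ι).obj M) j =
      (colimit.isoColimitCocone ⟨constCocone ι M, isColimitConstCocone ι M⟩).inv :=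
  (colimit.isoColimitCocone_ι_inv ⟨constCocone ι M, isColimitConstCocone ι M⟩ j).symm.trans (Category.id_comp _)

/-- classes with constant coefficients on a limit come from a stage -/
theorem exists_cPull_eq {ι : Type u} [Preorder ι] [Nonempty ι] [IsDirected ι (· ≤ ·)]
    (Xs : ιᵒᵖ ⥤ Scheme.{u}) (haff : ∀ ⦃a b : ιᵒᵖ⦄ (h : a ⟶ b), IsAffineHom (Xs.map h))
    (hqc : ∀ a, CompactSpace ↥(Xs.obj a)) (hqs : ∀ a, QuasiSeparatedSpace ↥(Xs.obj a))
    (c : Cone Xs) (hc : IsLimit c) [∀ a, PreservesFiniteLimits (EtCoh.pull (c.π.app a))] (q : ℕ)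
    (ξ : EtCoh.H c.pt (EtCoh.const c.pt (ZMod ℓ)) q) :
    ∃ (j : ι) (ξj : EtCoh.H (Xs.obj (op j)) (EtCoh.const (Xs.obj (op j)) (ZMod ℓ)) q),
      cPull ℓ (c.π.app (op j)) q ξj = ξ := by
  haveI : ∀ ⦃a b : ιᵒᵖ⦄ (h : a ⟶ b), PreservesFiniteLimits (EtCoh.pull (Xs.map h)) :=
    fun _ _ h => EtFound.pull_preservesFiniteLimits _
  haveI : IsFiltered ι := by
    haveI : IsDirectedOrder ι := ‹IsDirected ι (· ≤ ·)›
    infer_instance
  haveI : IsConnected ι := IsFiltered.isConnected ι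
  have h := S3889.result Xs haff hqc hqs c hc (fun i => EtCoh.const (Xs.obj (op i)) (ZMod ℓ))
    (fun i j h => (EtCore.pullConst (Xs.map (homOfLE h).op) (ZMod ℓ)).hom)
    (fun i j k hij hjk => pullConst_coh ℓ (Xs.map (homOfLE hjk).op) (Xs.map (homOfLE hij).op)
      (show Xs.map (homOfLE (hij.trans hjk)).op = Xs.map (homOfLE hjk).op ≫ Xs.map (homOfLE hij).op by
        rw [← Functor.map_comp]; rfl))
    ((Functor.const ι).obj (EtCoh.const c.pt (ZMod ℓ))) (fun i => EtCore.pullConst (c.π.app (op i)) (ZMod ℓ))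
    (fun i j hij => (Category.comp_id _).trans (pullConst_coh ℓ (c.π.app (op j)) (Xs.map (homOfLE hij).op)
      (c.w (homOfLE hij).op).symm))
    q
  let e := (colimit.isoColimitCocone ⟨constCocone ι (EtCoh.const c.pt (ZMod ℓ)),
    isColimitConstCocone ι (EtCoh.const c.pt (ZMod ℓ))⟩).symm
  obtain ⟨j, ξj, hj⟩ := h.1 (ξ.comp (Ext.mk₀ e.hom) (add_zero q))
  refine ⟨j, ξj, (bijective_comp_mk₀ e (EtCoh.const c.pt ℤ) q).1 ?_⟩
  exact (hpullThen_eq ℓ (c.π.app (op j)) q e.hom _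
    (congrArg ((EtCore.pullConst (c.π.app (op j)) (ZMod ℓ)).hom ≫ ·)
      (isIso_ι_const (EtCoh.const c.pt (ZMod ℓ)) j).symm) ξj).symm.trans hj

/-- the reduction `ℤ ⟶ ℤ/ℓ` -/
def castMor : AddCommGrpCat.of (ULift.{u + 1} ℤ) ⟶ AddCommGrpCat.of (ULift.{u + 1} (ZMod ℓ)) :=
  AddCommGrpCat.ofHom (AddMonoidHom.mk' (fun z => ULift.up ((z.down : ZMod ℓ)))
    fun a b => ULift.ext _ _ (by simp))

/-- the unit section -/
def oneHom (X : Scheme.{u}) : EtCoh.const X ℤ ⟶ EtCoh.const X (ZMod ℓ) :=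
  (constantSheaf X.smallEtaleTopology AddCommGrpCat.{u + 1}).map (castMor ℓ)

/-- the unit class -/
def oneCls (X : Scheme.{u}) : EtCoh.H X (EtCoh.const X (ZMod ℓ)) 0 := Ext.mk₀ (oneHom ℓ X)

theorem cPull_oneCls (f : X ⟶ Y) [PreservesFiniteLimits (EtCoh.pull f)] : cPull ℓ f 0 (oneCls ℓ Y) = oneCls ℓ X := by
  have hn : (EtCoh.pull f).map (oneHom ℓ Y) ≫ (EtCore.pullConst f (ZMod ℓ)).hom =
      (EtCore.pullConst f ℤ).hom ≫ oneHom ℓ X := (EtCore.pullConstIso f).hom.naturality _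
  rw [cPull, oneCls, oneCls, EtMVLib.Hpull_apply, Ext.mapExactFunctor_mk₀, Ext.mk₀_comp_mk₀, Ext.mk₀_comp_mk₀,
    Category.assoc, hn, Iso.inv_hom_id_assoc]

theorem isKilled_const (X : Scheme.{u}) : GalEt.IsKilled ℓ (EtCoh.const X (ZMod ℓ)) := by
  haveI : (EtCore.gsec X).Additive := ⟨fun {_ _ _ _} => rfl⟩
  haveI := (EtCore.constAdj X).left_adjoint_additive
  refine GalEt.IsKilled.map _ (?_ : GalEt.IsKilled ℓ (AddCommGrpCat.of (ULift.{u + 1} (ZMod ℓ))))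
  refine AddCommGrpCat.ext fun z => ULift.ext _ _ ?_
  show ℓ • z.down = 0
  simp [nsmul_eq_mul]

theorem isLTorsion_const [hℓ : Fact ℓ.Prime] {L : Set ℕ} (hL : ℓ ∈ L) (X : Scheme.{u}) :
    EtAcyc.IsLTorsion L (EtCoh.const X (ZMod ℓ)) :=
  fun U s x => ⟨U, 𝟙 U, ℓ, ⟨x, rfl⟩, ⟨hℓ.out.pos, fun p hp hd => by
    rwa [(Nat.prime_dvd_prime_iff_eq hp hℓ.out).1 hd]⟩, GalEt.sect_nsmul_eq_zero (isKilled_const ℓ X) U _⟩

theorem H_const_isEmpty (X : Scheme.{u}) [IsEmpty X] (x : EtCoh.H X (EtCoh.const X (ZMod ℓ)) 0) : x = 0 := by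
  obtain ⟨φ, rfl⟩ := (Ext.mk₀_bijective _ _).2 x
  rw [EtFound.eq_of_stalks φ 0 fun Ω _ _ ξ => (IsEmpty.false (ξ.base default)).elim, Ext.mk₀_zero]

variable [hℓ : Fact ℓ.Prime]

theorem oneCls_ne_zero (X : Scheme.{u}) {Ω : Type u} [Field Ω] [IsSepClosed Ω]
    (ξ : Spec (CommRingCat.of Ω) ⟶ X) : (EtCoh.stalk ξ).map (oneHom ℓ X) ≠ 0 := by
  intro h
  haveI : (constantSheaf X.smallEtaleTopology AddCommGrpCat.{u + 1}).IsLeftAdjoint :=
    (EtCore.constAdj X).isLeftAdjoint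
  haveI : Epi (castMor.{u} ℓ) :=
    (AddCommGrpCat.epi_iff_surjective _).2 fun z => ⟨ULift.up (z.down.cast : ℤ), ULift.ext _ _ (ZMod.intCast_zmod_cast z.down)⟩
  haveI : Epi (oneHom ℓ X) := (constantSheaf X.smallEtaleTopology AddCommGrpCat.{u + 1}).map_epi _
  haveI : Epi ((EtCoh.stalk ξ).map (oneHom ℓ X)) := inferInstance
  have hz : IsZero ((EtCoh.stalk ξ).obj (EtCoh.const X (ZMod ℓ))) := by
    rw [IsZero.iff_id_eq_zero, ← cancel_epi ((EtCoh.stalk ξ).map (oneHom ℓ X)), comp_zero, Category.comp_id, h]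
  have hs := AddCommGrpCat.subsingleton_of_isZero hz
  obtain ⟨u₀⟩ : Nonempty ((Scheme.pointSmallEtale ξ).fiber.obj (EtCoh.top X)) :=
    ⟨CategoryTheory.Over.homMk ξ (Category.comp_id _)⟩
  have hb := EtFound.toSheafify_const_germ_bijective ξ AddCommGrpCat.{u + 1}
    (AddCommGrpCat.of (ULift.{u + 1} (ZMod ℓ))) (EtCoh.top X) u₀
  exact zero_ne_one (congrArg ULift.down (hb.1 (a₁ := ULift.up (0 : ZMod ℓ)) (a₂ := ULift.up 1)
    (@Subsingleton.elim _ hs _ _)))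

set_option maxHeartbeats 1000000 in
theorem exists_eq_nsmul_oneCls (k : Type u) [Field k] [IsSepClosed k]
    (x : EtCoh.H (Spec (CommRingCat.of k)) (EtCoh.const (Spec (CommRingCat.of k)) (ZMod ℓ)) 0) :
    ∃ m : ℕ, x = m • oneCls ℓ (Spec (CommRingCat.of k)) := by
  let S := Spec (CommRingCat.of k)
  obtain ⟨φ, rfl⟩ := (Ext.mk₀_bijective _ _).2 x
  let adj := EtCore.constAdj S
  haveI : (EtCore.gsec S).Additive := ⟨fun {_ _ _ _} => rfl⟩
  haveI := adj.left_adjoint_additive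
  let g := adj.homEquiv _ _ φ
  have hb := EtFound.toSheafify_const_germ_bijective (𝟙 S) AddCommGrpCat.{u + 1}
    (AddCommGrpCat.of (ULift.{u + 1} (ZMod ℓ))) (EtCoh.top S) (EtFound.idTop k)
  have hd := EtFound.toPresheafFiber_idTop_bijective (k := k) (A := AddCommGrpCat.{u + 1})
    (EtCoh.const S (ZMod ℓ)).obj
  obtain ⟨⟨i⟩, hi⟩ := hb.2 ((Scheme.pointSmallEtale (𝟙 S)).toPresheafFiber (EtCoh.top S) (EtFound.idTop k)
    (EtCoh.const S (ZMod ℓ)).obj (g (ULift.up 1)))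
  refine ⟨i.val, ?_⟩
  have key : φ = i.val • oneHom ℓ S := by
    apply (adj.homEquiv _ _).injective
    have hn : adj.homEquiv _ _ (i.val • oneHom ℓ S) = i.val • adj.homEquiv _ _ (oneHom ℓ S) := by
      rw [Adjunction.homEquiv_unit, Adjunction.homEquiv_unit, Functor.map_nsmul, Preadditive.comp_nsmul]
    have hone : adj.homEquiv _ _ (oneHom ℓ S) =
        castMor ℓ ≫ adj.unit.app (AddCommGrpCat.of (ULift.{u + 1} (ZMod ℓ))) :=
      (adj.homEquiv_unit _ _ _).trans (adj.unit.naturality _).symm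
    rw [hn, hone]
    refine AddCommGrpCat.ext fun ⟨z⟩ => ?_
    have h1 : g (ULift.up 1) = adj.unit.app (AddCommGrpCat.of (ULift.{u + 1} (ZMod ℓ))) (ULift.up i) :=
      hd.1 hi.symm
    have hz : (ULift.up z : ULift.{u + 1} ℤ) = z • ULift.up 1 := ULift.ext _ _ (by simp)
    rw [hz, map_zsmul, map_zsmul]
    congr 1
    refine h1.trans ?_
    show _ = i.val • adj.unit.app (AddCommGrpCat.of (ULift.{u + 1} (ZMod ℓ))) (ULift.up (((1 : ℤ) : ZMod ℓ)))
    rw [← map_nsmul]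
    exact congrArg _ (ULift.ext _ _ (show i = i.val • ((1 : ℤ) : ZMod ℓ) by
      rw [Int.cast_one, nsmul_one, ZMod.natCast_zmod_val]))
  rw [key, oneCls]
  exact mk₀_nsmul _ _

theorem H_sepClosed_eq_zero (k : Type u) [Field k] [IsSepClosed k] (F : EtCoh.Ab (Spec (CommRingCat.of k))) (q : ℕ)
    (x : EtCoh.H (Spec (CommRingCat.of k)) F (q + 1)) : x = 0 := by
  obtain ⟨L, _, _, _, _, h⟩ := GalEt.exists_killed k F q x
  have h1 := GalEt.finrank_nsmul_eq_zero (L := L) x h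
  have hb : Function.Bijective (algebraMap k L) :=
    ⟨(algebraMap k L).injective, IsSepClosed.algebraMap_surjective k L⟩
  rw [← LinearEquiv.finrank_eq (LinearEquiv.ofBijective (Algebra.linearMap k L) hb), Module.finrank_self,
    one_nsmul] at h1
  exact h1

set_option maxHeartbeats 1000000 in
/-- if every class in degree zero is a multiple of the unit, the scheme is connected -/
theorem preconnectedSpace_of_oneCls (X : Scheme.{u})
    (h : ∀ x : EtCoh.H X (EtCoh.const X (ZMod ℓ)) 0, ∃ m : ℕ, x = m • oneCls ℓ X) : PreconnectedSpace X := by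
  rw [preconnectedSpace_iff_clopen]
  intro U hU
  by_contra hc
  push Not at hc
  obtain ⟨x₀, hx₀⟩ := hc.1
  obtain ⟨x₁, hx₁⟩ := (Set.ne_univ_iff_exists_notMem U).1 hc.2
  let W : X.Opens := ⟨U, hU.2⟩
  haveI : IsClosedImmersion W.ι := .of_isPreimmersion _ (by rw [Scheme.Opens.range_ι]; exact hU.1)
  haveI : IsFinite W.ι := inferInstance
  haveI : LocallyOfFinitePresentation W.ι := inferInstance
  haveI : Flat W.ι := inferInstance
  let C := EtCoh.const X (ZMod ℓ)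
  let t : EtCoh.const X ℤ ⟶ C :=
    oneHom ℓ X ≫ (EtCoh.pullPushAdj W.ι).unit.app C ≫ (EtDual68.FTrace.tr W.ι).app C
  obtain ⟨m, hm⟩ := h (Ext.mk₀ t)
  have hm' : t = m • oneHom ℓ X := (Ext.mk₀_bijective _ _).1
    (hm.trans (mk₀_nsmul m (oneHom ℓ X)).symm)
  have hpt := EtFound.exists_geomPoint (X := X)
  have hin : ∀ {Ω : Type u} [Field Ω] [IsAlgClosed Ω] (ξ : Spec (CommRingCat.of Ω) ⟶ X),
      (ξ.base default ∈ U → (EtCoh.stalk ξ).map t = (EtCoh.stalk ξ).map (oneHom ℓ X)) ∧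
      (ξ.base default ∉ U → (EtCoh.stalk ξ).map t = 0) := by
    intro Ω _ _ ξ
    haveI := EtFound.finite_points W.ι ξ
    letI := Fintype.ofFinite {z : Spec (CommRingCat.of Ω) ⟶ W.toScheme // z ≫ W.ι = ξ}
    have e : ∀ p : (EtCoh.stalk ξ).obj C, (EtCoh.stalk ξ).map
        ((EtCoh.pullPushAdj W.ι).unit.app C ≫ (EtDual68.FTrace.tr W.ι).app C) p =
          Fintype.card {z : Spec (CommRingCat.of Ω) ⟶ W.toScheme // z ≫ W.ι = ξ} • p := by
      intro p
      obtain ⟨V, v, b, rfl⟩ := (Scheme.pointSmallEtale ξ).toPresheafFiber_jointly_surjective p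
      rw [Functor.map_comp, ConcreteCategory.comp_apply, EtDual68.FTrace.stalk_tr, EtDual68.FTrace.trStalk_apply]
      rw [← Finset.card_univ, ← Finset.sum_const]
      refine Finset.sum_congr rfl fun z _ => ?_
      rw [EtDual68.FibreMult.mult_eq_one, one_smul]
      exact (congrArg ((EtDual68.FTrace.sigma W.ι z).app C)
        (EtDual68.FTrace.gm_app ((EtCoh.pullPushAdj W.ι).unit.app C) v b)).trans
        (EtDual68.FTrace.sigma_gm_unit W.ι z C v b)
    constructor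
    · intro hx
      let z₀ : {z : Spec (CommRingCat.of Ω) ⟶ W.toScheme // z ≫ W.ι = ξ} :=
        ⟨IsOpenImmersion.lift W.ι ξ (by
          rintro _ ⟨w, rfl⟩
          rw [Scheme.Opens.range_ι, Subsingleton.elim w default]
          exact hx), IsOpenImmersion.lift_fac _ _ _⟩
      haveI : Subsingleton {z : Spec (CommRingCat.of Ω) ⟶ W.toScheme // z ≫ W.ι = ξ} :=
        ⟨fun a b => Subtype.ext ((cancel_mono W.ι).1 (a.2.trans b.2.symm))⟩
      refine ConcreteCategory.hom_ext _ _ fun p => ?_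
      rw [show t = oneHom ℓ X ≫ ((EtCoh.pullPushAdj W.ι).unit.app C ≫ (EtDual68.FTrace.tr W.ι).app C) from rfl,
        Functor.map_comp, ConcreteCategory.comp_apply, e, Fintype.card_eq_one_iff.2
          ⟨z₀, fun z => Subsingleton.elim z z₀⟩, one_smul]
    · intro hx
      haveI : IsEmpty {z : Spec (CommRingCat.of Ω) ⟶ W.toScheme // z ≫ W.ι = ξ} := ⟨fun z => hx (by
        rw [← z.2]; exact (z.1.base default).2)⟩
      refine ConcreteCategory.hom_ext _ _ fun p => ?_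
      rw [show t = oneHom ℓ X ≫ ((EtCoh.pullPushAdj W.ι).unit.app C ≫ (EtDual68.FTrace.tr W.ι).app C) from rfl,
        Functor.map_comp, ConcreteCategory.comp_apply, e, Fintype.card_eq_zero, zero_smul]
      rfl
  obtain ⟨Ω₀, _, _, ξ₀, hξ₀⟩ := hpt x₀
  haveI hadd : ∀ {Ω : Type u} [Field Ω] [IsAlgClosed Ω] (ξ : Spec (CommRingCat.of Ω) ⟶ X), (EtCoh.stalk ξ).Additive :=
    fun ξ => Functor.additive_of_preserves_binary_products _
  obtain ⟨Ω₁, _, _, ξ₁, hξ₁⟩ := hpt x₁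
  have h1 : m • (EtCoh.stalk ξ₁).map (oneHom ℓ X) = 0 := by
    rw [← Functor.map_nsmul, ← hm']
    exact (hin ξ₁).2 (hξ₁ ▸ hx₁)
  have hl : ℓ ∣ m := by
    by_contra hnd
    refine oneCls_ne_zero ℓ X ξ₁ (GalEt.eq_zero_of_coprime_smul (hℓ.out.coprime_iff_not_dvd.2 hnd) ?_ h1)
    rw [← Functor.map_nsmul, ← Category.comp_id (oneHom ℓ X), ← Preadditive.comp_nsmul,
      show ℓ • 𝟙 (EtCoh.const X (ZMod ℓ)) = 0 from isKilled_const ℓ X, comp_zero, Functor.map_zero]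
  obtain ⟨d, rfl⟩ := hl
  refine oneCls_ne_zero ℓ X ξ₀ ?_
  rw [← (hin ξ₀).1 (hξ₀ ▸ hx₀), hm', mul_comm, mul_nsmul', ← Category.comp_id (oneHom ℓ X),
    ← Preadditive.comp_nsmul, show ℓ • 𝟙 (EtCoh.const X (ZMod ℓ)) = 0 from isKilled_const ℓ X, comp_zero]
  simp

end Groth.Agent.EtDerLib
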