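import Groth.Agent.GalEt.ConstPush
import Groth.Agent.EtFound.LocConst
import Groth.Agent.EtFound.Basic

/-!
# Sections of a constant sheaf as locally constant functions
-/

set_option autoImplicit false

universe u

open CategoryTheory CategoryTheory.Limits AlgebraicGeometry Opposite

noncomputable section

namespace Groth.Agent.EtDerLib.ConstSec

set_option linter.style.haveILetI false
set_option backward.isDefEq.respectTransparency.types false

variable {X : Scheme.{u}} (M : Type) [AddCommGroup M]

/-- sections of the constant sheaf -/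
abbrev Sec (W : X.Etale) : Type (u + 1) := (EtCoh.const X M).obj.obj (op W)

/-- the constant section -/
abbrev cs (W : X.Etale) (m : M) : Sec M W := GalEt.cst (AddCommGrpCat.of (ULift.{u + 1} M)) W ⟨m⟩

theorem cs_res {W V : X.Etale} (g : V ⟶ W) (m : M) : (EtCoh.const X M).obj.map g.op (cs M W m) = cs M V m :=
  GalEt.cst_res (AddCommGrpCat.of (ULift.{u + 1} M)) g ⟨m⟩

/-- `s` is the constant `m` near `w` -/
def IsVal (W : X.Etale) (s : Sec M W) (w : W.left) (m : M) : Prop :=
  ∃ (V : X.Etale) (g : V ⟶ W) (v : V.left), g.left.base v = w ∧ (EtCoh.const X M).obj.map g.op s = cs M V m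

variable {M}

theorem exists_isVal {W : X.Etale} (s : Sec M W) (w : W.left) : ∃ m, IsVal M W s w m := by
  obtain ⟨Ω, _, _, ξ, z, hz⟩ := EtFound.exists_algClosed_point W w
  have hb := EtFound.toSheafify_const_germ_bijective ξ AddCommGrpCat.{u + 1}
    (AddCommGrpCat.of (ULift.{u + 1} M)) W z
  obtain ⟨⟨m⟩, hm⟩ := hb.2 ((Scheme.pointSmallEtale ξ).toPresheafFiber W z (EtCoh.const X M).obj s)
  obtain ⟨V, g, v, hv, hg⟩ := ((Scheme.pointSmallEtale ξ).toPresheafFiber_eq_iff' W z _ _).1 hm.symm
  refine ⟨m, V, g, (v.left : Spec (CommRingCat.of Ω) ⟶ V.left).base (default : Spec (CommRingCat.of Ω)), ?_,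
    hg.trans (cs_res M g m)⟩
  rw [← hz, ← hv]
  exact (Scheme.Hom.comp_apply _ _ _).symm

theorem isVal_unique {W : X.Etale} {s : Sec M W} {w : W.left} {m m' : M} (h : IsVal M W s w m)
    (h' : IsVal M W s w m') : m = m' := by
  obtain ⟨V, g, v, hv, hg⟩ := h
  obtain ⟨V', g', v', hv', hg'⟩ := h'
  obtain ⟨p, hp1, hp2⟩ := Scheme.Pullback.exists_preimage_pullback (f := g.left) (g := g'.left) v v' (hv.trans hv'.symm)
  let t : pullback g.left g'.left ⟶ X := pullback.fst g.left g'.left ≫ V.hom
  haveI : AlgebraicGeometry.Etale V.hom := V.prop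
  haveI : AlgebraicGeometry.Etale V'.hom := V'.prop
  haveI : AlgebraicGeometry.Etale W.hom := W.prop
  haveI : AlgebraicGeometry.Etale g'.left := by
    haveI : AlgebraicGeometry.Etale (g'.left ≫ W.hom) := by
      rw [show g'.left ≫ W.hom = V'.hom from MorphismProperty.Over.w g']; infer_instance
    exact Etale.of_comp g'.left W.hom
  let P : X.Etale := Scheme.Etale.mk t
  let a : P ⟶ V := MorphismProperty.Over.homMk (pullback.fst _ _) rfl
  let b : P ⟶ V' := MorphismProperty.Over.homMk (pullback.snd _ _) (by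
    show pullback.snd g.left g'.left ≫ V'.hom = pullback.fst g.left g'.left ≫ V.hom
    rw [← MorphismProperty.Over.w g, ← MorphismProperty.Over.w g', ← Category.assoc, ← Category.assoc,
      pullback.condition])
  have hab : a ≫ g = b ≫ g' := MorphismProperty.Over.Hom.ext pullback.condition
  have e : cs M P m = cs M P m' := by
    rw [← cs_res M a m, ← hg, ← cs_res M b m', ← hg', ← Functor.map_comp_apply, ← Functor.map_comp_apply,
      ← op_comp, ← op_comp, hab]
  obtain ⟨Ω, _, _, ξ, z, -⟩ := EtFound.exists_algClosed_point P p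
  exact congrArg ULift.down ((EtFound.toSheafify_const_germ_bijective ξ AddCommGrpCat.{u + 1}
    (AddCommGrpCat.of (ULift.{u + 1} M)) P z).1
      (congrArg ((Scheme.pointSmallEtale ξ).toPresheafFiber P z (EtCoh.const X M).obj) e))

/-- the value of a section at a point -/
def val {W : X.Etale} (s : Sec M W) (w : W.left) : M := (exists_isVal s w).choose

theorem val_spec {W : X.Etale} (s : Sec M W) (w : W.left) : IsVal M W s w (val s w) := (exists_isVal s w).choose_spec

theorem val_eq {W : X.Etale} {s : Sec M W} {w : W.left} {m : M} (h : IsVal M W s w m) : val s w = m :=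
  isVal_unique (val_spec s w) h

theorem val_cs (W : X.Etale) (m : M) (w : W.left) : val (cs M W m) w = m :=
  val_eq ⟨W, 𝟙 W, w, rfl, cs_res M (𝟙 W) m⟩

theorem val_res {W V : X.Etale} (g : V ⟶ W) (s : Sec M W) (v : V.left) :
    val ((EtCoh.const X M).obj.map g.op s) v = val s (g.left.base v) := by
  obtain ⟨T, h, t, ht, hT⟩ := val_spec ((EtCoh.const X M).obj.map g.op s) v
  refine (val_eq ⟨T, h ≫ g, t, ?_, ?_⟩).symm
  · rw [← ht]
    exact (Scheme.Hom.comp_apply h.left g.left t)
  · rw [op_comp, Functor.map_comp_apply]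
    exact hT

theorem isLocallyConstant_val {W : X.Etale} (s : Sec M W) : IsLocallyConstant (val s) := by
  rw [IsLocallyConstant.iff_exists_open]
  intro w
  obtain ⟨V, g, v, hv, hg⟩ := val_spec s w
  haveI : AlgebraicGeometry.Etale V.hom := V.prop
  haveI : AlgebraicGeometry.Etale W.hom := W.prop
  haveI : AlgebraicGeometry.Etale g.left := by
    haveI : AlgebraicGeometry.Etale (g.left ≫ W.hom) := by
      rw [show g.left ≫ W.hom = V.hom from MorphismProperty.Over.w g]; infer_instance
    exact Etale.of_comp g.left W.hom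
  refine ⟨Set.range g.left.base, g.left.isOpenMap.isOpen_range, ⟨v, hv⟩, ?_⟩
  rintro _ ⟨v', rfl⟩
  exact val_eq ⟨V, g, v', rfl, hg⟩

theorem ext_val {W : X.Etale} {s t : Sec M W} (h : ∀ w, val s w = val t w) : s = t := by
  refine EtFound.eq_of_cover (EtCoh.const X M) _ _ ((EtFound.mem_topology_iff _).2 fun w => ?_)
  obtain ⟨V, g, v, hv, hg⟩ := val_spec s w
  obtain ⟨V', g', v', hv', hg'⟩ := val_spec t ((g.left).base v)
  obtain ⟨Ω, _, _, ξ, z, hz⟩ := EtFound.exists_algClosed_point V v
  let Φ := Scheme.pointSmallEtale ξ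
  have hge : Φ.toPresheafFiber V z (EtCoh.const X M).obj ((EtCoh.const X M).obj.map g.op t) =
      Φ.toPresheafFiber V z (EtCoh.const X M).obj ((EtCoh.const X M).obj.map g.op s) := by
    obtain ⟨⟨m⟩, hm⟩ := (EtFound.toSheafify_const_germ_bijective ξ AddCommGrpCat.{u + 1}
      (AddCommGrpCat.of (ULift.{u + 1} M)) V z).2
      (Φ.toPresheafFiber V z (EtCoh.const X M).obj ((EtCoh.const X M).obj.map g.op t))
    obtain ⟨V'', g'', v'', hv'', hg''⟩ := (Φ.toPresheafFiber_eq_iff' V z _ _).1 hm.symm
    have h1 : val ((EtCoh.const X M).obj.map g.op t) v = m := by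
      refine val_eq ⟨V'', g'', (v''.left : Spec (CommRingCat.of Ω) ⟶ V''.left).base
        (default : Spec (CommRingCat.of Ω)), ?_, hg''.trans (cs_res M g'' m)⟩
      rw [← hz, ← hv'']
      exact (Scheme.Hom.comp_apply _ _ _).symm
    rw [← hm, hg]
    refine congrArg _ (congrArg (fun m => cs M V m) ?_)
    rw [← h1, val_res, hv, h w]
  obtain ⟨V'', g'', v'', hv'', hg''⟩ := (Φ.toPresheafFiber_eq_iff' V z _ _).1 hge
  refine ⟨V'', g'' ≫ g, (v''.left : Spec (CommRingCat.of Ω) ⟶ V''.left).base (default : Spec (CommRingCat.of Ω)), ?_, ?_⟩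
  · show (EtCoh.const X M).obj.map (g'' ≫ g).op s = (EtCoh.const X M).obj.map (g'' ≫ g).op t
    rw [op_comp, Functor.map_comp_apply, Functor.map_comp_apply, hg'']
  · rw [← hv, ← hz, ← hv'']
    refine (Scheme.Hom.comp_apply _ g.left _).trans (congrArg _ ?_)
    exact (Scheme.Hom.comp_apply _ _ _).symm

/-- a section with given values -/
theorem exists_of_clopen (W : X.Etale) {C : Set W.left} (hC : IsClopen C) (a b : M) :
    ∃ s : Sec M W, (∀ w ∈ C, val s w = a) ∧ ∀ w ∉ C, val s w = b := by
  classical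
  haveI : AlgebraicGeometry.Etale W.hom := W.prop
  let S : Sieve W :=
    { arrows := fun {Z} g => Set.range g.left.base ⊆ C ∨ Set.range g.left.base ⊆ Cᶜ
      downward_closed := by
        rintro Y Z g hg h
        have : Set.range (h ≫ g).left.base ⊆ Set.range g.left.base := by
          rintro _ ⟨x, rfl⟩
          exact ⟨h.left.base x, (Scheme.Hom.comp_apply h.left g.left x).symm⟩
        exact hg.imp this.trans this.trans }
  have hS : S ∈ X.smallEtaleTopology W := by
    refine (EtFound.mem_topology_iff _).2 fun w => ?_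
    let O : W.left.Opens := if w ∈ C then ⟨C, hC.2⟩ else ⟨Cᶜ, hC.compl.2⟩
    have hw : w ∈ O := by
      by_cases h : w ∈ C <;> simp only [O, h, if_true, if_false] <;> exact h
    refine ⟨Scheme.Etale.mk (O.ι ≫ W.hom), MorphismProperty.Over.homMk O.ι rfl, ⟨w, hw⟩, ?_, rfl⟩
    show Set.range O.ι.base ⊆ C ∨ Set.range O.ι.base ⊆ Cᶜ
    rw [Scheme.Opens.range_ι]
    by_cases h : w ∈ C
    · exact Or.inl (by simp only [O, h, if_true]; exact subset_rfl)
    · exact Or.inr (by simp only [O, h, if_false]; exact subset_rfl)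
  let x : Presieve.FamilyOfElements ((EtCoh.const X M).obj ⋙ forget _) S.arrows :=
    fun Z g _ => cs M Z (if Set.range g.left.base ⊆ C then a else b)
  have key : ∀ {Z : X.Etale} (g : Z ⟶ W), S g → ∀ z : Z.left,
      (if Set.range g.left.base ⊆ C then a else b) = if g.left.base z ∈ C then a else b := by
    intro Z g hg z
    rcases hg with h | h
    · rw [if_pos h, if_pos (h ⟨z, rfl⟩)]
    · rw [if_neg (h ⟨z, rfl⟩), if_neg fun h' => h ⟨z, rfl⟩ (h' ⟨z, rfl⟩)]
  have hx : x.Compatible := by
    intro Z₁ Z₂ T g₁ g₂ f₁ f₂ h₁ h₂ he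
    refine ext_val fun z => ?_
    show val ((EtCoh.const X M).obj.map g₁.op _) z = val ((EtCoh.const X M).obj.map g₂.op _) z
    rw [val_res, val_res, val_cs, val_cs, key f₁ h₁ (g₁.left.base z), key f₂ h₂ (g₂.left.base z)]
    have e : f₁.left.base (g₁.left.base z) = f₂.left.base (g₂.left.base z) := by
      have := congrArg (fun q : T ⟶ W => q.left.base z) he
      exact (Scheme.Hom.comp_apply g₁.left f₁.left z).symm.trans (this.trans (Scheme.Hom.comp_apply g₂.left f₂.left z))
    rw [e]
  have hsh : Presieve.IsSheafFor ((EtCoh.const X M).obj ⋙ forget _) S.arrows :=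
    (isSheaf_iff_isSheaf_of_type _ _).1
      ((sheafCompose X.smallEtaleTopology (forget AddCommGrpCat.{u + 1})).obj (EtCoh.const X M)).property S hS
  let s : Sec M W := hsh.amalgamate x hx
  have hs : ∀ w, val s w = if w ∈ C then a else b := fun w => by
    obtain ⟨Z, g, z, hg, hz⟩ := (EtFound.mem_topology_iff _).1 hS w
    have e : (EtCoh.const X M).obj.map g.op s = cs M Z (if Set.range g.left.base ⊆ C then a else b) :=
      hsh.valid_glue hx g hg
    rw [← hz, ← val_res, e, val_cs, key g hg z]
  exact ⟨s, fun w hw => by rw [hs, if_pos hw], fun w hw => by rw [hs, if_neg hw]⟩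

end Groth.Agent.EtDerLib.ConstSec
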