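import Groth.Agent.LA96.FibreStalk
import Groth.Agent.DimFormula.Order
import Groth.Agent.LC.ExtDim
import Groth.Prelude.Def_SGA2
import Groth.Prelude.Def_Found

/-! # Codimensions along a flat map from a Cohen-Macaulay ring to a catenary ring -/

set_option autoImplicit false
set_option linter.style.haveILetI false

universe u

open Order IsLocalRing

namespace Groth.Agent.EtDerLib.DeltaRing

variable {A A' : Type u} [CommRing A] [CommRing A'] [IsNoetherianRing A] [IsNoetherianRing A']

theorem height_ne_top (p : PrimeSpectrum A) : height p ≠ ⊤ := by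
  rw [← PrimeSpectrum.height_eq_orderHeight]
  exact Ideal.height_ne_top p.isPrime.ne_top

/-- A saturated series in an interval computes the height in that interval. -/
theorem height_Ici_eq_length (hcat : CAlg.IsCatenary A') (s : LTSeries (PrimeSpectrum A'))
    (hs : ∀ i : Fin s.length, s i.castSucc ⋖ s i.succ) (P T : PrimeSpectrum A') (h : P ≤ T)
    (h0 : s.head = P) (h1 : s.last = T) :
    height (⟨T, h⟩ : ↥(Set.Ici P)) = (s.length : ℕ∞) := by
  obtain ⟨n, hn⟩ := hcat.1 P T h
  have hbound : height (⟨T, h⟩ : ↥(Set.Ici P)) ≤ (n : ℕ∞) := by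
    rw [height_eq_iSup_last_eq]
    refine iSup₂_le fun l hl => ?_
    have hlast : (l.map Subtype.val (Subtype.strictMono_coe _)).last = T := by rw [LTSeries.last_map, hl]
    by_cases he : (l.head : PrimeSpectrum A') = P
    · exact_mod_cast hn (l.map Subtype.val (Subtype.strictMono_coe _)) (by simpa using he) hlast
    · have hlt : P < (l.map Subtype.val (Subtype.strictMono_coe _)).head := by
        rw [LTSeries.head_map]
        exact lt_of_le_of_ne (show P ≤ (l.head : PrimeSpectrum A') from l.head.2) (Ne.symm he)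
      have := hn ((l.map Subtype.val (Subtype.strictMono_coe _)).cons P hlt) (by simp) (by rw [RelSeries.last_cons, hlast])
      exact_mod_cast (show l.length ≤ n from by rw [RelSeries.cons_length] at this; exact (Nat.le_succ _).trans this)
  obtain ⟨m, hm⟩ := ENat.ne_top_iff_exists.1 (ne_top_of_le_ne_top (ENat.coe_ne_top n) hbound)
  obtain ⟨l, hl, hlen⟩ := exists_series_of_height_eq_coe (⟨T, h⟩ : ↥(Set.Ici P)) hm.symm
  have hsat := DimFormula.saturated_of_length_eq_height l (by rw [hl, ← hm, hlen])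
  have hhead : (l.head : PrimeSpectrum A') = P := by
    by_contra he
    have hlt : (⟨P, (le_rfl : P ≤ P)⟩ : ↥(Set.Ici P)) < l.head :=
      lt_of_le_of_ne (show P ≤ (l.head : PrimeSpectrum A') from l.head.2) fun e => he (congrArg Subtype.val e.symm)
    have := length_le_height_last (p := l.cons _ hlt)
    rw [RelSeries.last_cons, hl, ← hm, RelSeries.cons_length, hlen, Nat.cast_le] at this
    omega
  let l' := l.map Subtype.val (Subtype.strictMono_coe _)
  have hsat' : ∀ i : Fin l'.length, l' i.castSucc ⋖ l' i.succ := fun i =>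
    ⟨l'.step i, fun z hz hz' => (hsat i).2 (c := ⟨z, (l i.castSucc).2.trans hz.le⟩) hz hz'⟩
  have := hcat.2 s l' (h0.trans ((LTSeries.head_map _ _ _).trans hhead).symm)
    (by rw [h1, LTSeries.last_map, hl]) hs hsat'
  rw [← hm, this]
  exact congrArg Nat.cast hlen.symm

variable [Algebra A A'] [Module.Flat A A']

theorem depth_le_height_Ici (P T : PrimeSpectrum A') (hP : height P = 0) (h : P ≤ T) :
    LocCoh.depth (Localization.AtPrime T.asIdeal) (Localization.AtPrime T.asIdeal) ≤
      height (⟨T, h⟩ : ↥(Set.Ici P)) := by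
  let R := Localization.AtPrime T.asIdeal
  have hmono : StrictMono (PrimeSpectrum.comap (algebraMap A' R)) :=
    Monotone.strictMono_of_injective (fun a b hab => Ideal.comap_mono hab)
      (PrimeSpectrum.localization_comap_injective R T.asIdeal.primeCompl)
  obtain ⟨Q, hQ⟩ : P ∈ Set.range (PrimeSpectrum.comap (algebraMap A' R)) := by
    rw [PrimeSpectrum.localization_comap_range R T.asIdeal.primeCompl]
    exact Set.disjoint_left.2 fun a ha ha' => ha (h ha')
  have hQmin : Q.asIdeal ∈ minimalPrimes R := by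
    refine ⟨⟨Q.isPrime, bot_le⟩, fun J hJ hJQ => ?_⟩
    by_contra hne
    have hlt : (⟨J, hJ.1⟩ : PrimeSpectrum R) < Q :=
      lt_of_le_of_ne hJQ fun e => hne (by rw [← e])
    have hlt' := hmono hlt
    rw [hQ] at hlt'
    exact hlt'.not_ge ((height_eq_zero.1 hP) hlt'.le)
  have hass : Q.asIdeal ∈ associatedPrimes R R :=
    Module.associatedPrimes.minimalPrimes_annihilator_subset_associatedPrimes R R (by
      rw [Module.annihilator_eq_bot.2 inferInstance]
      exact hQmin)
  refine (LC.depth_le_coheight_of_ass R hass).trans ?_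
  rw [coheight_eq_iSup_head_eq]
  refine iSup₂_le fun l hl => ?_
  have hle : ∀ i, P ≤ PrimeSpectrum.comap (algebraMap A' R) (l i) := fun i => by
    rw [← hQ, ← hl]
    exact hmono.monotone (l.head_le i)
  let l' : LTSeries ↥(Set.Ici P) :=
    LTSeries.mk l.length (fun i => ⟨_, hle i⟩) fun i j hij => hmono (l.strictMono hij)
  have hlast : l'.last ≤ ⟨T, h⟩ := by
    show (PrimeSpectrum.comap (algebraMap A' R) l.last).asIdeal ≤ T.asIdeal
    have hm : l.last.asIdeal ≤ maximalIdeal R := le_maximalIdeal l.last.isPrime.ne_top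
    refine (Ideal.comap_mono hm).trans_eq ?_
    exact IsLocalization.AtPrime.comap_maximalIdeal R T.asIdeal
  exact (length_le_height (p := l') hlast)

/-- `codim (V p ∩ V I) ≤ codim (V q ∩ V I') + dim` of the fibre at `q`. -/
theorem relCodim_le (hcm : LocCoh.IsCohenMacaulayRing A) (hcat' : CAlg.IsCatenary A') (I : Ideal A)
    (I' : Ideal A') (hTT : ∀ q : PrimeSpectrum A', I' ≤ q.asIdeal → I ≤ q.asIdeal.comap (algebraMap A A'))
    (Q : PrimeSpectrum A') (a b : ℕ)
    (ha : SGA2.relCodim I (PrimeSpectrum.comap (algebraMap A A') Q) = a)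
    (hb : SGA2.relCodim I' Q = b) :
    ∃ l : LTSeries (PrimeSpectrum A'), l.last = Q ∧
      (∀ i, PrimeSpectrum.comap (algebraMap A A') (l i) = PrimeSpectrum.comap (algebraMap A A') Q) ∧
      a ≤ b + l.length := by
  haveI := hcm
  obtain ⟨T, hQT, hIT, hTb⟩ : ∃ T : PrimeSpectrum A', ∃ h : Q ≤ T, I' ≤ T.asIdeal ∧
      height (⟨T, h⟩ : ↥(Set.Ici Q)) = b := by
    unfold SGA2.relCodim at hb
    haveI : Nonempty {q : PrimeSpectrum A' // Q ≤ q ∧ I' ≤ q.asIdeal} := by
      by_contra hne
      rw [not_nonempty_iff] at hne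
      rw [iInf_of_empty] at hb
      exact ENat.coe_ne_top b hb.symm
    obtain ⟨⟨T, h1, h2⟩, hT⟩ := ENat.exists_eq_iInf
      fun q : {q : PrimeSpectrum A' // Q ≤ q ∧ I' ≤ q.asIdeal} => height (⟨q.1, q.2.1⟩ : Set.Ici Q)
    exact ⟨T, h1, h2, hT.trans hb⟩
  let p := PrimeSpectrum.comap (algebraMap A A') Q
  let t := PrimeSpectrum.comap (algebraMap A A') T
  have hpt : p ≤ t := Ideal.comap_mono hQT
  have hat : (a : ℕ∞) ≤ height (⟨t, hpt⟩ : ↥(Set.Ici p)) := by
    rw [← ha]
    exact iInf_le (fun q : {q : PrimeSpectrum A // p ≤ q ∧ I ≤ q.asIdeal} => height (⟨q.1, q.2.1⟩ : Set.Ici p))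
      ⟨t, hpt, hTT T hIT⟩
  -- a saturated series ending at Q
  obtain ⟨hQn, hQh⟩ := ENat.ne_top_iff_exists.1 (height_ne_top Q)
  obtain ⟨s, hs1, hslen, hssat, hs0⟩ := DimFormula.exists_saturated_series hQh.symm
  obtain ⟨l₁, hl₁, hl₁len⟩ := exists_series_of_height_eq_coe _ hTb
  have hl₁head : (l₁.head : PrimeSpectrum A') = Q := by
    by_contra he
    have hlt : (⟨Q, (le_rfl : Q ≤ Q)⟩ : ↥(Set.Ici Q)) < l₁.head :=
      lt_of_le_of_ne (show Q ≤ (l₁.head : PrimeSpectrum A') from l₁.head.2) fun e => he (congrArg Subtype.val e.symm)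
    have := length_le_height_last (p := l₁.cons _ hlt)
    rw [RelSeries.last_cons, hl₁, hTb, RelSeries.cons_length, hl₁len, Nat.cast_le] at this
    omega
  have hsat₁ := DimFormula.saturated_of_length_eq_height l₁ (by rw [hl₁, hTb, hl₁len])
  let l₁' := l₁.map Subtype.val (Subtype.strictMono_coe _)
  have hsat₁' : ∀ i : Fin l₁'.length, l₁' i.castSucc ⋖ l₁' i.succ := fun i =>
    ⟨l₁'.step i, fun z hz hz' => (hsat₁ i).2 (c := ⟨z, (l₁ i.castSucc).2.trans hz.le⟩) hz hz'⟩
  let c := s.smash l₁' (hs1.trans ((LTSeries.head_map _ _ _).trans hl₁head).symm)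
  have hcsat : ∀ i : Fin c.length, c i.castSucc ⋖ c i.succ := by
    intro i
    induction i using Fin.addCases with
    | left i =>
      erw [RelSeries.smash_castAdd, RelSeries.smash_succ_castAdd]
      exact hssat i
    | right i =>
      erw [RelSeries.smash_natAdd, RelSeries.smash_succ_natAdd]
      exact hsat₁' i
  have hc0 : c.head = s.head := RelSeries.head_smash _
  have hc1 : c.last = T := by rw [RelSeries.last_smash, LTSeries.last_map, hl₁]
  have hPT : s.head ≤ T := (hs1 ▸ s.head_le_last).trans hQT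
  have hheight := height_Ici_eq_length hcat' c hcsat s.head T hPT hc0 hc1
  have hclen : c.length = hQn + b := by
    show s.length + l₁.length = _
    rw [hslen, hl₁len]
  -- depth
  let R := Localization.AtPrime T.asIdeal
  let R₀ := Localization.AtPrime t.asIdeal
  letI := (Localization.localRingHom t.asIdeal T.asIdeal (algebraMap A A') rfl).toAlgebra
  haveI : IsLocalHom (algebraMap R₀ R) := Localization.isLocalHom_localRingHom _ _ _ rfl
  haveI : Module.Flat R₀ R :=
    RingHom.Flat.localRingHom (f := algebraMap A A') (RingHom.flat_algebraMap_iff.2 ‹_›) T.asIdeal t.asIdeal rfl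
  have hdep : LocCoh.depth R₀ R₀ ≤ LocCoh.depth R R := by
    rw [LA96.depth_eq_add R₀ R]
    exact le_self_add
  haveI : LocCoh.IsCohenMacaulayLocalRing R₀ :=
    LocCoh.IsCohenMacaulayRing.isCohenMacaulayLocalRing_localization t.asIdeal
  have hdim : LocCoh.depth R₀ R₀ = height t := by
    have h1 := LA96.depth_eq_ringKrullDim R₀
    rw [IsLocalization.AtPrime.ringKrullDim_eq_height t.asIdeal R₀, PrimeSpectrum.height_eq_orderHeight] at h1
    exact_mod_cast h1
  have hsum := DimFormula.height_add_height_le hpt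
  have hchain : height p + (a : ℕ∞) ≤ (hQn : ℕ∞) + b := by
    refine ((add_le_add le_rfl hat).trans hsum).trans ?_
    rw [← hdim]
    refine hdep.trans ((depth_le_height_Ici s.head T hs0 hPT).trans ?_)
    rw [hheight, hclen]
    push_cast
    rfl
  -- the series in the fibre
  haveI : Q.asIdeal.LiesOver p.asIdeal := ⟨rfl⟩
  let mk := Ideal.Quotient.mk (p.asIdeal.map (algebraMap A A'))
  have hker : RingHom.ker mk ≤ Q.asIdeal := by
    rw [Ideal.mk_ker, Ideal.map_le_iff_le_comap]
    exact le_rfl
  haveI : (Q.asIdeal.map mk).IsPrime := Ideal.map_isPrime_of_surjective Ideal.Quotient.mk_surjective hker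
  have hle := Ideal.height_le_height_add_of_liesOver p.asIdeal Q.asIdeal
  obtain ⟨m, hm⟩ := ENat.ne_top_iff_exists.1
    (Ideal.height_ne_top (inferInstance : (Q.asIdeal.map mk).IsPrime).ne_top)
  obtain ⟨lq, hlq, hlqlen⟩ := exists_series_of_height_eq_coe
    (⟨Q.asIdeal.map mk, inferInstance⟩ : PrimeSpectrum _) (n := m)
    ((PrimeSpectrum.height_eq_orderHeight _).symm.trans hm.symm)
  let l := lq.map (PrimeSpectrum.comap mk) (RingHom.strictMono_comap_of_surjective Ideal.Quotient.mk_surjective)
  have hllast : l.last = Q := by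
    rw [LTSeries.last_map, hlq]
    refine PrimeSpectrum.ext ?_
    show (Q.asIdeal.map mk).comap mk = Q.asIdeal
    rw [Ideal.comap_map_of_surjective' _ Ideal.Quotient.mk_surjective, sup_eq_left]
    exact hker
  refine ⟨l, hllast, fun i => ?_, ?_⟩
  · refine le_antisymm (Ideal.comap_mono (hllast ▸ LTSeries.monotone l (Fin.le_last i))) ?_
    show p.asIdeal ≤ ((lq i).asIdeal.comap mk).comap (algebraMap A A')
    rw [← Ideal.map_le_iff_le_comap]
    intro x hx
    show mk x ∈ (lq i).asIdeal
    rw [Ideal.Quotient.eq_zero_iff_mem.2 hx]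
    exact Ideal.zero_mem _
  · obtain ⟨hp, hph⟩ := ENat.ne_top_iff_exists.1 (height_ne_top p)
    have hQp : (hQn : ℕ∞) ≤ hp + m := by
      rw [hQh, hph, hm, ← PrimeSpectrum.height_eq_orderHeight, ← PrimeSpectrum.height_eq_orderHeight]
      exact hle
    rw [← hph] at hchain
    have h1 : hp + a ≤ hQn + b := by exact_mod_cast hchain
    have h2 : hQn ≤ hp + m := by exact_mod_cast hQp
    show a ≤ b + lq.length
    omega

end Groth.Agent.EtDerLib.DeltaRing
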