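import Groth.Agent.EtDerLib.DeltaRing
import Groth.Agent.FibDim.FlatBC
import Groth.Agent.FibDim.Minimal
import Groth.Agent.DimFormula.Fibre
import Groth.Agent.FlatFun4.FlatDimLim
import Groth.Prelude.Def_CInt

/-! # The inequality between `delta_T` and the dimension of the fibre of a flat base change -/

set_option autoImplicit false
set_option linter.style.haveILetI false

universe u

open CategoryTheory CategoryTheory.Limits AlgebraicGeometry Order

namespace Groth.Agent.EtDerLib.DeltaT

variable {X X' S S' : Scheme.{u}}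

/-- Series in a flat pullback fibre bound the codimension from below. -/
theorem add_le_coheight_fiber {f : X ⟶ S} {p : X' ⟶ X} {q : X' ⟶ S'} {g : S' ⟶ S}
    (h : IsPullback p q f g) (x : X) (w₀ : ↥(p.fiber x)) (η : X') (hη : η ⤳ p.fiberι x w₀)
    (hpη : p η = x) [IsLocallyNoetherian X'] (L : LTSeries S') (hL0 : L.head = q η)
    (hLg : ∀ i, g (L i) = f x) :
    ((DimFormula.cd η (p.fiberι x w₀) + L.length : ℕ) : ℕ∞) ≤ coheight w₀ := by
  have hsq : IsPullback (p.fiberToSpecResidueField x) (p.fiberι x ≫ q) (X.fromSpecResidueField x ≫ f) g :=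
    (IsPullback.of_hasPullback p (X.fromSpecResidueField x)).flip.paste_vert h
  -- lifting generizations along the fibre
  have lift : ∀ (i : Fin (L.length + 1)) (w : ↥(p.fiber x)), q (p.fiberι x w) = L i →
      ((L.length - i : ℕ) : ℕ∞) ≤ coheight w := by
    intro i
    induction i using Fin.reverseInduction with
    | last => intro w _; simp
    | cast i ih =>
      intro w hw
      have hlt : L i.castSucc < L i.succ := L.step i
      obtain ⟨u, hu, hqu⟩ := FibDim.exists_generization_lift hsq (x' := w) (b := L i.succ)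
        (show L i.succ ⤳ q (p.fiberι x w) from hw ▸ hlt.le) (by
          show g (L i.succ) = g (q (p.fiberι x w))
          rw [hw, hLg, hLg])
      have hne : u ≠ w := fun e => hlt.ne (by rw [← hw, ← e]; exact hqu)
      have hwu : w < u := lt_of_le_not_ge hu fun hle => hne (DimFormula.eq_of_specializes_of_specializes hu hle)
      refine le_trans ?_ (coheight_add_one_le hwu)
      refine le_trans ?_ (add_le_add (ih u hqu) le_rfl)
      simp only [Fin.val_castSucc, Fin.val_succ]
      exact_mod_cast (show L.length - i ≤ L.length - (i + 1) + 1 by omega)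
  obtain ⟨l, hl0, hl1, hll⟩ := DimFormula.exists_cd_series hη
  have hmem : ∀ t : X', η ⤳ t → t ⤳ p.fiberι x w₀ → t ∈ Set.range (p.fiberι x) := fun t h1 h2 => by
    rw [Scheme.Hom.range_fiberι]
    exact DimFormula.eq_of_specializes_of_specializes
      (FibDim.fiber_apply_fiberι p w₀ ▸ h2.map p.continuous) (hpη ▸ h1.map p.continuous)
  obtain ⟨a, ha⟩ := hmem η specializes_rfl hη
  have hge : ∀ i, ∃ w : ↥(p.fiber x), p.fiberι x w = l i := fun i =>
    hmem _ (hl1.trans (LTSeries.monotone l (Fin.le_last i))) (hl0 ▸ l.head_le i)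
  choose w hw using hge
  have hsp : ∀ c d : ↥(p.fiber x), p.fiberι x c ⤳ p.fiberι x d ↔ c ⤳ d :=
    fun c d => (p.fiberι x).isEmbedding.isInducing.specializes_iff
  have key : ∀ i : Fin (l.length + 1), ((l.length - i + L.length : ℕ) : ℕ∞) ≤ coheight (w i) := by
    intro i
    induction i using Fin.reverseInduction with
    | last =>
      have haw : w (Fin.last l.length) ≤ a := by
        show a ⤳ w (Fin.last l.length)
        rw [← hsp, ha, hw]
        exact hl1
      refine le_trans ?_ (coheight_anti haw)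
      have := lift 0 a (by rw [ha]; exact hL0.symm)
      simpa using this
    | cast i ih =>
      have hlt : l i.castSucc < l i.succ := l.step i
      have hlt' : w i.castSucc < w i.succ := by
        refine lt_of_le_not_ge ?_ fun hle => hlt.not_ge ?_
        · show w i.succ ⤳ w i.castSucc
          rw [← hsp, hw, hw]
          exact hlt.le
        · show l i.castSucc ⤳ l i.succ
          rw [← hw, ← hw, hsp]
          exact hle
      refine le_trans ?_ (coheight_add_one_le hlt')
      refine le_trans ?_ (add_le_add ih le_rfl)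
      simp only [Fin.val_castSucc, Fin.val_succ]
      exact_mod_cast (show l.length - i + L.length ≤ l.length - (i + 1) + L.length + 1 by omega)
  have h0 : w 0 = w₀ := (p.fiberι x).isEmbedding.injective ((hw 0).trans hl0)
  have := key 0
  rw [h0] at this
  simpa [hll] using this

/-- A point over `(p x', q x')` above `x'` with the full relative degree. -/
theorem exists_top {f : X ⟶ S} {p : X' ⟶ X} {q : X' ⟶ S'} {g : S' ⟶ S} [LocallyOfFiniteType f]
    [LocallyOfFiniteType q] [IsLocallyNoetherian X'] (h : IsPullback p q f g) (x' : X') :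
    ∃ η, η ⤳ x' ∧ p η = p x' ∧ q η = q x' ∧ FibDim.rd f (p x') = FibDim.rd q x' + DimFormula.cd η x' := by
  classical
  let P : ℕ → Prop := fun n => ∃ η, η ⤳ x' ∧ p η = p x' ∧ q η = q x' ∧ DimFormula.cd η x' = n
  have hbd : ∀ n, P n → n ≤ DimFormula.codim x' := by
    rintro n ⟨η, hη, -, -, rfl⟩
    exact DimFormula.cd_le_codim hη
  have h0 : P 0 := ⟨x', specializes_rfl, rfl, rfl, DimFormula.cd_self x'⟩
  obtain ⟨η, hη, hp, hq, hcd⟩ := Nat.findGreatest_spec (P := P) (Nat.zero_le (DimFormula.codim x')) h0
  refine ⟨η, hη, hp, hq, ?_⟩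
  have hmin : ∀ w, w ⤳ η → p w = p η → q w = q η → w = η := fun w hw hpw hqw => by
    have h1 := DimFormula.cd_add_cd_le hη hw
    have hPw : P (DimFormula.cd w x') := ⟨w, hw.trans hη, hpw.trans hp, hqw.trans hq, rfl⟩
    have h2 := Nat.le_findGreatest (hbd _ hPw) hPw
    exact (DimFormula.cd_eq_zero_iff hw).1 (by omega)
  have h1 := DimFormula.cd_add_rd_of_fibre q hη hq
  rw [FibDim.rd_baseChange_eq_of_minimal h η hmin, hp] at h1
  omega

theorem main (A A' : Type u) [CommRing A] [CommRing A'] [IsNoetherianRing A] [IsNoetherianRing A']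
    (hcm : LocCoh.IsCohenMacaulayRing A) (hcat' : CAlg.IsCatenary A') [Algebra A A'] [Module.Flat A A']
    (I : Ideal A) (I' : Ideal A')
    (hTT : ∀ q : PrimeSpectrum A', I' ≤ q.asIdeal → I ≤ q.asIdeal.comap (algebraMap A A'))
    (f : X ⟶ Spec (CommRingCat.of A)) [LocallyOfFiniteType f]
    {p : X' ⟶ X} {q : X' ⟶ Spec (CommRingCat.of A')} {g : Spec (CommRingCat.of A') ⟶ Spec (CommRingCat.of A)}
    [LocallyOfFiniteType q]
    (hg : g = Spec.map (CommRingCat.ofHom (algebraMap A A'))) (h : IsPullback p q f g) (x' : X')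
    (r r' a b e : ℕ) (hr : FlatFun4.resTr f (p x') = r) (hr' : FlatFun4.resTr q x' = r')
    (ha : SGA2.relCodim I (f (p x')) = a) (hb : SGA2.relCodim I' (q x') = b)
    (he : ringKrullDim ↑(CInt.fiberStalk p x') = (e : WithBot ℕ∞)) : r + a ≤ r' + b + e := by
  haveI : IsLocallyNoetherian X' := LocallyOfFiniteType.isLocallyNoetherian q
  obtain ⟨η, hη, hp, hq, hrd⟩ := exists_top h x'
  rw [FlatFun4.resTr_eq_rd, Nat.cast_inj] at hr hr'
  have hfx : f (p x') = g (q x') := congr($(h.w) x')
  rw [hfx, hg] at ha
  obtain ⟨l, hl, hlg, hab⟩ := DeltaRing.relCodim_le hcm hcat' I I' hTT (q x') a b ha hb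
  let L : LTSeries ↥(Spec (CommRingCat.of A')) := LTSeries.mk l.length (fun i => l i.rev) fun i j hij => by
    have hij' : l j.rev < l i.rev := l.strictMono (Fin.rev_lt_rev.2 hij)
    exact lt_of_le_not_ge ((PrimeSpectrum.le_iff_specializes _ _).1 hij'.le) fun hle =>
      hij'.not_ge ((PrimeSpectrum.le_iff_specializes _ _).2 hle)
  have hL0 : L.head = q η := by
    rw [hq, ← hl]
    show l (Fin.rev 0) = l (Fin.last _)
    rw [Fin.rev_zero]
  have hLg : ∀ i, g (L i) = f (p x') := fun i => by
    rw [hfx, hg]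
    exact hlg i.rev
  have hxι : p.fiberι (p x') (p.asFiber x') = x' := p.fiberι_asFiber x'
  have hmain := add_le_coheight_fiber h (p x') (p.asFiber x') η (by rw [hxι]; exact hη) hp L hL0 hLg
  rw [hxι] at hmain
  rw [CInt.fiberStalk, ringKrullDim_stalk_eq_coheight] at he
  have he' : coheight (p.asFiber x') = (e : ℕ∞) := WithBot.coe_injective he
  rw [he'] at hmain
  have hmain' : DimFormula.cd η x' + l.length ≤ e := by exact_mod_cast hmain
  omega

end Groth.Agent.EtDerLib.DeltaT
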