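import Groth.Agent.TriCat.AcyclicObj
import Groth.Agent.EtFound.PullStalk
import Groth.Agent.EtFound.Detect
import Groth.Prelude.Def_EtDepth
import Groth.Prelude.Def_EtCore

/-!
# Sections with support and etale depth: dimension shifting
-/

set_option autoImplicit false

universe u

open CategoryTheory CategoryTheory.Limits AlgebraicGeometry Opposite

namespace Groth.Agent.EtDerLib

set_option linter.style.haveILetI false
set_option backward.isDefEq.respectTransparency.types false

variable {X U : Scheme.{u}} (j : U ⟶ X) [EtCoh.BCCont j]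

theorem push_mono {F G : EtCoh.Ab U} (a : F ⟶ G) [Mono a] : Mono ((EtCoh.push j).map a) := by
  haveI : (EtCoh.push j).IsRightAdjoint := (EtCoh.pullPushAdj j).isRightAdjoint
  infer_instance

theorem pull_mono {F G : EtCoh.Ab X} (a : F ⟶ G) [Mono a] : Mono ((EtCoh.pull j).map a) := by
  haveI := EtFound.pull_preservesFiniteLimits j
  infer_instance

theorem injective_push (J : EtCoh.Ab U) [Injective J] : Injective ((EtCoh.push j).obj J) := by
  haveI := EtFound.pull_preservesFiniteLimits j
  exact Injective.injective_of_adjoint (EtCoh.pullPushAdj j) J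

theorem mono_unit_push (G : EtCoh.Ab U) : Mono (EtDual.unitApp j ((EtCoh.push j).obj G)) :=
  haveI : Mono (EtDual.unitApp j ((EtCoh.push j).obj G) ≫
      (EtCoh.push j).map ((EtCoh.pullPushAdj j).counit.app G)) := by
    rw [(EtCoh.pullPushAdj j).right_triangle_components G]
    infer_instance
  mono_of_mono _ ((EtCoh.push j).map ((EtCoh.pullPushAdj j).counit.app G))

theorem secSupp_preservesFiniteLimits : PreservesFiniteLimits (EtDual.secSupp j) := by
  refine ((Functor.preservesFiniteLimits_tfae (EtDual.secSupp j)).out 3 0).2 fun S hS => ?_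
  haveI := hS.mono_f
  haveI : Mono ((EtDual.secSupp j).map S.f) := by
    haveI : Mono ((EtDual.secSupp j).map S.f ≫ kernel.ι (EtDual.unitApp j S.X₂)) := by
      rw [show (EtDual.secSupp j).map S.f ≫ kernel.ι (EtDual.unitApp j S.X₂) =
        kernel.ι (EtDual.unitApp j S.X₁) ≫ S.f from kernel.lift_ι _ _ _]
      infer_instance
    exact mono_of_mono _ (kernel.ι (EtDual.unitApp j S.X₂))
  haveI : Mono (S.map (EtDual.secSupp j)).f := ‹_›
  refine ⟨?_, ‹_›⟩
  refine ShortComplex.exact_of_f_is_kernel _ (KernelFork.IsLimit.ofι' _ _ fun {T} x hx => ?_)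
  change T ⟶ kernel (EtDual.unitApp j S.X₂) at x
  have h1 : (x ≫ kernel.ι (EtDual.unitApp j S.X₂)) ≫ S.g = 0 :=
    (Category.assoc _ _ _).trans ((congrArg (x ≫ ·) (kernel.lift_ι _ _ _).symm).trans
      ((Category.assoc _ _ _).symm.trans ((congrArg (· ≫ kernel.ι (EtDual.unitApp j S.X₃)) hx).trans zero_comp)))
  haveI := pull_mono j S.f
  haveI := push_mono j ((EtCoh.pull j).map S.f)
  have h2 : hS.exact.lift _ h1 ≫ EtDual.unitApp j S.X₁ = 0 := by
    apply (cancel_mono ((EtCoh.push j).map ((EtCoh.pull j).map S.f))).1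
    rw [zero_comp, Category.assoc]
    refine (congrArg (hS.exact.lift _ h1 ≫ ·) ((EtCoh.pullPushAdj j).unit.naturality S.f).symm).trans ?_
    rw [Functor.id_map, ← Category.assoc, hS.exact.lift_f]
    exact (Category.assoc _ _ _).trans ((congrArg (x ≫ ·) (kernel.condition _)).trans comp_zero)
  refine ⟨kernel.lift _ _ h2, ?_⟩
  apply (cancel_mono (kernel.ι (EtDual.unitApp j S.X₂))).1
  exact (Category.assoc _ _ _).trans ((congrArg (kernel.lift _ _ h2 ≫ ·) (kernel.lift_ι _ _ _)).trans
    ((Category.assoc _ _ _).symm.trans ((congrArg (· ≫ S.f) (kernel.lift_ι _ _ _)).trans (hS.exact.lift_f _ _))))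

theorem isZero_secSupp_iff (F : EtCoh.Ab X) :
    IsZero ((EtDual.secSupp j).obj F) ↔ Mono (EtDual.unitApp j F) :=
  ⟨fun h => Preadditive.mono_of_kernel_zero (h.eq_of_src _ _), fun _ => isZero_kernel_of_mono _⟩

theorem isZero_locCoh_zero_iff (F : EtCoh.Ab X) :
    IsZero ((EtDual.locCoh j 0).obj F) ↔ Mono (EtDual.unitApp j F) := by
  haveI := secSupp_preservesFiniteLimits j
  rw [← isZero_secSupp_iff]
  exact ((EtDual.secSupp j).rightDerivedZeroIsoSelf.app F).isZero_iff

theorem depthGE_zero (F : EtCoh.Ab X) : EtDepth.DepthGE j F 0 := fun _ h => absurd h (Nat.not_lt_zero _)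

theorem mono_unit_of_depthGE {F : EtCoh.Ab X} {n : ℕ} (h : EtDepth.DepthGE j F (n + 1)) :
    Mono (EtDual.unitApp j F) :=
  (isZero_locCoh_zero_iff j F).1 (h 0 n.succ_pos)

theorem depthGE_one_iff (F : EtCoh.Ab X) : EtDepth.DepthGE j F 1 ↔ Mono (EtDual.unitApp j F) :=
  ⟨mono_unit_of_depthGE j, fun h p hp => by
    obtain rfl : p = 0 := by omega
    exact (isZero_locCoh_zero_iff j F).2 h⟩

/-- dimension shifting along an embedding into an injective sheaf without sections supported off `U` -/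
theorem depthGE_succ_iff {S : ShortComplex (EtCoh.Ab X)} (hS : S.ShortExact) [Injective S.X₂]
    [Mono (EtDual.unitApp j S.X₂)] (hF : Mono (EtDual.unitApp j S.X₁)) (n : ℕ) :
    EtDepth.DepthGE j S.X₁ (n + 1) ↔ EtDepth.DepthGE j S.X₃ n := by
  haveI := secSupp_preservesFiniteLimits j
  let := HasDerivedCategory.standard (EtCoh.Ab X)
  have h2 : ∀ i, IsZero ((EtDual.locCoh j i).obj S.X₂) := fun i => by
    rcases Nat.eq_zero_or_pos i with rfl | hi
    · exact (isZero_locCoh_zero_iff j _).2 ‹_›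
    · exact TriCat.isRightAcyclic_of_injective S.X₂ i hi
  have key : ∀ i, IsZero ((EtDual.locCoh j i).obj S.X₃) ↔ IsZero ((EtDual.locCoh j (i + 1)).obj S.X₁) := fun i => by
    obtain ⟨δ, w₁, w₂, w₃, -, e₂, e₃⟩ := TriCat.exists_rightDerived_ses (EtDual.secSupp j) hS i
    exact ⟨fun h => e₃.isZero_X₂ (h.eq_of_src _ _) ((h2 (i + 1)).eq_of_tgt _ _),
      fun h => e₂.isZero_X₂ ((h2 i).eq_of_src _ _) (h.eq_of_tgt _ _)⟩
  constructor
  · intro h i hi
    exact (key i).2 (h (i + 1) (by omega))
  · intro h i hi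
    rcases i with _ | i
    · exact (isZero_locCoh_zero_iff j _).2 hF
    · exact (key i).1 (h i (by omega))

/-- a sheaf without sections supported off `U` embeds in the direct image of an injective sheaf -/
theorem exists_embedding (F : EtCoh.Ab X) [Mono (EtDual.unitApp j F)] :
    ∃ (J : EtCoh.Ab U) (_ : Injective J) (S : ShortComplex (EtCoh.Ab X)),
      S.ShortExact ∧ S.X₁ = F ∧ S.X₂ = (EtCoh.push j).obj J := by
  let P := Classical.arbitrary (InjectivePresentation ((EtCoh.pull j).obj F))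
  haveI := push_mono j P.f
  let a : F ⟶ (EtCoh.push j).obj P.J := EtDual.unitApp j F ≫ (EtCoh.push j).map P.f
  haveI : Mono a := mono_comp _ _
  exact ⟨P.J, P.injective, ShortComplex.mk a (cokernel.π a) (cokernel.condition a),
    { exact := ShortComplex.exact_of_g_is_cokernel _ (cokernelIsCokernel a) }, rfl, rfl⟩

theorem mono_unit_of_comp {V : Scheme.{u}} (k : V ⟶ X) (k' : U ⟶ V) (e : k' ≫ k = j) (F : EtCoh.Ab X)
    [Mono (EtDual.unitApp j F)] : Mono (EtDual.unitApp k F) := by
  subst e
  have h : EtDual.unitApp (k' ≫ k) F ≫ (EtCoh.push (k' ≫ k)).map ((EtCore.pullComp k' k).hom.app F) =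
    (EtDual.unitApp k F ≫ (EtCoh.push k).map ((EtCoh.pullPushAdj k').unit.app _)) ≫
      (EtCoh.pushComp k k').hom.app _ := by
    refine (Adjunction.unit_leftAdjointUniq_hom_app (EtCoh.pullPushAdj (k' ≫ k))
      (((EtCoh.pullPushAdj k).comp (EtCoh.pullPushAdj k')).ofNatIsoRight (EtCoh.pushComp k k')) F).trans ?_
    rw [Adjunction.ofNatIsoRight_unit]
    simp
  haveI : Mono (EtDual.unitApp (k' ≫ k) F ≫ (EtCoh.push (k' ≫ k)).map ((EtCore.pullComp k' k).hom.app F)) :=
    mono_comp _ _
  rw [h, Category.assoc] at this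
  exact mono_of_mono _ ((EtCoh.push k).map ((EtCoh.pullPushAdj k').unit.app _) ≫ (EtCoh.pushComp k k').hom.app _)

theorem depthGE_mono {V : Scheme.{u}} (k : V ⟶ X) (k' : U ⟶ V) (e : k' ≫ k = j) :
    ∀ (n : ℕ) (F : EtCoh.Ab X), EtDepth.DepthGE j F n → EtDepth.DepthGE k F n := by
  intro n
  induction n with
  | zero => exact fun F _ => depthGE_zero k F
  | succ n ih =>
    intro F h
    haveI := mono_unit_of_depthGE j h
    obtain ⟨J, _, S, hS, rfl, h2⟩ := exists_embedding j F
    haveI : Injective S.X₂ := h2 ▸ injective_push j J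
    haveI : Mono (EtDual.unitApp j S.X₂) := h2.symm ▸ mono_unit_push j J
    haveI := mono_unit_of_comp j k k' e S.X₂
    exact (depthGE_succ_iff k hS (mono_unit_of_comp j k k' e S.X₁) n).2
      (ih _ ((depthGE_succ_iff j hS inferInstance n).1 h))

end Groth.Agent.EtDerLib
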