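import Groth.Agent.EtDerLib.ConstSec
import Groth.Agent.EtDerLib.Supp
import Groth.Agent.Pi1X.FEtFull
import Groth.Agent.Pi1X.FEtColim
import Groth.Agent.S6658

/-!
# Depth one and two for constant coefficients and clopen subsets
-/

set_option autoImplicit false

universe u

open CategoryTheory CategoryTheory.Limits AlgebraicGeometry Opposite

noncomputable section

namespace Groth.Agent.EtDerLib.DepthClopen

set_option linter.style.haveILetI false
set_option backward.isDefEq.respectTransparency.types false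

/-- nonempty clopen sets meet `O` -/
def Meets {T : Type*} [TopologicalSpace T] (O : Set T) : Prop := ∀ C : Set T, IsClopen C → C.Nonempty → (C ∩ O).Nonempty

/-- relatively clopen subsets of `O` extend -/
def Extends {T : Type*} [TopologicalSpace T] (O : Set T) : Prop :=
  ∀ C ⊆ O, IsOpen C → IsOpen (O \ C) → ∃ G : Set T, IsClopen G ∧ G ∩ O = C

variable {X U : Scheme.{u}} (j : U ⟶ X) [IsOpenImmersion j]

/-- the part of an etale scheme over `U` -/
abbrev part {X' : Scheme.{u}} (g : X' ⟶ X) : Set X' := g.base ⁻¹' Set.range j.base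

omit [IsOpenImmersion j] in
theorem range_fst (W : X.Etale) : Set.range (pullback.fst W.hom j).base = part j W.hom :=
  Scheme.Pullback.range_fst _ _

omit [IsOpenImmersion j] in
theorem range_snd {X' : Scheme.{u}} (g : X' ⟶ X) : Set.range (pullback.snd j g).base = part j g :=
  Scheme.Pullback.range_snd _ _

variable (M : Type) [AddCommGroup M]

/-- the unit read in constant sections -/
def toU (W : X.Etale) (s : ConstSec.Sec M W) : ConstSec.Sec M ((EtCoh.bc j).obj W) :=
  (EtCore.pullConst j M).hom.hom.app (op ((EtCoh.bc j).obj W))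
    (((EtCoh.pullPushAdj j).unit.app (EtCoh.const X M)).hom.app (op W) s)

theorem toU_res {W V : X.Etale} (g : V ⟶ W) (s : ConstSec.Sec M W) :
    toU j M V ((EtCoh.const X M).obj.map g.op s) =
      (EtCoh.const U M).obj.map ((EtCoh.bc j).map g).op (toU j M W s) :=
  (congrArg ((EtCore.pullConst j M).hom.hom.app (op ((EtCoh.bc j).obj V)))
    (NatTrans.naturality_apply ((EtCoh.pullPushAdj j).unit.app (EtCoh.const X M)).hom g.op s)).trans
    (NatTrans.naturality_apply (EtCore.pullConst j M).hom.hom ((EtCoh.bc j).map g).op _)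

theorem toU_cs (W : X.Etale) (m : M) : toU j M W (ConstSec.cs M W m) = ConstSec.cs M ((EtCoh.bc j).obj W) m :=
  GalEt.unit_cst j M W ⟨m⟩

theorem val_toU (W : X.Etale) (s : ConstSec.Sec M W) (p : ↥(pullback W.hom j)) :
    ConstSec.val (toU j M W s) p = ConstSec.val s ((pullback.fst W.hom j).base p) := by
  obtain ⟨V, g, v, hv, hg⟩ := ConstSec.val_spec s ((pullback.fst W.hom j).base p)
  have hc : V.hom.base v = j.base ((pullback.snd W.hom j).base p) := by
    rw [← MorphismProperty.Over.w g]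
    refine (Scheme.Hom.comp_apply g.left W.hom v).trans ?_
    rw [hv, ← Scheme.Hom.comp_apply, pullback.condition]
    exact Scheme.Hom.comp_apply _ _ _
  obtain ⟨q, hq1, hq2⟩ := Scheme.Pullback.exists_preimage_pullback (f := V.hom) (g := j) v _ hc
  have hqp : ((EtCoh.bc j).map g).left.base q = p := by
    apply (pullback.fst W.hom j).isOpenEmbedding.injective
    refine ((Scheme.Hom.comp_apply ((EtCoh.bc j).map g).left (pullback.fst W.hom j) q).symm.trans ?_)
    rw [show ((EtCoh.bc j).map g).left ≫ pullback.fst W.hom j = pullback.fst V.hom j ≫ g.left from pullback.lift_fst _ _ _]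
    exact (Scheme.Hom.comp_apply (pullback.fst V.hom j) g.left q).trans ((congrArg g.left.base hq1).trans hv)
  conv_lhs => rw [← hqp]
  rw [← ConstSec.val_res, ← toU_res, hg, toU_cs, ConstSec.val_cs]

theorem injective_pullConst_app (W : U.Etale) :
    Function.Bijective ((EtCore.pullConst j M).hom.hom.app (op W)) :=
  (ConcreteCategory.isIso_iff_bijective _).1
    (inferInstanceAs (IsIso (((sheafToPresheaf _ _).map (EtCore.pullConst j M).hom).app (op W))))

theorem mono_unit_iff : Mono (EtDual.unitApp j (EtCoh.const X M)) ↔ ∀ W, Function.Injective (toU j M W) := by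
  constructor
  · intro h W
    haveI : Mono ((sheafToPresheaf _ _).map (EtDual.unitApp j (EtCoh.const X M))) := inferInstance
    exact (injective_pullConst_app j M _).1.comp
      ((AddCommGrpCat.mono_iff_injective _).1
        (inferInstanceAs (Mono (((sheafToPresheaf _ _).map (EtDual.unitApp j (EtCoh.const X M))).app (op W)))))
  · intro h
    haveI : ∀ W, Mono ((EtDual.unitApp j (EtCoh.const X M)).hom.app W) := fun W =>
      (AddCommGrpCat.mono_iff_injective _).2 fun a b e =>
        h W.unop (congrArg ((EtCore.pullConst j M).hom.hom.app (op ((EtCoh.bc j).obj W.unop))) e)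
    haveI : Mono ((sheafToPresheaf _ _).map (EtDual.unitApp j (EtCoh.const X M))) :=
      @NatTrans.mono_of_mono_app _ _ _ _ _ _ _ this
    exact (sheafToPresheaf _ _).mono_of_mono_map ‹_›

theorem mono_unit_of_meets (h : ∀ (X' : Scheme.{u}) (g : X' ⟶ X) [AlgebraicGeometry.Etale g], Meets (part j g)) :
    Mono (EtDual.unitApp j (EtCoh.const X M)) := by
  refine (mono_unit_iff j M).2 fun W s t e => ?_
  haveI : AlgebraicGeometry.Etale W.hom := W.prop
  refine ConstSec.ext_val fun w => ?_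
  by_contra hne
  obtain ⟨w', hw', hw''⟩ := h W.left W.hom {x | ConstSec.val s x ≠ ConstSec.val t x}
    (by simpa using ((ConstSec.isLocallyConstant_val s).comp₂ (ConstSec.isLocallyConstant_val t)
      (fun a b => a ≠ b)).isClopen_fiber True) ⟨w, hne⟩
  obtain ⟨p, rfl⟩ : w' ∈ Set.range (pullback.fst W.hom j).base := by rw [range_fst]; exact hw''
  exact hw' (by rw [← val_toU, ← val_toU, e])

theorem meets_of_mono_unit [Nontrivial M] [Mono (EtDual.unitApp j (EtCoh.const X M))] (X' : Scheme.{u}) (g : X' ⟶ X)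
    [AlgebraicGeometry.Etale g] : Meets (part j g) := by
  intro C hC ⟨c, hc⟩
  by_contra hne
  obtain ⟨m, hm⟩ := exists_ne (0 : M)
  let W : X.Etale := Scheme.Etale.mk g
  obtain ⟨s, hs1, hs2⟩ := ConstSec.exists_of_clopen W hC m 0
  have e : s = ConstSec.cs M W 0 := by
    refine (mono_unit_iff j M).1 ‹_› W (ConstSec.ext_val fun p => ?_)
    rw [val_toU, val_toU, ConstSec.val_cs]
    refine hs2 _ fun hp => hne ⟨_, hp, ?_⟩
    show _ ∈ part j W.hom
    rw [← range_fst]
    exact ⟨p, rfl⟩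
  refine hm ?_
  rw [← hs1 c hc, e, ConstSec.val_cs]

theorem extends_of_isIso_unit [Nontrivial M] [IsIso (EtDual.unitApp j (EtCoh.const X M))] (X' : Scheme.{u})
    (g : X' ⟶ X) [AlgebraicGeometry.Etale g] : Extends (part j g) := by
  intro C hCO hC hC'
  obtain ⟨m, hm⟩ := exists_ne (0 : M)
  let W : X.Etale := Scheme.Etale.mk g
  let ι := pullback.fst W.hom j
  have hpre : IsClopen (ι.base ⁻¹' C) := by
    refine ⟨?_, hC.preimage ι.continuous⟩
    rw [← isOpen_compl_iff]
    convert hC'.preimage ι.continuous using 1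
    ext p
    have : ι.base p ∈ part j W.hom := by rw [← range_fst]; exact ⟨p, rfl⟩
    exact ⟨fun h => ⟨this, h⟩, fun h => h.2⟩
  obtain ⟨t, ht1, ht2⟩ := ConstSec.exists_of_clopen ((EtCoh.bc j).obj W) hpre m 0
  have hb : Function.Surjective (toU j M W) := (injective_pullConst_app j M _).2.comp
    (((ConcreteCategory.isIso_iff_bijective _).1
      (inferInstanceAs (IsIso (((sheafToPresheaf _ _).map (EtDual.unitApp j (EtCoh.const X M))).app (op W))))).2)
  obtain ⟨s, hs⟩ := hb t
  refine ⟨{w | ConstSec.val s w = m}, (ConstSec.isLocallyConstant_val s).isClopen_fiber m, ?_⟩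
  ext w
  constructor
  · rintro ⟨hw, hwO⟩
    obtain ⟨p, rfl⟩ : w ∈ Set.range ι.base := by rw [range_fst]; exact hwO
    by_contra hp
    refine hm ?_
    rw [← ht2 p hp, ← hs, val_toU]
    exact (hw : ConstSec.val s (ι.base p) = m).symm
  · intro hw
    obtain ⟨p, rfl⟩ : w ∈ Set.range ι.base := by rw [range_fst]; exact hCO hw
    refine ⟨?_, hCO hw⟩
    show ConstSec.val s (ι.base p) = m
    rw [← val_toU, hs]
    exact ht1 p hw

theorem isIso_unit_of_extends [Finite M]
    (h1 : ∀ (X' : Scheme.{u}) (g : X' ⟶ X) [AlgebraicGeometry.Etale g], Meets (part j g))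
    (h2 : ∀ (X' : Scheme.{u}) (g : X' ⟶ X) [AlgebraicGeometry.Etale g], Extends (part j g)) :
    IsIso (EtDual.unitApp j (EtCoh.const X M)) := by
  haveI := mono_unit_of_meets j M h1
  suffices Epi (EtDual.unitApp j (EtCoh.const X M)) from isIso_of_mono_of_epi _
  refine (Sheaf.isLocallySurjective_iff_epi' _ _).1 ⟨fun {W} q => ?_⟩
  rw [EtFound.mem_topology_iff]
  intro w
  haveI : AlgebraicGeometry.Etale W.hom := W.prop
  let t : ConstSec.Sec M ((EtCoh.bc j).obj W) := (EtCore.pullConst j M).hom.hom.app (op ((EtCoh.bc j).obj W)) q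
  let ι := pullback.fst W.hom j
  let D : M → Set W.left := fun m => ι.base '' {p | ConstSec.val t p = m}
  have hD : ∀ m, IsOpen (D m) := fun m =>
    ι.isOpenEmbedding.isOpenMap _ ((ConstSec.isLocallyConstant_val t).isOpen_fiber m)
  have hDsub : ∀ m, D m ⊆ part j W.hom := fun m => by
    rintro _ ⟨p, -, rfl⟩
    rw [← range_fst]
    exact ⟨p, rfl⟩
  have hDc : ∀ m, IsOpen (part j W.hom \ D m) := fun m => by
    have : part j W.hom \ D m = ι.base '' {p | ConstSec.val t p = m}ᶜ := by
      rw [Set.image_compl_eq_range_diff_image ι.isOpenEmbedding.injective, range_fst]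
    rw [this]
    exact ι.isOpenEmbedding.isOpenMap _ ((ConstSec.isLocallyConstant_val t).isClopen_fiber m).compl.2
  choose G hG hGD using fun m => h2 W.left W.hom (D m) (hDsub m) (hD m) (hDc m)
  have hcov : ∃ m, w ∈ G m := by
    by_contra hno
    push Not at hno
    obtain ⟨w', hw', hw''⟩ := h1 W.left W.hom (⋃ m, G m)ᶜ
      (isClopen_iUnion_of_finite hG).compl ⟨w, fun hh => by
        obtain ⟨m, hm⟩ := Set.mem_iUnion.1 hh; exact hno m hm⟩
    obtain ⟨p, rfl⟩ : w' ∈ Set.range ι.base := by rw [range_fst]; exact hw''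
    refine hw' (Set.mem_iUnion.2 ⟨ConstSec.val t p, ?_⟩)
    exact ((hGD _).ge ⟨p, rfl, rfl⟩).1
  obtain ⟨m, hm⟩ := hcov
  let O : W.left.Opens := ⟨G m, (hG m).2⟩
  let V : X.Etale := Scheme.Etale.mk (O.ι ≫ W.hom)
  let g : V ⟶ W := MorphismProperty.Over.homMk O.ι rfl
  refine ⟨V, g, ⟨w, hm⟩, ⟨ConstSec.cs M V m, ?_⟩, rfl⟩
  apply (injective_pullConst_app j M _).1
  refine (toU_cs j M V m).trans (Eq.trans ?_
    (NatTrans.naturality_apply (EtCore.pullConst j M).hom.hom ((EtCoh.bc j).map g).op q).symm)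
  refine ConstSec.ext_val fun p => ?_
  rw [ConstSec.val_cs, ConstSec.val_res]
  have hp : ι.base (((EtCoh.bc j).map g).left.base p) = g.left.base ((pullback.fst V.hom j).base p) := by
    exact (Scheme.Hom.comp_apply ((EtCoh.bc j).map g).left ι p).symm.trans
      ((congrArg (fun z : pullback V.hom j ⟶ W.left => z.base p)
        (pullback.lift_fst _ _ _ : ((EtCoh.bc j).map g).left ≫ ι = pullback.fst V.hom j ≫ g.left)).trans
        (Scheme.Hom.comp_apply (pullback.fst V.hom j) g.left p))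
  have hpG : ι.base (((EtCoh.bc j).map g).left.base p) ∈ G m := by
    rw [hp]; exact ((pullback.fst V.hom j).base p).2
  have hpO : ι.base (((EtCoh.bc j).map g).left.base p) ∈ part j W.hom := by
    rw [← range_fst]; exact ⟨_, rfl⟩
  obtain ⟨p', hp', hpe⟩ := (hGD m).le ⟨hpG, hpO⟩
  rw [← ι.isOpenEmbedding.injective hpe]
  exact hp'.symm

theorem depthGE_two_iff [EtCoh.BCCont j] (F : EtCoh.Ab X) :
    EtDepth.DepthGE j F 2 ↔ IsIso (EtDual.unitApp j F) := by
  obtain ⟨e⟩ := (S6658.result j F).1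
  constructor
  · intro h
    haveI := mono_unit_of_depthGE j h
    haveI : Epi (EtDual.unitApp j F) :=
      Abelian.epi_of_cokernel_π_eq_zero _ (((h 1 (by omega)).of_iso e).eq_of_tgt _ _)
    exact isIso_of_mono_of_epi _
  · intro h p hp
    rcases Nat.eq_zero_or_pos p with rfl | hp0
    · exact (isZero_locCoh_zero_iff j F).2 inferInstance
    · obtain rfl : p = 1 := by omega
      exact (isZero_cokernel_of_epi _).of_iso e.symm

variable {X' U' : Scheme.{u}}

theorem meets_of_faithful (i : U' ⟶ X') (h : (FEt.restrict i).Faithful) : Meets (Set.range i.base) := by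
  intro C hC ⟨c, hc⟩
  by_contra hne
  let O : X'.Opens := ⟨C, hC.2⟩
  let A : FEt.Cat X' := MorphismProperty.Over.mk ⊤ O.ι (Pi1X.prop_ι_of_isClopen O hC.1)
  let B := Pi1X.binCoprod A A
  let φ : A ⟶ B := (Pi1X.binCofan A A).inl
  let ψ : A ⟶ B := (Pi1X.binCofan A A).inr
  haveI : IsEmpty ↥(pullback A.hom i) := by
    refine ⟨fun p => hne ⟨_, ((pullback.fst A.hom i).base p).2, (pullback.snd A.hom i).base p, ?_⟩⟩
    exact (Scheme.Hom.comp_apply _ _ _).symm.trans
      ((congrArg (fun f : pullback A.hom i ⟶ X' => f.base p) pullback.condition.symm).trans (Scheme.Hom.comp_apply _ _ _))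
  haveI : IsEmpty ((FEt.restrict i).obj A).left := inferInstanceAs (IsEmpty ↥(pullback A.hom i))
  have e : φ = ψ := (FEt.restrict i).map_injective
    (MorphismProperty.Over.Hom.ext ((isInitialOfIsEmpty (X := ((FEt.restrict i).obj A).left)).hom_ext _ _))
  have e' : (coprod.inl : O.toScheme ⟶ O.toScheme ⨿ O.toScheme) = coprod.inr :=
    congrArg (fun t : A ⟶ B => t.left) e
  exact Set.disjoint_left.1 (isCompl_range_inl_inr O.toScheme O.toScheme).disjoint
    ⟨⟨c, hc⟩, rfl⟩ ⟨⟨c, hc⟩, by rw [e']⟩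

theorem extends_of_full (i : U' ⟶ X') [IsOpenImmersion i] (h : (FEt.restrict i).Full) : Extends (Set.range i.base) := by
  intro C hCO hC hC'
  let C₁ : U'.Opens := ⟨i.base ⁻¹' C, hC.preimage i.continuous⟩
  have hC₁c : IsClosed (C₁ : Set U') := by
    rw [← isOpen_compl_iff]
    convert hC'.preimage i.continuous using 1
    ext p
    exact ⟨fun h => ⟨⟨p, rfl⟩, h⟩, fun h => h.2⟩
  let C₂ : U'.Opens := ⟨(C₁ : Set U')ᶜ, hC₁c.isOpen_compl⟩
  obtain ⟨hcol⟩ := nonempty_isColimit_binaryCofanMk_of_isCompl C₁.ι C₂.ι (by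
    rw [Scheme.Opens.opensRange_ι, Scheme.Opens.opensRange_ι]
    refine ⟨?_, ?_⟩
    · rw [disjoint_iff]; ext x; simp [C₂]
    · rw [codisjoint_iff]; ext x; simp [C₂, em])
  let A : FEt.Cat X' := MorphismProperty.Over.mk ⊤ (𝟙 X') ⟨inferInstance, inferInstance⟩
  let B := Pi1X.binCoprod A A
  let t : U' ⟶ X' ⨿ X' := hcol.desc (BinaryCofan.mk (C₁.ι ≫ i ≫ coprod.inl) (C₂.ι ≫ i ≫ coprod.inr))
  have ht₁ : C₁.ι ≫ t = C₁.ι ≫ i ≫ coprod.inl := hcol.fac _ ⟨WalkingPair.left⟩
  have ht₂ : C₂.ι ≫ t = C₂.ι ≫ i ≫ coprod.inr := hcol.fac _ ⟨WalkingPair.right⟩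
  have htw : t ≫ coprod.desc (𝟙 X') (𝟙 X') = i := by
    refine BinaryCofan.IsColimit.hom_ext hcol ?_ ?_
    · show C₁.ι ≫ t ≫ _ = C₁.ι ≫ i
      rw [reassoc_of% ht₁, coprod.inl_desc, Category.comp_id]
    · show C₂.ι ≫ t ≫ _ = C₂.ι ≫ i
      rw [reassoc_of% ht₂, coprod.inr_desc, Category.comp_id]
  let τ : (FEt.restrict i).obj A ⟶ (FEt.restrict i).obj B :=
    MorphismProperty.Over.homMk (pullback.lift (pullback.snd A.hom i ≫ t) (pullback.snd A.hom i) (by
      show (pullback.snd A.hom i ≫ t) ≫ coprod.desc (𝟙 X') (𝟙 X') = pullback.snd A.hom i ≫ i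
      rw [Category.assoc, htw])) (pullback.lift_snd _ _ _)
  obtain ⟨σ, hσ⟩ := (FEt.restrict i).map_surjective τ
  let s : X' ⟶ X' ⨿ X' := σ.left
  have his : i ≫ s = t := by
    have h1 := congrArg (fun z : (FEt.restrict i).obj A ⟶ (FEt.restrict i).obj B => z.left ≫ pullback.fst B.hom i) hσ
    have h2 : pullback.fst A.hom i ≫ s = pullback.snd A.hom i ≫ t :=
      (pullback.lift_fst _ _ _).symm.trans (h1.trans (pullback.lift_fst _ _ _))
    let r : U' ⟶ pullback A.hom i := pullback.lift i (𝟙 U') (by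
      show i ≫ 𝟙 X' = 𝟙 U' ≫ i
      rw [Category.comp_id, Category.id_comp])
    have h3 := congrArg (r ≫ ·) h2
    exact (((Category.assoc _ _ _).symm.trans (congrArg (· ≫ s) (pullback.lift_fst _ _ _))).symm.trans h3).trans
      ((Category.assoc _ _ _).symm.trans ((congrArg (· ≫ t) (pullback.lift_snd _ _ _)).trans (Category.id_comp t)))
  have hrange : IsClopen (Set.range (coprod.inl : X' ⟶ X' ⨿ X').base) := by
    refine ⟨?_, (coprod.inl : X' ⟶ X' ⨿ X').isOpenEmbedding.isOpen_range⟩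
    rw [← isOpen_compl_iff, show (Set.range (coprod.inl : X' ⟶ X' ⨿ X').base)ᶜ =
      Set.range (coprod.inr : X' ⟶ X' ⨿ X').base from (isCompl_range_inl_inr X' X').compl_eq]
    exact (coprod.inr : X' ⟶ X' ⨿ X').isOpenEmbedding.isOpen_range
  refine ⟨s.base ⁻¹' Set.range (coprod.inl : X' ⟶ X' ⨿ X').base, hrange.preimage s.continuous, ?_⟩
  ext x
  constructor
  · rintro ⟨⟨a, ha⟩, p, rfl⟩
    by_contra hp
    refine Set.disjoint_left.1 (isCompl_range_inl_inr X' X').disjoint ⟨a, rfl⟩ ⟨i.base p, ?_⟩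
    have e := congrArg (fun z : C₂.toScheme ⟶ X' ⨿ X' => z.base ⟨p, hp⟩) ht₂
    rw [← his] at e
    exact (e.symm.trans ha.symm)
  · intro hx
    obtain ⟨p, rfl⟩ := hCO hx
    refine ⟨⟨i.base p, ?_⟩, ⟨p, rfl⟩⟩
    have e := congrArg (fun z : C₁.toScheme ⟶ X' ⨿ X' => z.base ⟨p, hx⟩) ht₁
    rw [← his] at e
    exact e.symm

theorem fullyFaithful_iff {j' : U' ⟶ X'} [IsOpenImmersion j'] (g : X' ⟶ X) [AlgebraicGeometry.Etale g]
    (hrange : Set.range j'.base = part j g)
    (h1 : ∀ (X'' : Scheme.{u}) (g' : X'' ⟶ X) [AlgebraicGeometry.Etale g'], Meets (part j g'))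
    (h2 : ∀ (X'' : Scheme.{u}) (g' : X'' ⟶ X) [AlgebraicGeometry.Etale g'], Extends (part j g')) :
    (FEt.restrict j').Full ∧ (FEt.restrict j').Faithful := by
  have hm : Meets (Set.range j'.base) := by rw [hrange]; exact h1 X' g
  refine ⟨Pi1X.restrict_full j' hm fun W C hC => ?_, Pi1X.restrict_faithful j' hm⟩
  haveI := W.prop.2
  let ι := pullback.fst W.hom j'
  have hr : Set.range ι.base = part j (W.hom ≫ g) := by
    rw [Scheme.Pullback.range_fst, hrange]
    rfl
  obtain ⟨G, hG, hGC⟩ := h2 W.left (W.hom ≫ g) (ι.base '' C) (by rw [← hr]; exact Set.image_subset_range _ _)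
    (ι.isOpenEmbedding.isOpenMap _ hC.2) (by
      rw [← hr, ← Set.image_compl_eq_range_diff_image ι.isOpenEmbedding.injective]
      exact ι.isOpenEmbedding.isOpenMap _ hC.compl.2)
  refine ⟨G, hG, ?_⟩
  rw [← Set.preimage_inter_range (f := ι.base), hr, hGC]
  exact Set.preimage_image_eq _ ι.isOpenEmbedding.injective

end Groth.Agent.EtDerLib.DepthClopen
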