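import Groth.Agent.EtFound.PullConst
import Groth.Agent.EtFound.FLCAb
import Groth.Prelude.Def_EtCore
import Groth.Agent.EtFound.Detect

/-!
# A finite locally constant sheaf becomes constant after an etale pullback
-/

set_option autoImplicit false

universe u

open CategoryTheory CategoryTheory.Limits AlgebraicGeometry Opposite

namespace Groth.Agent.EtDerLib

set_option linter.style.haveILetI false
set_option backward.isDefEq.respectTransparency.types false

variable {X : Scheme.{u}}

/-- the presheaf map given by global sections -/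
noncomputable def topPreMap {F : EtCoh.Ab X} {M : AddCommGrpCat.{u + 1}} (ψ : M ⟶ F.obj.obj (op (EtCoh.top X))) :
    (Functor.const X.Etaleᵒᵖ).obj M ⟶ F.obj where
  app W := ψ ≫ F.obj.map ((EtCore.topIsTerminal X).from W.unop).op
  naturality W W' g := by
    refine (Category.id_comp _).trans ?_
    rw [Category.assoc, ← Functor.map_comp]
    congr 2
    exact Quiver.Hom.unop_inj ((EtCore.topIsTerminal X).hom_ext _ _)

theorem nonempty_iso_const_of_constBy {F : EtCoh.Ab X} {M : AddCommGrpCat.{u + 1}}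
    {ψ : M ⟶ F.obj.obj (op (EtCoh.top X))} (h : EtFound.ConstBy F ψ) :
    Nonempty (F ≅ (constantSheaf X.smallEtaleTopology AddCommGrpCat.{u + 1}).obj M) := by
  let J := X.smallEtaleTopology
  let η := topPreMap ψ
  have key : ∀ (W : X.Etale) {Ω : Type u} [Field Ω] [IsAlgClosed Ω]
      (ξ : Spec (CommRingCat.of Ω) ⟶ X) (z : (Scheme.pointSmallEtale ξ).fiber.obj W) (m : M),
      (Scheme.pointSmallEtale ξ).toPresheafFiber W z F.obj (η.app (op W) m) =
        (ψ ≫ (Scheme.pointSmallEtale ξ).toPresheafFiber _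
          ((Scheme.pointSmallEtale ξ).fiber.map ((EtCore.topIsTerminal X).from W) z) F.obj) m := by
    intro W Ω _ _ ξ z m
    exact ((Scheme.pointSmallEtale ξ).toPresheafFiber_w_apply _ z F.obj (ψ m)).trans
      (ConcreteCategory.comp_apply _ _ _).symm
  have hi : Presheaf.IsLocallyInjective J η := ⟨fun {W} m m' e => by
    rw [EtFound.mem_topology_iff]
    intro x
    obtain ⟨Ω, _, _, ξ, z, hz⟩ := EtFound.exists_algClosed_point W.unop x
    have hm : m = m' :=
      (h Ω ξ _).1 ((key W.unop ξ z m).symm.trans ((congrArg _ e).trans (key W.unop ξ z m')))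
    refine ⟨W.unop, 𝟙 _, x, ?_, rfl⟩
    subst hm
    rfl⟩
  have hs : Presheaf.IsLocallySurjective J η := ⟨fun {W} s => by
    rw [EtFound.mem_topology_iff]
    intro x
    obtain ⟨Ω, _, _, ξ, z, hz⟩ := EtFound.exists_algClosed_point W x
    obtain ⟨m, hm⟩ := (h Ω ξ ((Scheme.pointSmallEtale ξ).fiber.map ((EtCore.topIsTerminal X).from W) z)).2
      ((Scheme.pointSmallEtale ξ).toPresheafFiber W z F.obj s)
    obtain ⟨V, g, v, hv, hg⟩ :=
      ((Scheme.pointSmallEtale ξ).toPresheafFiber_eq_iff' W z _ _).1 ((key W ξ z m).trans hm)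
    refine ⟨V, g, (v.left : Spec (CommRingCat.of Ω) ⟶ V.left).base (default : Spec (CommRingCat.of Ω)), ⟨m, ?_⟩, ?_⟩
    · exact (NatTrans.naturality_apply η g.op m).trans hg
    · rw [← hz, ← hv]
      exact (Scheme.Hom.comp_apply _ _ _).symm⟩
  haveI : IsIso ((presheafToSheaf J AddCommGrpCat.{u + 1}).map η) := by
    have hW : J.W η := (J.W_iff_isLocallyBijective η).2 ⟨hi, hs⟩
    rwa [J.W_iff] at hW
  exact ⟨(asIso ((presheafToSheaf J AddCommGrpCat.{u + 1}).map η ≫
    (sheafificationAdjunction J AddCommGrpCat.{u + 1}).counit.app F)).symm⟩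

/-- a sheaf constant over an etale scheme becomes constant after pullback to it -/
theorem nonempty_pull_iso_const {F : EtCoh.Ab X} {W : X.Etale} {M : Type} [AddCommGroup M]
    (h : Nonempty (EtCoh.restr F W ≅ (constantSheaf (X.smallEtaleTopology.over W) AddCommGrpCat.{u + 1}).obj
      (AddCommGrpCat.of (ULift.{u + 1} M)))) :
    Nonempty ((EtCoh.pull W.hom).obj F ≅ EtCoh.const W.left M) := by
  obtain ⟨e⟩ := h
  obtain ⟨φ, hφ⟩ := EtFound.exists_constBy e
  let d : EtCoh.top W.left ⟶ (EtCoh.bc W.hom).obj W :=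
    MorphismProperty.Over.homMk (pullback.lift (𝟙 W.left) (𝟙 W.left) rfl) (pullback.lift_snd _ _ _)
  exact nonempty_iso_const_of_constBy ((EtFound.constBy_pull W.hom hφ).restrict d)

end Groth.Agent.EtDerLib
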