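import Groth.Agent.EtLC12.AffineLocalAcyclic
import Groth.Agent.EtFound.ExtZeroBC
import Groth.Agent.EtFound.AbRecollement
import Groth.Agent.EtDerLib.Supp
import Groth.Agent.EtDerLib.Ladder

/-!
# Restriction of depth conditions to etale schemes
-/

set_option autoImplicit false

universe u

open CategoryTheory CategoryTheory.Limits AlgebraicGeometry Opposite CategoryTheory.Abelian

namespace Groth.Agent.EtDerLib

set_option linter.style.haveILetI false
set_option backward.isDefEq.respectTransparency.types false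

variable {X U X' U' : Scheme.{u}} (j : U ⟶ X) (g : X' ⟶ X) [AlgebraicGeometry.Etale g]
  (j' : U' ⟶ X') (g' : U' ⟶ U) (h : IsPullback g' j' j g)

include h in
/-- etale base change: `g^{-1} j_* ≅ j'_* g'^{-1}` -/
theorem nonempty_pull_push_iso : Nonempty (EtCoh.push j ⋙ EtCoh.pull g ≅ EtCoh.pull g' ⋙ EtCoh.push j') := by
  haveI : AlgebraicGeometry.Etale g' := MorphismProperty.of_isPullback h.flip ‹_›
  haveI := EtFound.jCont g
  haveI := EtFound.jCont g'
  let e : EtShriek.restrAlong g' ⋙ EtCoh.push j' ≅ EtCoh.push j ⋙ EtShriek.restrAlong g :=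
    NatIso.ofComponents (fun G => (fullyFaithfulSheafToPresheaf _ _).preimageIso
      (Functor.isoWhiskerRight (NatIso.op (EtFound.bcCompEtaleIso g j g' j' h).symm) G.obj)) fun {G G'} a =>
        Sheaf.hom_ext (NatTrans.ext (funext fun W => (a.hom.naturality _).symm))
  exact ⟨(Functor.isoWhiskerLeft _ (EtLC12.AffineLocalAcyclic.restrIsoPull g)).symm ≪≫ e.symm ≪≫
    Functor.isoWhiskerRight (EtLC12.AffineLocalAcyclic.restrIsoPull g') _⟩

theorem mono_unit_of_mono {F G : EtCoh.Ab X} (a : F ⟶ G) [Mono a] [Mono (EtDual.unitApp j G)] :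
    Mono (EtDual.unitApp j F) := by
  haveI : Mono (EtDual.unitApp j F ≫ (EtCoh.push j).map ((EtCoh.pull j).map a)) := by
    have e := (EtCoh.pullPushAdj j).unit.naturality a
    change a ≫ EtDual.unitApp j G = EtDual.unitApp j F ≫ (EtCoh.push j).map ((EtCoh.pull j).map a) at e
    exact e ▸ mono_comp _ _
  exact mono_of_mono _ ((EtCoh.push j).map ((EtCoh.pull j).map a))

include h in
/-- the absence of sections supported off `U` is inherited by etale schemes -/
theorem mono_unit_pull (F : EtCoh.Ab X) [Mono (EtDual.unitApp j F)] :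
    Mono (EtDual.unitApp j' ((EtCoh.pull g).obj F)) := by
  obtain ⟨e⟩ := nonempty_pull_push_iso j g j' g' h
  haveI : Mono (EtDual.unitApp j' ((EtCoh.push j').obj ((EtCoh.pull g').obj ((EtCoh.pull j).obj F)))) :=
    mono_unit_push j' _
  haveI := pull_mono g (EtDual.unitApp j F)
  let a : (EtCoh.pull g).obj F ⟶ (EtCoh.push j').obj ((EtCoh.pull g').obj ((EtCoh.pull j).obj F)) :=
    (EtCoh.pull g).map (EtDual.unitApp j F) ≫ e.hom.app _
  haveI : Mono a := mono_comp _ _
  exact mono_unit_of_mono j' a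

theorem counit_isIso_open [IsOpenImmersion j] (G : EtCoh.Ab U) : IsIso ((EtCoh.pullPushAdj j).counit.app G) :=
  EtFound.counit_isIso j (EtFound.liftable_of_isOpenImmersion j) G

include h in
theorem isIso_unit_pull_push [IsOpenImmersion j] (G : EtCoh.Ab U) :
    IsIso (EtDual.unitApp j' ((EtCoh.pull g).obj ((EtCoh.push j).obj G))) := by
  haveI : IsOpenImmersion j' := MorphismProperty.of_isPullback h ‹_›
  obtain ⟨e⟩ := nonempty_pull_push_iso j g j' g' h
  haveI := counit_isIso_open j' ((EtCoh.pull g').obj G)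
  haveI : IsIso (EtDual.unitApp j' ((EtCoh.push j').obj ((EtCoh.pull g').obj G))) :=
    IsIso.of_isIso_fac_right ((EtCoh.pullPushAdj j').right_triangle_components ((EtCoh.pull g').obj G))
  have e' : (EtCoh.pull g).obj ((EtCoh.push j).obj G) ≅ (EtCoh.push j').obj ((EtCoh.pull g').obj G) := e.app G
  exact (NatTrans.isIso_app_iff_of_iso (EtCoh.pullPushAdj j').unit e').2 ‹_›

include h in
theorem injective_pull_pull_push [IsOpenImmersion j] (J : EtCoh.Ab U) [Injective J] :
    Injective ((EtCoh.pull j').obj ((EtCoh.pull g).obj ((EtCoh.push j).obj J))) := by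
  haveI : IsOpenImmersion j' := MorphismProperty.of_isPullback h ‹_›
  haveI : AlgebraicGeometry.Etale g' := MorphismProperty.of_isPullback h.flip ‹_›
  haveI := EtFound.jCont g'
  haveI := EtLC12.AffineLocalAcyclic.injective_pull g' J
  obtain ⟨e⟩ := nonempty_pull_push_iso j g j' g' h
  haveI := counit_isIso_open j' ((EtCoh.pull g').obj J)
  exact Injective.of_iso ((EtCoh.pull j').mapIso (e.app J) ≪≫ asIso ((EtCoh.pullPushAdj j').counit.app _)).symm ‹_›

omit h

theorem Hpull_zero_bijective_of_isIso_unit {U X : Scheme.{u}} (j : U ⟶ X) [PreservesFiniteLimits (EtCoh.pull j)]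
    (G : EtCoh.Ab X) [IsIso (EtDual.unitApp j G)] : Function.Bijective (EtCore.Hpull j G 0) := by
  have e : ∀ φ : EtCoh.const X ℤ ⟶ G, EtCore.Hpull j G 0 (Ext.mk₀ φ) =
      Ext.mk₀ ((EtCore.pullConst j ℤ).inv ≫ ((EtCoh.pullPushAdj j).homEquiv _ _).symm (φ ≫ EtDual.unitApp j G)) :=
    fun φ => by
      rw [EtMVLib.Hpull_apply, Ext.mapExactFunctor_mk₀, Ext.mk₀_comp_mk₀]
      congr 2
      rw [Adjunction.homEquiv_counit, Functor.map_comp, Category.assoc,
        Adjunction.left_triangle_components, Category.comp_id]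
  constructor
  · intro x y hxy
    obtain ⟨φ, rfl⟩ := (Ext.mk₀_bijective _ _).2 x
    obtain ⟨ψ, rfl⟩ := (Ext.mk₀_bijective _ _).2 y
    rw [e, e] at hxy
    exact congrArg _ ((cancel_mono (EtDual.unitApp j G)).1 (((EtCoh.pullPushAdj j).homEquiv _ _).symm.injective
      ((cancel_epi (EtCore.pullConst j ℤ).inv).1 ((Ext.mk₀_bijective _ _).1 hxy))))
  · intro z
    obtain ⟨ψ, rfl⟩ := (Ext.mk₀_bijective _ _).2 z
    refine ⟨Ext.mk₀ ((EtCoh.pullPushAdj j).homEquiv _ _ ((EtCore.pullConst j ℤ).hom ≫ ψ) ≫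
      inv (EtDual.unitApp j G)), ?_⟩
    rw [e, Category.assoc, IsIso.inv_hom_id, Category.comp_id, Equiv.symm_apply_apply, Iso.inv_hom_id_assoc]

theorem Hpull_zero_injective_of_mono_unit {U X : Scheme.{u}} (j : U ⟶ X) [PreservesFiniteLimits (EtCoh.pull j)]
    (G : EtCoh.Ab X) [Mono (EtDual.unitApp j G)] : Function.Injective (EtCore.Hpull j G 0) := by
  rw [injective_iff_map_eq_zero]
  intro x hx
  obtain ⟨φ, rfl⟩ := (Ext.mk₀_bijective _ _).2 x
  rw [EtMVLib.Hpull_apply, Ext.mapExactFunctor_mk₀, Ext.mk₀_comp_mk₀] at hx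
  have h0 : (EtCore.pullConst j ℤ).inv ≫ (EtCoh.pull j).map φ = 0 :=
    (Ext.mk₀_bijective _ _).1 (hx.trans (Ext.mk₀_zero _ _).symm)
  have h1 : (EtCoh.pull j).map φ = 0 := (cancel_epi (EtCore.pullConst j ℤ).inv).1 (h0.trans comp_zero.symm)
  have h2 : φ ≫ EtDual.unitApp j G = 0 := by
    have := (EtCoh.pullPushAdj j).unit.naturality φ
    change φ ≫ EtDual.unitApp j G = EtDual.unitApp j _ ≫ (EtCoh.push j).map ((EtCoh.pull j).map φ) at this
    rw [this, h1, Functor.map_zero, comp_zero]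
  rw [(cancel_mono (EtDual.unitApp j G)).1 (h2.trans zero_comp.symm), Ext.mk₀_zero]

end Groth.Agent.EtDerLib
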