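import Groth.Agent.EtDerLib.Supp
import Groth.Agent.EtDerLib.PullLocConst
import Groth.Agent.EtDual68.LocCohRestr
import Groth.Agent.EtFound.AbRecollement
import Groth.Agent.GalEt.ConstSeq
import Mathlib.Data.ZMod.QuotientGroup
import Mathlib.GroupTheory.Index

/-!
# Etale depth: extensions, locality, constant sheaves of `ℓ`-power order
-/

set_option autoImplicit false

universe u

open CategoryTheory CategoryTheory.Limits AlgebraicGeometry Opposite

namespace Groth.Agent.EtDerLib

set_option linter.style.haveILetI false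
set_option backward.isDefEq.respectTransparency.types false

variable {X U : Scheme.{u}} (j : U ⟶ X) [EtCoh.BCCont j]

theorem depthGE_of_iso {F G : EtCoh.Ab X} (e : F ≅ G) {n : ℕ} (h : EtDepth.DepthGE j F n) :
    EtDepth.DepthGE j G n := fun p hp => (h p hp).of_iso ((EtDual.locCoh j p).mapIso e).symm

theorem depthGE_of_ext {S : ShortComplex (EtCoh.Ab X)} (hS : S.ShortExact) {n : ℕ}
    (h₁ : EtDepth.DepthGE j S.X₁ n) (h₃ : EtDepth.DepthGE j S.X₃ n) : EtDepth.DepthGE j S.X₂ n := fun p hp => by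
  haveI := secSupp_preservesFiniteLimits j
  let := HasDerivedCategory.standard (EtCoh.Ab X)
  obtain ⟨δ, w₁, w₂, w₃, e₁, -, -⟩ := TriCat.exists_rightDerived_ses (EtDual.secSupp j) hS p
  exact e₁.isZero_X₂ ((h₁ p hp).eq_of_src _ _) ((h₃ p hp).eq_of_tgt _ _)

theorem isZero_of_pull_covers {G : EtCoh.Ab X} {ι : Type*} {W : ι → Scheme.{u}} (w : ∀ i, W i ⟶ X)
    (hw : ∀ x : X, ∃ i, x ∈ Set.range (w i).base) (h : ∀ i, IsZero ((EtCoh.pull (w i)).obj G)) : IsZero G := by
  refine (EtFound.isZero_iff_stalks G).2 fun Ω _ _ ξ => ?_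
  obtain ⟨i, hi⟩ := hw (ξ.base default)
  obtain ⟨k, _, _, z, t, htz⟩ := EtFound.exists_lift_extension (w i) ξ hi
  refine IsZero.of_iso ?_ ((EtFound.stalkExtIso AddCommGrpCat.{u + 1} ξ t).app _)
  rw [htz]
  exact ((EtCoh.stalk z).map_isZero (h i)).of_iso ((EtFound.stalkPullIso (w i) z).app _).symm

/-- constant sheaves with value a finite group killed by powers of `ℓ` -/
theorem depthGE_const_of_isPGroup {ℓ : ℕ} (hℓ : ℓ.Prime) {n : ℕ}
    (h : EtDepth.DepthGE j (EtCoh.const X (ZMod ℓ)) n) :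
    ∀ (c : ℕ) (M : Type) [AddCommGroup M] [Finite M], Nat.card M ≤ c → (∀ m : M, ∃ k : ℕ, ℓ ^ k • m = 0) →
      EtDepth.DepthGE j (EtCoh.const X M) n := by
  intro c
  induction c with
  | zero => intro M _ _ hc; exact absurd hc (Nat.not_le.2 Nat.card_pos)
  | succ c ih =>
    intro M _ _ hc hM
    classical
    rcases subsingleton_or_nontrivial M with hs | hn
    · intro p hp
      haveI := secSupp_preservesFiniteLimits j
      haveI : Subsingleton (ULift.{u + 1} M) := inferInstance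
      exact Functor.map_isZero ((EtDual.secSupp j).rightDerived p)
        ((GalEt.constF X).map_isZero (AddCommGrpCat.isZero_of_subsingleton _))
    · obtain ⟨x, hx⟩ := exists_ne (0 : M)
      let k := Nat.find (hM x)
      have hk : ℓ ^ k • x = 0 := Nat.find_spec (hM x)
      have hk0 : k ≠ 0 := fun h0 => hx (by rw [h0, pow_zero, one_nsmul] at hk; exact hk)
      let y := ℓ ^ (k - 1) • x
      have hy : y ≠ 0 := Nat.find_min (hM x) (by omega : k - 1 < k)
      have hy' : ℓ • y = 0 := by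
        rw [← mul_nsmul', ← pow_succ', Nat.sub_add_cancel (Nat.one_le_iff_ne_zero.2 hk0)]
        exact hk
      haveI : Fact ℓ.Prime := ⟨hℓ⟩
      have hord : addOrderOf y = ℓ := addOrderOf_eq_prime hy' hy
      let f : ZMod ℓ →+ M := ZMod.lift ℓ ⟨zmultiplesHom M y, by
        simpa using hy'⟩
      have hf : Function.Injective f := by
        rw [injective_iff_map_eq_zero]
        intro a ha
        obtain ⟨z, rfl⟩ := ZMod.intCast_surjective a
        rw [ZMod.intCast_zmod_eq_zero_iff_dvd]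
        have : z • y = 0 := by simpa [f] using ha
        exact hord ▸ addOrderOf_dvd_iff_zsmul_eq_zero.2 this
      let q : M →+ M ⧸ f.range := QuotientAddGroup.mk' f.range
      have hcard : Nat.card (M ⧸ f.range) ≤ c := by
        have h1 := AddSubgroup.card_eq_card_quotient_mul_card_addSubgroup f.range
        have h2 : Nat.card f.range = ℓ := by
          rw [← Nat.card_congr (AddMonoidHom.ofInjective hf).toEquiv, Nat.card_zmod]
        rw [h2] at h1
        have h3 : 0 < Nat.card (M ⧸ f.range) := Nat.card_pos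
        have := hℓ.two_le
        nlinarith
      let S : ShortComplex AddCommGrpCat.{u + 1} := ShortComplex.mk
        (AddCommGrpCat.ofHom (AddEquiv.ulift.symm.toAddMonoidHom.comp (f.comp AddEquiv.ulift.toAddMonoidHom)) :
          AddCommGrpCat.of (ULift.{u + 1} (ZMod ℓ)) ⟶ AddCommGrpCat.of (ULift.{u + 1} M))
        (AddCommGrpCat.ofHom (AddEquiv.ulift.symm.toAddMonoidHom.comp (q.comp AddEquiv.ulift.toAddMonoidHom)) :
          AddCommGrpCat.of (ULift.{u + 1} M) ⟶ AddCommGrpCat.of (ULift.{u + 1} (M ⧸ f.range)))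
        (by
          ext a
          exact (QuotientAddGroup.eq_zero_iff _).2 ⟨a.down, rfl⟩)
      have hS : S.ShortExact :=
        { exact := by
            rw [ShortComplex.ab_exact_iff]
            intro a ha
            obtain ⟨b, hb⟩ := (QuotientAddGroup.eq_zero_iff _).1 (congrArg ULift.down ha)
            exact ⟨⟨b⟩, ULift.ext _ _ hb⟩
          mono_f := (AddCommGrpCat.mono_iff_injective _).2 fun a b hab =>
            ULift.ext _ _ (hf (congrArg ULift.down hab))
          epi_g := (AddCommGrpCat.epi_iff_surjective _).2 fun b => by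
            obtain ⟨m, hm⟩ := QuotientAddGroup.mk'_surjective f.range b.down
            exact ⟨⟨m⟩, ULift.ext _ _ hm⟩ }
      refine depthGE_of_ext j (GalEt.shortExact_constF X hS) h (ih (M ⧸ f.range) hcard fun b => ?_)
      obtain ⟨m, rfl⟩ := QuotientAddGroup.mk'_surjective f.range b
      obtain ⟨a, ha⟩ := hM m
      exact ⟨a, by rw [← map_nsmul, ha, map_zero]⟩

theorem depthGE_of_isFiniteLocallyConstant [IsOpenImmersion j] {ℓ : ℕ} (hℓ : ℓ.Prime) {n : ℕ}
    (hX : EtDepth.DepthGE j (EtCoh.const X (ZMod ℓ)) n) {F : EtCoh.Ab X}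
    (hF : EtCoh.IsFiniteLocallyConstant F) (hFt : EtDepth.IsLTorsion ℓ F) : EtDepth.DepthGE j F n := by
  obtain ⟨ι, W, hW, hloc⟩ := hF
  intro p hp
  refine isZero_of_pull_covers (fun i => (W i).hom)
    (fun x => let ⟨i, y, hy⟩ := hW x; ⟨i, y, hy⟩) fun i => ?_
  haveI : AlgebraicGeometry.Etale (W i).hom := (W i).prop
  obtain ⟨M, _, _, ⟨e⟩⟩ := hloc i
  obtain ⟨c⟩ := nonempty_pull_iso_const ⟨e⟩
  obtain ⟨a⟩ := EtDual68.nonempty_locCoh_pull_iso j (W i).hom (pullback.snd j (W i).hom)
    (pullback.fst j (W i).hom) (IsPullback.of_hasPullback j (W i).hom) p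
  refine IsZero.of_iso ?_ (a.app F)
  rcases isEmpty_or_nonempty (W i).left with he | hne
  · exact (EtFound.isZero_iff_stalks _).2 fun _ _ _ ξ => IsEmpty.elim he (ξ.base default)
  refine depthGE_of_iso _ c.symm (depthGE_const_of_isPGroup _ hℓ ?_ (Nat.card M) M le_rfl ?_) p hp
  · intro q hq
    obtain ⟨b⟩ := EtDual68.nonempty_locCoh_pull_iso j (W i).hom (pullback.snd j (W i).hom)
      (pullback.fst j (W i).hom) (IsPullback.of_hasPullback j (W i).hom) q
    exact ((EtCoh.pull (W i).hom).map_isZero (hX q hq)).of_iso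
      ((b.app _) ≪≫ (EtDual.locCoh _ q).mapIso (EtCore.pullConst (W i).hom (ZMod ℓ))).symm
  · intro m
    obtain ⟨φ, hφ⟩ := EtFound.exists_constBy e
    obtain ⟨w⟩ := hne
    obtain ⟨V, g, ⟨v, hv⟩, k, hk⟩ := hFt (W i) (φ ⟨m⟩) w
    obtain ⟨Ω, _, _, ξ, z, hz⟩ := EtFound.exists_algClosed_point V v
    let Φ := Scheme.pointSmallEtale ξ
    let G := (φ ≫ Φ.toPresheafFiber (W i) (Φ.fiber.map g z) F.obj).hom
    refine ⟨k, congrArg ULift.down ((hφ Ω ξ (Φ.fiber.map g z)).1
      (show G (⟨ℓ ^ k • m⟩ : ULift.{u + 1} M) = G 0 from ?_))⟩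
    rw [map_zero, show (⟨ℓ ^ k • m⟩ : ULift.{u + 1} M) = ℓ ^ k • ⟨m⟩ from rfl, map_nsmul]
    have e1 : G ⟨m⟩ = Φ.toPresheafFiber V z F.obj (F.obj.map g.op (φ ⟨m⟩)) :=
      (ConcreteCategory.comp_apply _ _ _).trans (Φ.toPresheafFiber_w_apply g z F.obj _).symm
    rw [e1, ← map_nsmul, hk, map_zero]

end Groth.Agent.EtDerLib
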