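import Groth.Agent.EtDerLib.EtRestr

/-!
# Etale depth and restriction of cohomology classes
-/

set_option autoImplicit false

universe u

open CategoryTheory CategoryTheory.Limits AlgebraicGeometry Opposite CategoryTheory.Abelian

namespace Groth.Agent.EtDerLib

set_option linter.style.haveILetI false
set_option backward.isDefEq.respectTransparency.types false

variable {X U : Scheme.{u}} (j : U ⟶ X) [IsOpenImmersion j]

theorem subsingleton_H_injective {Z : Scheme.{u}} (I : EtCoh.Ab Z) (hI : Injective I) (p : ℕ) :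
    Subsingleton (EtCoh.H Z I (p + 1)) :=
  Ext.subsingleton_of_injective _ _ p

theorem Hpull_bijective_push_injective (J : EtCoh.Ab U) [Injective J] (X' : Scheme.{u}) (g : X' ⟶ X)
    [AlgebraicGeometry.Etale g] [PreservesFiniteLimits (EtCoh.pull (pullback.snd j g))] :
    (∀ p, Subsingleton (EtCoh.H X' ((EtCoh.pull g).obj ((EtCoh.push j).obj J)) (p + 1))) ∧
      (∀ p, Subsingleton (EtCoh.H _ ((EtCoh.pull (pullback.snd j g)).obj ((EtCoh.pull g).obj ((EtCoh.push j).obj J))) (p + 1))) ∧
      ∀ p, Function.Bijective (EtCore.Hpull (pullback.snd j g) ((EtCoh.pull g).obj ((EtCoh.push j).obj J)) p) := by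
  have h := IsPullback.of_hasPullback j g
  haveI := EtFound.jCont g
  haveI := injective_push j J
  have h1 := EtLC12.AffineLocalAcyclic.injective_pull g ((EtCoh.push j).obj J)
  have h2 := injective_pull_pull_push j g _ _ h J
  have v1 := subsingleton_H_injective _ h1
  have v2 := subsingleton_H_injective _ h2
  refine ⟨v1, v2, fun p => ?_⟩
  rcases p with _ | p
  · haveI := isIso_unit_pull_push j g _ _ h J
    exact Hpull_zero_bijective_of_isIso_unit _ _
  · haveI := v1 p
    haveI := v2 p
    exact ⟨Function.injective_of_subsingleton _, fun y => ⟨0, Subsingleton.elim _ _⟩⟩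

/-- the restriction maps are bijective in low degrees -/
def RestrCond (F : EtCoh.Ab X) (n : ℕ) : Prop :=
  ∀ (X' : Scheme.{u}) (g : X' ⟶ X) [AlgebraicGeometry.Etale g]
    [PreservesFiniteLimits (EtCoh.pull (pullback.snd j g))],
    BijBelow (pullback.snd j g) ((EtCoh.pull g).obj F) n

theorem restrCond_succ_iff {S : ShortComplex (EtCoh.Ab X)} (hS : S.ShortExact) (J : EtCoh.Ab U) [Injective J]
    (h2 : S.X₂ = (EtCoh.push j).obj J) [Mono (EtDual.unitApp j S.X₁)] (n : ℕ) :
    RestrCond j S.X₁ (n + 1) ↔ RestrCond j S.X₃ n := by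
  have key : ∀ (X' : Scheme.{u}) (g : X' ⟶ X) [AlgebraicGeometry.Etale g]
      [PreservesFiniteLimits (EtCoh.pull (pullback.snd j g))],
      BijBelow (pullback.snd j g) ((EtCoh.pull g).obj S.X₁) (n + 1) ↔
        BijBelow (pullback.snd j g) ((EtCoh.pull g).obj S.X₃) n := by
    intro X' g _ _
    haveI := EtFound.pull_preservesFiniteLimits g
    have hS' := hS.map_of_exact (EtCoh.pull g)
    obtain ⟨v1, v2, hb⟩ := Hpull_bijective_push_injective j J X' g
    rw [← h2] at v1 v2 hb
    haveI := mono_unit_pull j g _ _ (IsPullback.of_hasPullback j g) S.X₁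
    exact (bijBelow_succ_iff (EtCoh.pull (pullback.snd j g)) (EtCore.pullConst _ ℤ).inv hS' hb v1 v2 n).trans
      ⟨fun h => h.2, fun h => ⟨Hpull_zero_injective_of_mono_unit (pullback.snd j g) ((EtCoh.pull g).obj S.X₁), h⟩⟩
  exact ⟨fun h X' g _ _ => (key X' g).1 (h X' g), fun h X' g _ _ => (key X' g).2 (h X' g)⟩

theorem eq_zero_of_gsec {F : EtCoh.Ab X} {K : EtCoh.Ab X} (ι : K ⟶ F) [Mono ι]
    (h : ∀ (V : X.Etale) (a : EtCoh.const V.left ℤ ⟶ (EtCoh.pull V.hom).obj K), a = 0) : IsZero K := by
  rw [IsZero.iff_id_eq_zero]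
  refine Sheaf.hom_ext (NatTrans.ext (funext fun W => ConcreteCategory.hom_ext _ _ fun s => ?_))
  change s = 0
  haveI : AlgebraicGeometry.Etale W.unop.hom := W.unop.prop
  haveI := EtFound.jCont W.unop.hom
  let e := EtLC12.AffineLocalAcyclic.restrIsoPull W.unop.hom
  let c : (EtShriek.compEtale W.unop.hom).obj (EtCoh.top W.unop.left) ≅ W.unop :=
    MorphismProperty.Over.isoMk (Iso.refl _) (by
      show 𝟙 W.unop.left ≫ W.unop.hom = 𝟙 W.unop.left ≫ W.unop.hom
      rfl)
  let s' := ((e.hom.app K).hom.app (op (EtCoh.top W.unop.left))).hom ((K.obj.map c.hom.op).hom s)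
  let φ : AddCommGrpCat.of (ULift.{u + 1} ℤ) ⟶ (EtCore.gsec W.unop.left).obj ((EtCoh.pull W.unop.hom).obj K) :=
    AddCommGrpCat.ofHom ((zmultiplesHom _ s').comp AddEquiv.ulift.toAddMonoidHom)
  have h0 := h W.unop (((EtCore.constAdj W.unop.left).homEquiv _ _).symm φ)
  have h1 : φ = 0 := by
    have := congrArg ((EtCore.constAdj W.unop.left).homEquiv _ _) h0
    rw [Equiv.apply_symm_apply, Adjunction.homEquiv_unit, Functor.map_zero, comp_zero] at this
    exact this
  have h2 : s' = 0 := by
    have := ConcreteCategory.congr_hom h1 (ULift.up 1)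
    simp [φ] at this
    exact (one_zsmul s').symm.trans this
  have inj : Function.Injective ((e.hom.app K).hom.app (op (EtCoh.top W.unop.left))).hom :=
    ((ConcreteCategory.isIso_iff_bijective _).1 (inferInstance : IsIso ((e.hom.app K).hom.app _))).1
  have h3 : (K.obj.map c.hom.op).hom s = 0 := inj (h2.trans (map_zero _).symm)
  exact ((ConcreteCategory.isIso_iff_bijective _).1 (inferInstance : IsIso (K.obj.map c.hom.op))).1
    (h3.trans (map_zero _).symm)

theorem mono_unit_of_injective_zero (F : EtCoh.Ab X)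
    (h : ∀ (X' : Scheme.{u}) (g : X' ⟶ X) [AlgebraicGeometry.Etale g]
      [PreservesFiniteLimits (EtCoh.pull (pullback.snd j g))],
      Function.Injective (EtCore.Hpull (pullback.snd j g) ((EtCoh.pull g).obj F) 0)) :
    Mono (EtDual.unitApp j F) := by
  refine Preadditive.mono_of_kernel_zero ?_
  let ι := kernel.ι (EtDual.unitApp j F)
  suffices hz : IsZero (kernel (EtDual.unitApp j F)) from hz.eq_of_src _ _
  refine eq_zero_of_gsec ι fun V a => ?_
  haveI : AlgebraicGeometry.Etale V.hom := V.prop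
  haveI := EtFound.pull_preservesFiniteLimits (pullback.snd j V.hom)
  haveI := EtFound.pull_preservesFiniteLimits V.hom
  have h0 : (EtCoh.pull j).map ι = 0 := by
    apply ((EtCoh.pullPushAdj j).homEquiv _ _).injective
    rw [Adjunction.homEquiv_unit, Adjunction.homEquiv_unit, Functor.map_zero, comp_zero]
    refine ((EtCoh.pullPushAdj j).unit.naturality ι).symm.trans ?_
    exact kernel.condition _
  have h1 : (EtCoh.pull (pullback.snd j V.hom)).map ((EtCoh.pull V.hom).map ι) = 0 := by
    let θ : EtCoh.pull j ⋙ EtCoh.pull (pullback.fst j V.hom) ≅ EtCoh.pull V.hom ⋙ EtCoh.pull (pullback.snd j V.hom) :=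
      (EtCore.pullComp (pullback.fst j V.hom) j).symm ≪≫ EtCore.pullCongr pullback.condition ≪≫
        EtCore.pullComp (pullback.snd j V.hom) V.hom
    have e := θ.hom.naturality ι
    simp only [Functor.comp_map, h0, Functor.map_zero, zero_comp] at e
    exact (cancel_epi (θ.hom.app _)).1 (e.symm.trans comp_zero.symm)
  have h2 : a ≫ (EtCoh.pull V.hom).map ι = 0 := by
    refine (Ext.mk₀_bijective _ _).1 (@h V.left V.hom ‹_› (EtFound.pull_preservesFiniteLimits _) _ _ ?_)
    rw [EtMVLib.Hpull_apply, EtMVLib.Hpull_apply, Ext.mapExactFunctor_mk₀, Ext.mapExactFunctor_mk₀,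
      Functor.map_comp, Functor.map_zero]
    exact congrArg (fun t => (Ext.mk₀ (EtCore.pullConst (pullback.snd j V.hom) ℤ).inv).comp (Ext.mk₀ t) (zero_add 0))
      ((congrArg (_ ≫ ·) h1).trans comp_zero)
  exact (cancel_mono ((EtCoh.pull V.hom).map ι)).1 (h2.trans zero_comp.symm)

theorem depthGE_iff_restrCond : ∀ (n : ℕ) (F : EtCoh.Ab X), EtDepth.DepthGE j F n ↔ RestrCond j F n := by
  intro n
  induction n with
  | zero =>
    exact fun F => ⟨fun _ X' g _ _ => ⟨fun p hp => absurd hp (Nat.not_lt_zero _),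
      fun p hp => absurd hp (Nat.succ_ne_zero p)⟩, fun _ => depthGE_zero j F⟩
  | succ n ih =>
    intro F
    have hm : RestrCond j F (n + 1) → Mono (EtDual.unitApp j F) := fun h =>
      mono_unit_of_injective_zero j F fun X' g _ _ => by
        rcases n.eq_zero_or_pos with rfl | hn
        · exact (h X' g).2 0 rfl
        · exact ((h X' g).1 0 (by omega)).1
    by_cases hF : Mono (EtDual.unitApp j F)
    · obtain ⟨J, _, S, hS, rfl, h2⟩ := exists_embedding j F
      haveI : Injective S.X₂ := h2 ▸ injective_push j J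
      haveI : Mono (EtDual.unitApp j S.X₂) := h2.symm ▸ mono_unit_push j J
      rw [depthGE_succ_iff j hS hF n, restrCond_succ_iff j hS J h2 n]
      exact ih _
    · exact ⟨fun h => absurd (mono_unit_of_depthGE j h) hF, fun h => absurd (hm h) hF⟩

end Groth.Agent.EtDerLib
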