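import Groth.Prelude.Def_RDer
import Groth.Agent.EtDual68.CompDerived

/-!
# The second edge map is bijective in the first degree where the inner functor is nonzero
-/

universe v u v₂ u₂ v₃ u₃

open CategoryTheory CategoryTheory.Limits HomologicalComplex

noncomputable section

namespace Groth.Agent.EtDerLib.EdgeOut

set_option backward.isDefEq.respectTransparency false
set_option linter.style.haveILetI false

variable {B : Type u₂} [Category.{v₂} B] [Abelian B] {C : Type u₃} [Category.{v₃} C] [Abelian C]
  (K : CochainComplex B ℕ)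

theorem isZero_cokernel_toCycles (i j : ℕ) (hij : (ComplexShape.up ℕ).prev j = i) (h : IsZero (K.homology j)) :
    IsZero (cokernel (K.toCycles i j)) :=
  h.of_iso ((cokernelIsCokernel (K.toCycles i j)).coconePointUniqueUpToIso (K.homologyIsCokernel i j hij))

theorem injective_cycles [∀ p, Injective (K.X p)] : ∀ (p : ℕ), (∀ q ≤ p, IsZero (K.homology q)) →
    Injective (K.cycles p)
  | 0, h => by
    have hd : K.toCycles ((ComplexShape.up ℕ).prev 0) 0 = 0 := by
      rw [← cancel_mono (K.iCycles 0), toCycles_i, zero_comp]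
      exact K.shape _ _ (by simp)
    have hz : IsZero (K.cycles 0) :=
      (h 0 le_rfl).of_iso
        ((cokernelZeroIsoTarget (X := K.X ((ComplexShape.up ℕ).prev 0))).symm ≪≫ cokernelIsoOfEq hd.symm ≪≫
          (cokernelIsCokernel _).coconePointUniqueUpToIso (K.homologyIsCokernel _ 0 rfl))
    exact Injective.mk fun f i _ => ⟨0, hz.eq_of_tgt _ _⟩
  | p + 1, h => by
    have hp := injective_cycles p fun q hq => h q (hq.trans p.le_succ)
    haveI : Injective (kernel (K.d p (p + 1))) :=
      Injective.of_iso ((K.cyclesIsKernel p (p + 1) (by simp)).conePointUniqueUpToIso (limit.isLimit _)) hp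
    obtain ⟨s, hs⟩ := EtDual68.exists_regular (K.d p (p + 1))
    refine EtDual68.injective_of_cokernel_isZero (K.toCycles p (p + 1)) (K.iCycles (p + 1) ≫ s) ?_
      (isZero_cokernel_toCycles K p (p + 1) (by simp) (h (p + 1) le_rfl))
    rw [← cancel_mono (K.iCycles (p + 1))]
    simpa only [Category.assoc, toCycles_i, toCycles_i_assoc] using hs

theorem exists_regular_toCycles [∀ p, Injective (K.X p)] (n : ℕ) (h : ∀ q < n, IsZero (K.homology q)) :
    ∃ s, K.toCycles ((ComplexShape.up ℕ).prev n) n ≫ s ≫ K.toCycles ((ComplexShape.up ℕ).prev n) n =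
      K.toCycles ((ComplexShape.up ℕ).prev n) n := by
  rcases n with _ | p
  · refine ⟨0, ?_⟩
    have hd : K.toCycles ((ComplexShape.up ℕ).prev 0) 0 = 0 := by
      rw [← cancel_mono (K.iCycles 0), toCycles_i, zero_comp]
      exact K.shape _ _ (by simp)
    rw [hd, zero_comp]
  · have hp := injective_cycles K p fun q hq => h q (Nat.lt_succ_of_le hq)
    rw [show (ComplexShape.up ℕ).prev (p + 1) = p by simp]
    haveI : Injective (kernel (K.d p (p + 1))) :=
      Injective.of_iso ((K.cyclesIsKernel p (p + 1) (by simp)).conePointUniqueUpToIso (limit.isLimit _)) hp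
    obtain ⟨s, hs⟩ := EtDual68.exists_regular (K.d p (p + 1))
    refine ⟨K.iCycles (p + 1) ≫ s, ?_⟩
    rw [← cancel_mono (K.iCycles (p + 1))]
    simpa only [Category.assoc, toCycles_i, toCycles_i_assoc] using hs

variable (Ψ : B ⥤ C) [Ψ.Additive] [PreservesFiniteLimits Ψ]

instance isIso_cyclesComparison (i : ℕ) : IsIso (RDer.cyclesComparison Ψ K i) := by
  have e := IsLimit.conePointUniqueUpToIso
    (((Ψ.mapHomologicalComplex _).obj K).cyclesIsKernel i ((ComplexShape.up ℕ).next i) rfl)
    (KernelFork.mapIsLimit _ (K.cyclesIsKernel i ((ComplexShape.up ℕ).next i) rfl) Ψ)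
  refine ⟨(((Ψ.mapHomologicalComplex _).obj K).cyclesIsKernel i ((ComplexShape.up ℕ).next i) rfl).lift
    (KernelFork.ofι (Ψ.map (K.iCycles i)) (by
      change Ψ.map (K.iCycles i) ≫ Ψ.map (K.d i _) = 0
      rw [← Ψ.map_comp, iCycles_d, Ψ.map_zero])), ?_, ?_⟩
  · rw [← cancel_mono (((Ψ.mapHomologicalComplex _).obj K).iCycles i), Category.id_comp, Category.assoc]
    erw [(((Ψ.mapHomologicalComplex _).obj K).cyclesIsKernel i _ rfl).fac _ WalkingParallelPair.zero]
    exact RDer.cyclesComparison_i Ψ K i
  · haveI : Mono (Ψ.map (K.iCycles i)) := inferInstance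
    rw [← cancel_mono (Ψ.map (K.iCycles i)), Category.id_comp, Category.assoc, RDer.cyclesComparison_i]
    exact (((Ψ.mapHomologicalComplex _).obj K).cyclesIsKernel i _ rfl).fac _ WalkingParallelPair.zero

theorem isIso_homologyComparison [∀ p, Injective (K.X p)] (n : ℕ) (h : ∀ q < n, IsZero (K.homology q)) :
    IsIso (RDer.homologyComparison Ψ K n) := by
  obtain ⟨s, hs⟩ := exists_regular_toCycles K n h
  set t := K.toCycles ((ComplexShape.up ℕ).prev n) n with ht
  let r : K.homology n ⟶ K.cycles n := (K.homologyIsCokernel _ n rfl).desc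
    (CokernelCofork.ofπ (𝟙 (K.cycles n) - s ≫ t) (by
      rw [← ht, Preadditive.comp_sub, Category.comp_id, hs, sub_self]))
  have hr : K.homologyπ n ≫ r = 𝟙 (K.cycles n) - s ≫ t :=
    (K.homologyIsCokernel _ n rfl).fac _ WalkingParallelPair.one
  have hr' : r ≫ K.homologyπ n = 𝟙 _ := by
    rw [← cancel_epi (K.homologyπ n), ← Category.assoc, hr, Preadditive.sub_comp, Category.assoc, ht,
      toCycles_comp_homologyπ, comp_zero, sub_zero, Category.id_comp, Category.comp_id]
  refine ⟨Ψ.map r ≫ inv (RDer.cyclesComparison Ψ K n) ≫ ((Ψ.mapHomologicalComplex _).obj K).homologyπ n, ?_, ?_⟩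
  · rw [← cancel_epi (((Ψ.mapHomologicalComplex _).obj K).homologyπ n), RDer.homologyπ_homologyComparison_assoc,
      Category.comp_id, ← Ψ.map_comp_assoc, hr, Ψ.map_sub, Ψ.map_id, Preadditive.sub_comp, Category.id_comp,
      Preadditive.comp_sub, IsIso.hom_inv_id_assoc, Ψ.map_comp, sub_eq_self]
    have e : Ψ.map t = ((Ψ.mapHomologicalComplex _).obj K).toCycles ((ComplexShape.up ℕ).prev n) n ≫
        RDer.cyclesComparison Ψ K n := (RDer.toCycles_cyclesComparison Ψ K n).symm
    rw [e]
    simp only [Category.assoc, IsIso.hom_inv_id_assoc, toCycles_comp_homologyπ, comp_zero]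
  · rw [Category.assoc, Category.assoc, RDer.homologyπ_homologyComparison, IsIso.inv_hom_id_assoc, ← Ψ.map_comp, hr',
      Ψ.map_id]

variable {A : Type u} [Category.{v} A] [Abelian A] [HasInjectiveResolutions A]
variable [HasInjectiveResolutions B]

theorem isIso_edgeOut (Φ : A ⥤ B) [Φ.Additive] [Φ.PreservesInjectiveObjects] (n : ℕ) (X : A)
    (h : ∀ q < n, IsZero ((Φ.rightDerived q).obj X)) : IsIso (RDer.edgeOut Φ Ψ n X) := by
  haveI : ∀ p, Injective (((Φ.mapHomologicalComplex _).obj (injectiveResolution X).cocomplex).X p) := fun p =>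
    Φ.injective_obj _
  haveI := isIso_homologyComparison ((Φ.mapHomologicalComplex _).obj (injectiveResolution X).cocomplex) Ψ n
    fun q hq => (h q hq).of_iso ((injectiveResolution X).isoRightDerivedObj Φ q).symm
  exact IsIso.comp_isIso' inferInstance (IsIso.comp_isIso' inferInstance inferInstance)

end Groth.Agent.EtDerLib.EdgeOut
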