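import Groth.Agent.EtDerLib.Acyc
import Groth.Agent.EtBCLib.Mate
import Groth.Agent.BigSiteLib.HofPushEt
import Groth.Agent.S0621
import Groth.Agent.S0071

/-!
# Cohomological comparison passes to finite base changes
-/

set_option autoImplicit false

universe u v₁ v₂ v₃ v₄ u₁ u₂ u₃ u₄

open CategoryTheory CategoryTheory.Limits AlgebraicGeometry Opposite CategoryTheory.Abelian

namespace Groth.Agent.EtDerLib

set_option linter.style.haveILetI false
set_option backward.isDefEq.respectTransparency.types false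

section Mate

variable {A₀ : Type u₁} [Category.{v₁} A₀] {A₁ : Type u₂} [Category.{v₂} A₁] {A₂ : Type u₃} [Category.{v₃} A₂]
  {A₃ : Type u₄} [Category.{v₄} A₃]
  {L₁ : A₀ ⥤ A₁} {R₁ : A₁ ⥤ A₀} (adj₁ : L₁ ⊣ R₁) {L₁' : A₁ ⥤ A₃} {R₁' : A₃ ⥤ A₁} (adj₁' : L₁' ⊣ R₁')
  {L₂ : A₀ ⥤ A₂} {R₂ : A₂ ⥤ A₀} (adj₂ : L₂ ⊣ R₂) {L₂' : A₂ ⥤ A₃} {R₂' : A₃ ⥤ A₂} (adj₂' : L₂' ⊣ R₂')
  {W : A₀ ⥤ A₃} {RW : A₃ ⥤ A₀} (adjW : W ⊣ RW) (e₁ : R₁' ⋙ R₁ ≅ RW) (e₂ : R₂' ⋙ R₂ ≅ RW)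

/-- the base change morphism and the counit -/
theorem compUniq_mate_counit (F : A₂) :
    (EtBCLib.compUniq adj₁ adj₁' adjW e₁).hom.app (R₂.obj F) ≫
        L₁'.map ((adj₁.homEquiv _ _).symm
          (R₂.map (adj₂'.unit.app F) ≫ e₂.hom.app (L₂'.obj F) ≫ e₁.inv.app (L₂'.obj F))) ≫
        adj₁'.counit.app (L₂'.obj F) =
      (EtBCLib.compUniq adj₂ adj₂' adjW e₂).hom.app (R₂.obj F) ≫ L₂'.map (adj₂.counit.app F) := by
  apply (adjW.homEquiv _ _).injective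
  simp only [Adjunction.homEquiv_unit, Functor.map_comp, EtBCLib.unit_compUniq_assoc]
  have n1 : ∀ {X Y : A₃} (a : X ⟶ Y), e₁.hom.app X ≫ RW.map a = R₁.map (R₁'.map a) ≫ e₁.hom.app Y :=
    fun a => (e₁.hom.naturality a).symm
  have n2 : ∀ {X Y : A₃} (a : X ⟶ Y), e₂.hom.app X ≫ RW.map a = R₂.map (R₂'.map a) ≫ e₂.hom.app Y :=
    fun a => (e₂.hom.naturality a).symm
  simp only [← Functor.map_comp, ← Functor.map_comp_assoc, n1, n2]
  simp only [Functor.map_comp, Category.assoc]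
  have hu' : ∀ {X Y : A₁} (a : X ⟶ Y), adj₁'.unit.app X ≫ R₁'.map (L₁'.map a) = a ≫ adj₁'.unit.app Y :=
    fun a => adj₁'.unit_naturality a
  rw [← R₁.map_comp_assoc, hu', R₁.map_comp_assoc, ← R₁.map_comp_assoc (adj₁'.unit.app _),
    adj₁'.right_triangle_components]
  erw [R₁.map_id, Category.id_comp]
  have hu : ∀ {X Y : A₂} (a : X ⟶ Y), adj₂'.unit.app X ≫ R₂'.map (L₂'.map a) = a ≫ adj₂'.unit.app Y :=
    fun a => adj₂'.unit_naturality a
  rw [← R₂.map_comp_assoc, hu, R₂.map_comp_assoc, adj₂.right_triangle_components_assoc, ← Category.assoc,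
    ← Adjunction.homEquiv_unit, Equiv.apply_symm_apply]
  simp

end Mate

variable {X Y X' Y' : Scheme.{u}}

theorem compUniq_pushComp {X₃ : Scheme.{u}} (a : X₃ ⟶ X) (b : X ⟶ Y) :
    EtBCLib.compUniq (EtCoh.pullPushAdj b) (EtCoh.pullPushAdj a) (EtCoh.pullPushAdj (a ≫ b)) (EtCoh.pushComp b a) =
      (EtMVLib.θ b (a ≫ b) a rfl).symm := by
  ext G : 3
  change _ = (EtCore.pullCongr (rfl : a ≫ b = a ≫ b)).inv.app G ≫ (EtCore.pullComp a b).hom.app G
  simp [EtCore.pullCongr, EtCore.pullComp]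

theorem compUniq_pushCongr {X₃ : Scheme.{u}} (a : X₃ ⟶ X) (b : X ⟶ Y) {c : X₃ ⟶ Y} (e : a ≫ b = c) :
    EtBCLib.compUniq (EtCoh.pullPushAdj b) (EtCoh.pullPushAdj a) (EtCoh.pullPushAdj c)
        (EtCoh.pushComp b a ≪≫ EtCoh.pushCongr e) = (EtMVLib.θ b c a e).symm := by
  subst e
  rw [← compUniq_pushComp a b]
  congr 1
  have h : EtCoh.pushCongr (rfl : a ≫ b = a ≫ b) = Iso.refl _ := by
    ext G : 3
    simp [EtCoh.pushCongr, Functor.sheafPushforwardContinuousIso]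
    ext U : 3
    simp
    refine (congrArg G.obj.map ?_).trans (G.obj.map_id _)
    apply Quiver.Hom.unop_inj
    apply MorphismProperty.Over.Hom.ext
    exact pullback.hom_ext (by simp [MorphismProperty.Over.pullbackCongr]; rfl) (by simp [MorphismProperty.Over.pullbackCongr]; rfl)
  rw [h, Iso.trans_refl]

variable (i : Y' ⟶ Y) (g : X ⟶ Y) (i' : X' ⟶ X) (g' : X' ⟶ Y') (w : g' ≫ i = i' ≫ g)

theorem baseChange0_counit (F : EtCoh.Ab Y') :
    (EtMVLib.θ g (i' ≫ g) i' rfl).inv.app ((EtCoh.push i).obj F) ≫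
        (EtCoh.pull i').map (EtCoh.baseChange0 i g i' g' w F) ≫
        (EtCoh.pullPushAdj i').counit.app ((EtCoh.pull g').obj F) =
      (EtMVLib.θ i (i' ≫ g) g' w).inv.app ((EtCoh.push i).obj F) ≫
        (EtCoh.pull g').map ((EtCoh.pullPushAdj i).counit.app F) := by
  have h := compUniq_mate_counit (EtCoh.pullPushAdj g) (EtCoh.pullPushAdj i') (EtCoh.pullPushAdj i)
    (EtCoh.pullPushAdj g') (EtCoh.pullPushAdj (i' ≫ g)) (EtCoh.pushComp g i')
    (EtCoh.pushComp i g' ≪≫ EtCoh.pushCongr w) F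
  rw [compUniq_pushComp, compUniq_pushCongr] at h
  rw [EtCoh.baseChange0]
  simp only [Iso.symm_hom, Iso.trans_hom, NatTrans.comp_app, Category.assoc] at h
  exact h

theorem Hpull_Hpull' {T Z W : Scheme.{u}} (f : Z ⟶ W) (φ : T ⟶ Z) {k : T ⟶ W} (e : φ ≫ f = k)
    [PreservesFiniteLimits (EtCoh.pull φ)] [PreservesFiniteLimits (EtCoh.pull f)] [PreservesFiniteLimits (EtCoh.pull k)]
    (F : EtCoh.Ab W) (q : ℕ) (x : EtCoh.H W F q) :
    (EtCore.Hpull φ ((EtCoh.pull f).obj F) q (EtCore.Hpull f F q x)).comp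
        (Ext.mk₀ ((EtMVLib.θ f k φ e).hom.app F)) (add_zero q) = EtCore.Hpull k F q x := by
  subst e
  exact Hpull_Hpull f φ F q x

theorem ext_cancel_square {C : Type u₁} [Category.{v₁} C] [Abelian C] [HasExt.{u + 1} C] {Z A B W M N : C} {n : ℕ}
    {a : Ext Z A n} {b : Ext Z B n} {h : Ext Z W n} (t₁ : A ≅ W) (t₂ : B ≅ W) {p₁ : A ⟶ M} {p₂ : M ⟶ N}
    {q₂ : B ⟶ N} (ha : a.comp (Ext.mk₀ t₁.hom) (add_zero n) = h) (hb : b.comp (Ext.mk₀ t₂.hom) (add_zero n) = h)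
    (hk : t₁.inv ≫ p₁ ≫ p₂ = t₂.inv ≫ q₂) :
    (a.comp (Ext.mk₀ p₁) (add_zero n)).comp (Ext.mk₀ p₂) (add_zero n) = b.comp (Ext.mk₀ q₂) (add_zero n) := by
  have e1 : p₁ ≫ p₂ = t₁.hom ≫ (t₂.inv ≫ q₂) := by rw [← hk, Iso.hom_inv_id_assoc]
  have e2 : q₂ = t₂.hom ≫ (t₂.inv ≫ q₂) := by rw [Iso.hom_inv_id_assoc]
  rw [Ext.comp_assoc_of_third_deg_zero, Ext.mk₀_comp_mk₀, e1, ← Ext.mk₀_comp_mk₀,
    ← Ext.comp_assoc_of_third_deg_zero, ha, ← hb, Ext.comp_assoc_of_third_deg_zero, Ext.mk₀_comp_mk₀, ← e2]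

theorem hofPush_Hpull [PreservesFiniteLimits (EtCoh.pull g)] [PreservesFiniteLimits (EtCoh.pull g')]
    [PreservesFiniteLimits (EtCoh.pull i)] [PreservesFiniteLimits (EtCoh.pull i')]
    [PreservesFiniteLimits (EtCoh.pull (i' ≫ g))]
    (F : EtCoh.Ab Y') (q : ℕ) (x : EtCoh.H Y ((EtCoh.push i).obj F) q) :
    EtLim.HofPush i' ((EtCoh.pull g').obj F) q
        ((EtCore.Hpull g ((EtCoh.push i).obj F) q x).comp (Ext.mk₀ (EtCoh.baseChange0 i g i' g' w F)) (add_zero q)) =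
      EtCore.Hpull g' F q (EtLim.HofPush i F q x) :=
  (congrArg (fun t => Ext.comp t (Ext.mk₀ ((EtCoh.pullPushAdj i').counit.app ((EtCoh.pull g').obj F))) (add_zero q))
    (Hpull_natural i' (EtCoh.baseChange0 i g i' g' w F) q (EtCore.Hpull g ((EtCoh.push i).obj F) q x))).trans
  ((ext_cancel_square ((EtMVLib.θ g (i' ≫ g) i' rfl).app ((EtCoh.push i).obj F))
      ((EtMVLib.θ i (i' ≫ g) g' w).app ((EtCoh.push i).obj F))
      (Hpull_Hpull' g i' rfl ((EtCoh.push i).obj F) q x) (Hpull_Hpull' i g' w ((EtCoh.push i).obj F) q x)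
      (baseChange0_counit i g i' g' w F)).trans
    (Hpull_natural g' ((EtCoh.pullPushAdj i).counit.app F) q (EtCore.Hpull i ((EtCoh.push i).obj F) q x)).symm)

theorem compAt_of_finite (h : IsPullback g' i' i g) [IsFinite i] [PreservesFiniteLimits (EtCoh.pull g)]
    [PreservesFiniteLimits (EtCoh.pull g')] (F : EtCoh.Ab Y') (n : ℕ) (hF : CompAt g ((EtCoh.push i).obj F) n) :
    CompAt g' F n := by
  haveI := EtFound.pull_preservesFiniteLimits i
  haveI := EtFound.pull_preservesFiniteLimits i'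
  haveI := EtFound.pull_preservesFiniteLimits (i' ≫ g)
  have : IsFinite i' := MorphismProperty.of_isPullback h ‹IsFinite i›
  have hi := fun q => BigSiteLib.hofPush_bijective i F (fun p hp => S0071.result i F p hp) q
  have hi' := fun q => BigSiteLib.hofPush_bijective i' ((EtCoh.pull g').obj F)
    (fun p hp => S0071.result i' _ p hp) q
  haveI := S0621.result i g i' g' h F
  have hb := fun q => bijective_comp_mk₀ (asIso (EtCoh.baseChange0 i g i' g' h.w F)) (EtCoh.const X ℤ) q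
  have hcomm : ∀ q, ⇑(EtCore.Hpull g' F q) ∘ ⇑(EtLim.HofPush i F q) =
      ⇑(EtLim.HofPush i' ((EtCoh.pull g').obj F) q) ∘
        (fun z => Ext.comp z (Ext.mk₀ (EtCoh.baseChange0 i g i' g' h.w F)) (add_zero q)) ∘
        ⇑(EtCore.Hpull g ((EtCoh.push i).obj F) q) :=
    fun q => funext fun x => (hofPush_Hpull i g i' g' h.w F q x).symm
  refine ⟨fun q hq => (Function.Bijective.of_comp_iff _ (hi q)).1 ?_,
    (Function.Injective.of_comp_iff' _ (hi (n + 1))).1 ?_⟩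
  · rw [hcomm]; exact (hi' q).comp ((hb q).comp (hF.1 q hq))
  · rw [hcomm]; exact (hi' _).1.comp ((hb _).1.comp hF.2)

end Groth.Agent.EtDerLib
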