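import Groth.Agent.Cohen4.RegHom
import Groth.Agent.CplFib6.Quot
import Groth.Agent.FlatFun4.ResTrdeg
import Mathlib.RingTheory.KrullDimension.NonZeroDivisors
import Mathlib.RingTheory.Flat.TorsionFree

/-!
# Dimensions of closures under faithfully flat local maps with zero-dimensional closed fibre
-/

set_option autoImplicit false

universe u

open IsLocalRing

namespace Groth.Agent.EtDerLib.FlatDimTrdeg

set_option linter.style.haveILetI false

theorem exists_minimal_ringKrullDim {Q : Type u} [CommRing Q] [IsNoetherianRing Q] [IsLocalRing Q] :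
    ∃ q ∈ minimalPrimes Q, ringKrullDim Q ≤ ringKrullDim (Q ⧸ q) := by
  let l := LTSeries.longestOf (PrimeSpectrum Q)
  obtain ⟨q, hq, hql⟩ := Ideal.exists_minimalPrimes_le (I := (⊥ : Ideal Q)) (J := l.head.asIdeal) bot_le
  refine ⟨q, hq, ?_⟩
  rw [ringKrullDim, Order.krullDim_eq_length_of_finiteDimensionalOrder, ringKrullDim_quotient]
  let l' : LTSeries (PrimeSpectrum.zeroLocus (R := Q) q) :=
    { length := l.length
      toFun := fun i => ⟨l i, (PrimeSpectrum.mem_zeroLocus _ _).2 (hql.trans (l.head_le i))⟩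
      step := fun i => l.step i }
  exact Order.LTSeries.length_le_krullDim l'

variable {A A' : Type u} [CommRing A] [CommRing A'] [IsLocalRing A] [IsLocalRing A'] [IsNoetherianRing A]
  [IsNoetherianRing A'] [Algebra A A'] [Module.FaithfullyFlat A A']
  (hfib : ∀ q : Ideal A', ∀ _ : q.IsPrime, q.comap (algebraMap A A') = maximalIdeal A → q = maximalIdeal A')

include hfib in
theorem comap_maximal : (maximalIdeal A').comap (algebraMap A A') = maximalIdeal A := by
  obtain ⟨⟨q, hq⟩, hqc⟩ := PrimeSpectrum.comap_surjective_of_faithfullyFlat (A := A) (B := A')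
    (⟨maximalIdeal A, inferInstance⟩ : PrimeSpectrum A)
  have e : q.comap (algebraMap A A') = maximalIdeal A := congrArg PrimeSpectrum.asIdeal hqc
  rwa [hfib q hq e] at e

include hfib in
theorem dim_quot_eq (p : Ideal A) [p.IsPrime] :
    ringKrullDim (A' ⧸ p.map (algebraMap A A')) = ringKrullDim (A ⧸ p) := by
  haveI : IsLocalHom (algebraMap A A') :=
    ((local_hom_TFAE (algebraMap A A')).out 0 4).2 (comap_maximal hfib)
  obtain ⟨h1, h2⟩ := CplFib6.isLocalRing_quots (D := A') p (le_maximalIdeal Ideal.IsPrime.ne_top')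
  haveI := h1
  haveI := h2
  haveI := CplFib6.isLocalHom_quot (D := A') p
  haveI := CplFib6.flat_quot (D := A') p
  let J := (maximalIdeal (A ⧸ p)).map (algebraMap (A ⧸ p) (A' ⧸ p.map (algebraMap A A')))
  have hJ : J ≠ ⊤ := ne_top_of_le_ne_top (maximalIdeal.isMaximal _).ne_top (map_maximalIdeal_le _)
  haveI : Nontrivial ((A' ⧸ p.map (algebraMap A A')) ⧸ J) := Ideal.Quotient.nontrivial_iff.2 hJ
  haveI : IsLocalRing ((A' ⧸ p.map (algebraMap A A')) ⧸ J) := .of_surjective' _ Ideal.Quotient.mk_surjective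
  rw [Cohen4.dim_eq_of_flat (A := A ⧸ p)]
  haveI : Ring.KrullDimLE 0 ((A' ⧸ p.map (algebraMap A A')) ⧸ J) := by
    refine Ring.KrullDimLE.mk₀ fun P hP => ?_
    let φ : A' →+* (A' ⧸ p.map (algebraMap A A')) ⧸ J := (Ideal.Quotient.mk J).comp (Ideal.Quotient.mk _)
    have hφ : Function.Surjective φ := Ideal.Quotient.mk_surjective.comp Ideal.Quotient.mk_surjective
    haveI : (P.comap φ).IsPrime := Ideal.IsPrime.comap φ
    have hPc : P.comap φ = maximalIdeal A' := hfib _ inferInstance (by
      refine le_antisymm (le_maximalIdeal (Ideal.IsPrime.comap _).ne_top) fun a ha => ?_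
      show φ (algebraMap A A' a) ∈ P
      have : φ (algebraMap A A' a) = 0 := by
        refine Ideal.Quotient.eq_zero_iff_mem.2 ?_
        refine Ideal.mem_map_of_mem (algebraMap (A ⧸ p) (A' ⧸ p.map (algebraMap A A')))
          (x := Ideal.Quotient.mk p a) ?_
        rw [← map_maximalIdeal_of_surjective _ Ideal.Quotient.mk_surjective]
        exact Ideal.mem_map_of_mem _ ha
      rw [this]
      exact P.zero_mem)
    rw [← Ideal.map_comap_of_surjective φ hφ P, hPc]
    exact (Ideal.map_eq_top_or_isMaximal_of_surjective φ hφ inferInstance).resolve_left fun h => by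
      rw [← hPc, Ideal.map_comap_of_surjective φ hφ] at h
      exact hP.ne_top h
  rw [ringKrullDimZero_iff_ringKrullDim_eq_zero.1 (inferInstance : Ring.KrullDimLE 0 ((A' ⧸ p.map (algebraMap A A')) ⧸ J)), add_zero]

include hfib in
theorem dim_le (q : Ideal A') [q.IsPrime] (p : Ideal A) [p.IsPrime] (h : q.comap (algebraMap A A') = p) :
    ringKrullDim (A' ⧸ q) ≤ ringKrullDim (A ⧸ p) := by
  rw [← dim_quot_eq hfib p]
  exact ringKrullDim_le_of_surjective _
    (Ideal.Quotient.factor_surjective (Ideal.map_le_iff_le_comap.2 h.ge))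

include hfib in
theorem exists_dim_eq (p : Ideal A) [p.IsPrime] :
    ∃ q : Ideal A', q.IsPrime ∧ q.comap (algebraMap A A') = p ∧ ringKrullDim (A' ⧸ q) = ringKrullDim (A ⧸ p) := by
  haveI : IsLocalHom (algebraMap A A') :=
    ((local_hom_TFAE (algebraMap A A')).out 0 4).2 (comap_maximal hfib)
  obtain ⟨h1, h2⟩ := CplFib6.isLocalRing_quots (D := A') p (le_maximalIdeal Ideal.IsPrime.ne_top')
  haveI := h1
  haveI := h2
  haveI := CplFib6.flat_quot (D := A') p
  obtain ⟨q₀, hq₀, hdim⟩ := exists_minimal_ringKrullDim (Q := A' ⧸ p.map (algebraMap A A'))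
  haveI : q₀.IsPrime := hq₀.1.1
  let φ := Ideal.Quotient.mk (p.map (algebraMap A A'))
  have hc : (q₀.comap φ).comap (algebraMap A A') = p := by
    refine le_antisymm (fun a ha => ?_) fun a ha => ?_
    · by_contra hne
      refine Set.disjoint_left.1 (Ideal.disjoint_nonZeroDivisors_of_mem_minimalPrimes hq₀) ha ?_
      have h0 : Ideal.Quotient.mk p a ≠ 0 := fun h0 => hne (Ideal.Quotient.eq_zero_iff_mem.1 h0)
      have hr' : IsSMulRegular (A' ⧸ p.map (algebraMap A A'))
          (algebraMap (A ⧸ p) (A' ⧸ p.map (algebraMap A A')) (Ideal.Quotient.mk p a)) :=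
        (IsRegular.of_ne_zero h0).isSMulRegular.of_flat
      have hr : IsSMulRegular (A' ⧸ p.map (algebraMap A A')) (Ideal.Quotient.mk p a) := fun y z e => hr' (by
        simpa only [smul_eq_mul, ← Algebra.smul_def] using e)
      rw [SetLike.mem_coe, mem_nonZeroDivisors_iff_right]
      intro y hy
      refine hr ?_
      show Ideal.Quotient.mk p a • y = Ideal.Quotient.mk p a • (0 : A' ⧸ p.map (algebraMap A A'))
      rw [smul_zero, Algebra.smul_def, mul_comm]
      exact hy
    · show φ (algebraMap A A' a) ∈ q₀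
      have : φ (algebraMap A A' a) = 0 := Ideal.Quotient.eq_zero_iff_mem.2 (Ideal.mem_map_of_mem _ ha)
      rw [this]
      exact q₀.zero_mem
  refine ⟨q₀.comap φ, inferInstance, hc, le_antisymm (dim_le hfib _ p hc) ?_⟩
  refine (dim_quot_eq hfib p).ge.trans (hdim.trans ?_)
  exact ringKrullDim_le_of_surjective
    (Ideal.quotientMap q₀ φ le_rfl) (Ideal.quotientMap_surjective Ideal.Quotient.mk_surjective)

open CategoryTheory CategoryTheory.Limits AlgebraicGeometry in
theorem delta_main (X : Scheme.{u}) (f : X ⟶ Spec (CommRingCat.of A))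
    (hfib : ∀ q : Ideal A', ∀ _ : q.IsPrime, q.comap (algebraMap A A') = maximalIdeal A → q = maximalIdeal A')
    (h : Spec (CommRingCat.of A') ⟶ Spec (CommRingCat.of A)) (hh : h = Spec.map (CommRingCat.ofHom (algebraMap A A'))) :
    (∀ x' : ↥(pullback f h), FlatFun4.resTr (pullback.snd f h) x' ≤ FlatFun4.resTr f ((pullback.fst f h).base x') ∧
      ringKrullDim (A' ⧸ ((pullback.snd f h).base x').asIdeal) ≤
        ringKrullDim (A ⧸ (f.base ((pullback.fst f h).base x')).asIdeal)) ∧
    ∀ x : X, ∃ x' : ↥(pullback f h), (pullback.fst f h).base x' = x ∧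
      FlatFun4.resTr (pullback.snd f h) x' = FlatFun4.resTr f ((pullback.fst f h).base x') ∧
      ringKrullDim (A' ⧸ ((pullback.snd f h).base x').asIdeal) =
        ringKrullDim (A ⧸ (f.base ((pullback.fst f h).base x')).asIdeal) := by
  subst hh
  have hc := (IsPullback.of_hasPullback f (Spec.map (CommRingCat.ofHom (algebraMap A A'))))
  haveI : ∀ z : Spec (CommRingCat.of A), z.asIdeal.IsPrime := fun z => PrimeSpectrum.isPrime z
  haveI : ∀ z : Spec (CommRingCat.of A'), z.asIdeal.IsPrime := fun z => PrimeSpectrum.isPrime z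
  refine ⟨fun x' => ⟨FlatFun4.resTr_baseChange_le hc x', ?_⟩, fun x => ?_⟩
  · refine dim_le hfib _ _ ?_
    exact congrArg PrimeSpectrum.asIdeal (congr($(hc.w) x')).symm
  · obtain ⟨q, hq, hqc, hdim⟩ := exists_dim_eq hfib (f.base x).asIdeal
    obtain ⟨x', h1, h2, h3⟩ := FlatFun4.exists_point_resTr_ge hc x (⟨q, hq⟩ : PrimeSpectrum A')
      (PrimeSpectrum.ext hqc.symm)
    refine ⟨x', h1, le_antisymm (FlatFun4.resTr_baseChange_le hc x') (by rw [h1]; exact h3), ?_⟩
    rw [h2, h1]
    exact hdim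

end Groth.Agent.EtDerLib.FlatDimTrdeg
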