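import Groth.Agent.EtDerLib.ConstH
import Mathlib.AlgebraicGeometry.AffineTransitionLimit
import Mathlib.CategoryTheory.Limits.Shapes.Pullback.Connected
import Mathlib.RingTheory.Polynomial.ScaleRoots

/-!
# Geometric fibres of acyclic morphisms
-/

set_option autoImplicit false

universe u

open CategoryTheory CategoryTheory.Limits AlgebraicGeometry Opposite CategoryTheory.Abelian

noncomputable section

namespace Groth.Agent.EtDerLib.GeomFibre

set_option linter.style.haveILetI false
set_option backward.isDefEq.respectTransparency.types false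

variable (A : Type u) [CommRing A] (Ω : Type u) [Field Ω] [Algebra A Ω]

/-- indices: denominators and integral elements -/
abbrev Idx : Type u := Finset ({a : A // algebraMap A Ω a ≠ 0} ⊕ {w : Ω // IsIntegral A w})

variable {A Ω}

/-- the element attached to an index -/
def gen (x : {a : A // algebraMap A Ω a ≠ 0} ⊕ {w : Ω // IsIntegral A w}) : Ω :=
  x.elim (fun a => (algebraMap A Ω a.1)⁻¹) Subtype.val

/-- generators of a stage -/
def gens (s : Idx A Ω) : Set Ω :=
  gen (A := A) '' (s : Set ({a : A // algebraMap A Ω a ≠ 0} ⊕ {w : Ω // IsIntegral A w}))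

/-- a stage -/
abbrev stage (s : Idx A Ω) : Subalgebra A Ω := Algebra.adjoin A (gens s)

theorem stage_mono {s t : Idx A Ω} (h : s ≤ t) : stage s ≤ stage t :=
  Algebra.adjoin_mono (Set.image_mono (Finset.coe_subset.2 h))

theorem exists_mem_stage (hgen : ∀ w : Ω, ∃ a : A, algebraMap A Ω a ≠ 0 ∧ IsIntegral A (algebraMap A Ω a * w))
    (w : Ω) : ∃ s : Idx A Ω, w ∈ stage s := by
  classical
  obtain ⟨a, ha, hw⟩ := hgen w
  refine ⟨{Sum.inl ⟨a, ha⟩, Sum.inr ⟨_, hw⟩}, ?_⟩
  have h1 : (algebraMap A Ω a)⁻¹ ∈ stage ({Sum.inl ⟨a, ha⟩, Sum.inr ⟨_, hw⟩} : Idx A Ω) :=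
    Algebra.subset_adjoin ⟨Sum.inl ⟨a, ha⟩, by simp, rfl⟩
  have h2 : algebraMap A Ω a * w ∈ stage ({Sum.inl ⟨a, ha⟩, Sum.inr ⟨_, hw⟩} : Idx A Ω) :=
    Algebra.subset_adjoin ⟨Sum.inr ⟨_, hw⟩, by simp, rfl⟩
  have := mul_mem h1 h2
  rwa [← mul_assoc, inv_mul_cancel₀ ha, one_mul] at this

variable (A Ω)

/-- the rings -/
abbrev rings : Idx A Ω ⥤ CommRingCat.{u} where
  obj s := CommRingCat.of (stage s)
  map {_ _} h := CommRingCat.ofHom (Subalgebra.inclusion (stage_mono (leOfHom h))).toRingHom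

/-- the inclusions -/
abbrev cocone : Cocone (rings A Ω) where
  pt := CommRingCat.of Ω
  ι := { app := fun s => CommRingCat.ofHom (stage s).val.toRingHom }

variable {A Ω}

/-- `Ω` is the colimit -/
def isColimit (hgen : ∀ w : Ω, ∃ a : A, algebraMap A Ω a ≠ 0 ∧ IsIntegral A (algebraMap A Ω a * w)) :
    IsColimit (cocone A Ω) := by
  classical
  haveI : ReflectsColimit (rings A Ω) (forget CommRingCat.{u}) := reflectsColimit_of_reflectsIsomorphisms _ _
  refine isColimitOfReflects (forget CommRingCat.{u}) ?_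
  refine Types.FilteredColimit.isColimitOf' _ _ (fun z => ?_) fun s x y h => ?_
  · obtain ⟨s, hs⟩ := exists_mem_stage hgen z
    exact ⟨s, ⟨z, hs⟩, rfl⟩
  · exact ⟨s, 𝟙 s, congrArg _ (Subtype.ext h)⟩

variable (A Ω)

/-- the spectra -/
abbrev specs : (Idx A Ω)ᵒᵖ ⥤ Scheme.{u} := (rings A Ω).op ⋙ Scheme.Spec

/-- the cone -/
abbrev specCone : Cone (specs A Ω) := Scheme.Spec.mapCone (cocone A Ω).op

variable {A Ω} {X Y : Scheme.{u}} (g : X ⟶ Y) (jA : Spec (CommRingCat.of A) ⟶ Y)

/-- structure map of a stage -/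
abbrev str (s : (Idx A Ω)ᵒᵖ) : Spec (CommRingCat.of (stage s.unop)) ⟶ Y :=
  Spec.map (CommRingCat.ofHom (algebraMap A (stage s.unop))) ≫ jA

/-- structure map of the point -/
abbrev strPt : Spec (CommRingCat.of Ω) ⟶ Y := Spec.map (CommRingCat.ofHom (algebraMap A Ω)) ≫ jA

theorem str_map {s t : (Idx A Ω)ᵒᵖ} (h : s ⟶ t) : (specs A Ω).map h ≫ str jA t = str jA s := by
  show Spec.map _ ≫ Spec.map _ ≫ jA = Spec.map _ ≫ jA
  rw [← Spec.map_comp_assoc]
  rfl

theorem str_cone (s : (Idx A Ω)ᵒᵖ) : (specCone A Ω).π.app s ≫ str jA s = strPt (Ω := Ω) jA := by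
  show Spec.map _ ≫ Spec.map _ ≫ jA = Spec.map _ ≫ jA
  rw [← Spec.map_comp_assoc]
  rfl

variable (Ω)

/-- the base changes -/
def diag : (Idx A Ω)ᵒᵖ ⥤ Scheme.{u} where
  obj s := pullback g (str jA s)
  map {s t} h := pullback.lift (pullback.fst _ _) (pullback.snd _ _ ≫ (specs A Ω).map h)
    (by rw [Category.assoc, str_map]; exact pullback.condition)
  map_id s := by
    refine pullback.hom_ext ?_ ?_
    · exact (pullback.lift_fst _ _ _).trans (Category.id_comp _).symm
    · refine (pullback.lift_snd _ _ _).trans ?_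
      rw [CategoryTheory.Functor.map_id]
      exact (Category.comp_id _).trans (Category.id_comp _).symm
  map_comp h h' := by
    refine pullback.hom_ext ?_ ?_
    · refine (pullback.lift_fst _ _ _).trans ?_
      rw [Category.assoc, pullback.lift_fst, pullback.lift_fst]
    · refine (pullback.lift_snd _ _ _).trans ?_
      rw [Category.assoc, pullback.lift_snd, pullback.lift_snd_assoc, Functor.map_comp, Category.assoc]

/-- the projections -/
def proj (s : (Idx A Ω)ᵒᵖ) : pullback g (strPt (Ω := Ω) jA) ⟶ pullback g (str jA s) :=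
  pullback.lift (pullback.fst _ _) (pullback.snd _ _ ≫ (specCone A Ω).π.app s)
    (by rw [Category.assoc, str_cone]; exact pullback.condition)

theorem proj_fst (s : (Idx A Ω)ᵒᵖ) : proj Ω g jA s ≫ pullback.fst _ _ = pullback.fst _ _ := pullback.lift_fst _ _ _

theorem proj_snd (s : (Idx A Ω)ᵒᵖ) :
    proj Ω g jA s ≫ pullback.snd _ _ = pullback.snd _ _ ≫ (specCone A Ω).π.app s := pullback.lift_snd _ _ _

/-- the cone of base changes -/
def cone : Cone (diag Ω g jA) where
  pt := pullback g (strPt (Ω := Ω) jA)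
  π :=
    { app := proj Ω g jA
      naturality := fun s t h => by
        refine (Category.id_comp _).trans (pullback.hom_ext ?_ ?_)
        · refine (proj_fst Ω g jA t).trans (Eq.trans ?_ (Category.assoc _ _ _).symm)
          exact (proj_fst Ω g jA s).symm.trans (congrArg (proj Ω g jA s ≫ ·) (pullback.lift_fst _ _ _).symm)
        · refine (proj_snd Ω g jA t).trans (Eq.trans ?_ (Category.assoc _ _ _).symm)
          refine Eq.trans ?_ (congrArg (proj Ω g jA s ≫ ·) (pullback.lift_snd _ _ _).symm)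
          refine Eq.trans ?_ ((congrArg (· ≫ (specs A Ω).map h) (proj_snd Ω g jA s).symm).trans (Category.assoc _ _ _))
          rw [Category.assoc]
          exact congrArg (pullback.snd _ _ ≫ ·) ((specCone A Ω).w h).symm }

attribute [local instance] IsCofiltered.isConnected in
/-- it is a limit -/
def isLimitCone (hgen : ∀ w : Ω, ∃ a : A, algebraMap A Ω a ≠ 0 ∧ IsIntegral A (algebraMap A Ω a * w)) :
    IsLimit (cone Ω g jA) := by
  classical
  exact isLimitOfIsPullbackOfIsConnected
    ({ app := fun s => pullback.snd g (str jA s), naturality := fun _ _ _ => pullback.lift_snd _ _ _ } :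
      diag Ω g jA ⟶ specs A Ω) _ (specCone A Ω)
    { hom := pullback.snd g (strPt (Ω := Ω) jA), w := fun s => (proj_snd Ω g jA s).symm }
    (fun s => by
      refine IsPullback.of_right ?_ (proj_snd Ω g jA s) (IsPullback.of_hasPullback g (str jA s))
      show IsPullback (proj Ω g jA s ≫ pullback.fst g (str jA s)) (pullback.snd g (strPt (Ω := Ω) jA)) g _
      rw [show proj Ω g jA s ≫ pullback.fst g (str jA s) = pullback.fst _ _ from proj_fst Ω g jA s, str_cone]
      exact IsPullback.of_hasPullback g _)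
    (isLimitOfPreserves Scheme.Spec (isColimit hgen).op)

theorem isAffineHom_map [QuasiCompact g] {s t : (Idx A Ω)ᵒᵖ} (h : s ⟶ t) : IsAffineHom ((diag Ω g jA).map h) := by
  have hsq : IsPullback ((diag Ω g jA).map h) (pullback.snd g (str jA s)) (pullback.snd g (str jA t))
      ((specs A Ω).map h) := by
    refine IsPullback.of_right ?_ (pullback.lift_snd _ _ _) (IsPullback.of_hasPullback g (str jA t))
    rw [show (diag Ω g jA).map h ≫ pullback.fst g (str jA t) = pullback.fst g (str jA s) from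
      pullback.lift_fst _ _ _, str_map]
    exact IsPullback.of_hasPullback g _
  haveI : IsAffineHom ((specs A Ω).map h) := by
    show IsAffineHom (Spec.map _)
    infer_instance
  exact MorphismProperty.of_isPullback hsq.flip ‹IsAffineHom ((specs A Ω).map h)›

variable {Ω}

theorem finite_stage (s : Idx A Ω) :
    ∃ (a : A) (_ : algebraMap A Ω a ≠ 0) (i : Localization.Away a →+* stage s),
      i.comp (algebraMap A (Localization.Away a)) = algebraMap A (stage s) ∧ i.Finite := by
  classical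
  let a : A := ∏ b ∈ s.toLeft, b.1
  have ha : algebraMap A Ω a ≠ 0 := by
    rw [map_prod]
    exact Finset.prod_ne_zero_iff.2 fun b _ => b.2
  have hinv : (algebraMap A Ω a)⁻¹ ∈ stage s := by
    rw [map_prod, ← Finset.prod_inv_distrib]
    exact prod_mem fun b hb => Algebra.subset_adjoin ⟨Sum.inl b, Finset.mem_toLeft.1 hb, rfl⟩
  have hu : IsUnit (algebraMap A (stage s) a) :=
    IsUnit.of_mul_eq_one ⟨_, hinv⟩ (Subtype.ext (mul_inv_cancel₀ ha))
  let i := IsLocalization.Away.lift (S := Localization.Away a) a hu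
  have hi : i.comp (algebraMap A (Localization.Away a)) = algebraMap A (stage s) :=
    IsLocalization.Away.lift_comp a hu
  refine ⟨a, ha, i, hi, ?_⟩
  letI : Algebra (Localization.Away a) (stage s) := i.toAlgebra
  haveI : IsScalarTower A (Localization.Away a) (stage s) := IsScalarTower.of_algebraMap_eq' hi.symm
  haveI : Algebra.FiniteType A (stage s) := (Subalgebra.fg_iff_finiteType _).1 (Subalgebra.fg_def.2
    ⟨_, s.finite_toSet.image _, rfl⟩)
  haveI : Algebra.FiniteType (Localization.Away a) (stage s) :=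
    Algebra.FiniteType.of_restrictScalars_finiteType A _ _
  haveI : Algebra.IsIntegral (Localization.Away a) (stage s) := by
    refine ⟨fun x => ?_⟩
    have key : (⊤ : Subalgebra A (stage s)) ≤ (integralClosure (Localization.Away a) (stage s)).restrictScalars A := by
      rw [← Algebra.adjoin_adjoin_coe_preimage, Algebra.adjoin_le_iff]
      rintro ⟨y, hy⟩ ⟨b | b, hb, rfl⟩
      · let r : Localization.Away a := algebraMap A _ (∏ c ∈ s.toLeft.erase b, c.1) * IsLocalization.Away.invSelf a
        suffices (⟨_, hy⟩ : stage s) = algebraMap (Localization.Away a) (stage s) r by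
          rw [this]; exact isIntegral_algebraMap
        have h1 : algebraMap A (stage s) a * algebraMap (Localization.Away a) (stage s) (IsLocalization.Away.invSelf a) = 1 := by
          rw [IsScalarTower.algebraMap_apply A (Localization.Away a) (stage s), ← map_mul,
            IsLocalization.Away.mul_invSelf, map_one]
        refine hu.mul_left_cancel ?_
        rw [map_mul, ← IsScalarTower.algebraMap_apply, mul_left_comm, h1, mul_one]
        refine Subtype.ext ?_
        show algebraMap A Ω a * (algebraMap A Ω b.1)⁻¹ = algebraMap A Ω (∏ c ∈ s.toLeft.erase b, c.1)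
        show algebraMap A Ω (∏ c ∈ s.toLeft, c.1) * _ = _
        rw [← Finset.mul_prod_erase _ _ (Finset.mem_toLeft.2 hb), map_mul, mul_comm (algebraMap A Ω b.1), mul_assoc,
          mul_inv_cancel₀ b.2, mul_one]
      · exact (isIntegral_algHom_iff (stage s).val Subtype.val_injective (x := ⟨b.1, hy⟩)).1 b.2 |>.tower_top
    exact key trivial
  exact Algebra.IsIntegral.finite

theorem compAt_stage {L : Set ℕ} {n : ℕ} (hg : EtAcyc.IsAcyclicN g L n) [IsOpenImmersion jA] [QuasiCompact g]
    (s : (Idx A Ω)ᵒᵖ) [PreservesFiniteLimits (EtCoh.pull (pullback.snd g (str jA s)))]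
    (F : EtCoh.Ab (Spec (CommRingCat.of (stage s.unop)))) (hF : EtAcyc.IsLTorsion L F) :
    CompAt (pullback.snd g (str jA s)) F n := by
  obtain ⟨a, ha, i, hi, hfin⟩ := finite_stage s.unop
  let jB : Spec (CommRingCat.of (Localization.Away a)) ⟶ Y :=
    Spec.map (CommRingCat.ofHom (algebraMap A (Localization.Away a))) ≫ jA
  haveI : IsOpenImmersion (Spec.map (CommRingCat.ofHom (algebraMap A (Localization.Away a)))) :=
    IsOpenImmersion.of_isLocalization a
  let V : Y.Etale := MorphismProperty.Over.mk ⊤ jB (inferInstanceAs (AlgebraicGeometry.Etale jB))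
  let f : Spec (CommRingCat.of (stage s.unop)) ⟶ V.left := Spec.map (CommRingCat.ofHom i)
  haveI : IsFinite f := (IsFinite.SpecMap_iff _).2 hfin
  have hf : f ≫ V.hom = str jA s := by
    show Spec.map _ ≫ Spec.map _ ≫ jA = Spec.map _ ≫ jA
    rw [← Spec.map_comp_assoc, ← CommRingCat.ofHom_comp, hi]
  let f' : pullback g (str jA s) ⟶ pullback V.hom g :=
    pullback.lift (pullback.snd g (str jA s) ≫ f) (pullback.fst g (str jA s))
      (by rw [Category.assoc, hf]; exact pullback.condition.symm)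
  have hsq : IsPullback f' (pullback.snd g (str jA s)) (EtAcyc.prj g V) f := by
    refine IsPullback.of_right ?_ (pullback.lift_fst _ _ _) (IsPullback.of_hasPullback V.hom g).flip
    rw [show f' ≫ pullback.snd V.hom g = pullback.fst g (str jA s) from pullback.lift_snd _ _ _, hf]
    exact IsPullback.of_hasPullback g _
  haveI := EtFound.pull_preservesFiniteLimits (EtAcyc.prj g V)
  exact compAt_of_finite f (EtAcyc.prj g V) f' (pullback.snd g (str jA s)) hsq.flip F n
    (hg V _ (isLTorsion_push f hF))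

set_option maxHeartbeats 1000000 in
theorem isAcyclicScheme_fibre [IsSepClosed Ω] [QuasiCompact g] [QuasiSeparated g] [IsOpenImmersion jA]
    {L : Set ℕ} {n : ℕ} (hL : ∃ ℓ ∈ L, ℓ.Prime) (hg : EtAcyc.IsAcyclicN g L n)
    (hgen : ∀ w : Ω, ∃ a : A, algebraMap A Ω a ≠ 0 ∧ IsIntegral A (algebraMap A Ω a * w)) :
    EtAcyc.IsAcyclicSchemeN L n (pullback g (strPt (Ω := Ω) jA)) := by
  classical
  let P := pullback g (strPt (Ω := Ω) jA)
  haveI : ∀ {T Z : Scheme.{u}} (f : T ⟶ Z), PreservesFiniteLimits (EtCoh.pull f) :=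
    fun f => EtFound.pull_preservesFiniteLimits f
  have haff : ∀ ⦃a b : (Idx A Ω)ᵒᵖ⦄ (h : a ⟶ b), IsAffineHom ((diag Ω g jA).map h) := fun _ _ h => isAffineHom_map Ω g jA h
  have hqc : ∀ s, CompactSpace ↥((diag Ω g jA).obj s) := fun s =>
    @QuasiCompact.compactSpace_of_compactSpace _ _ (pullback.snd g (str jA s))
      (MorphismProperty.pullback_snd (P := @QuasiCompact) _ _ ‹QuasiCompact g›)
      (inferInstanceAs (CompactSpace ↥(Spec (CommRingCat.of (stage s.unop)))))
  have hqs : ∀ s, QuasiSeparatedSpace ↥((diag Ω g jA).obj s) := fun s =>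
    @quasiSeparatedSpace_of_quasiSeparated _ _ (pullback.snd g (str jA s))
      (inferInstanceAs (QuasiSeparatedSpace ↥(Spec (CommRingCat.of (stage s.unop)))))
      (MorphismProperty.pullback_snd (P := @QuasiSeparated) _ _ ‹QuasiSeparated g›)
  have hlim := isLimitCone Ω g jA hgen
  have hsurj : ∀ (ℓ : ℕ) [Fact ℓ.Prime], ℓ ∈ L → ∀ q ≤ n, ∀ x : EtCoh.H P (EtCoh.const P (ZMod ℓ)) q,
      ∃ y, cPull ℓ (pullback.snd g (strPt (Ω := Ω) jA)) q y = x := by
    intro ℓ _ hl q hq x
    obtain ⟨s, xs, hxs⟩ := exists_cPull_eq ℓ (diag Ω g jA) haff hqc hqs (cone Ω g jA) hlim q x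
    obtain ⟨y, rfl⟩ := cPull_surjective ℓ (pullback.snd g (str jA (op s))) q
      ((compAt_stage g jA hg (op s) _ (isLTorsion_const ℓ hl _)).1 q hq).2 xs
    refine ⟨cPull ℓ ((specCone A Ω).π.app (op s)) q y, ?_⟩
    rw [cPull_comp ℓ _ _ (proj_snd Ω g jA (op s)).symm, ← hxs]
    exact (cPull_comp ℓ _ _ rfl q y).symm
  obtain ⟨ℓ₀, hℓ₀, hp₀⟩ := hL
  haveI : Fact ℓ₀.Prime := ⟨hp₀⟩
  have hne : Nonempty P := by
    haveI : ∀ s, Nonempty ↥((diag Ω g jA).obj s) := by
      intro s
      by_contra he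
      haveI : IsEmpty ↥(pullback g (str jA s)) := not_nonempty_iff.1 he
      have h := cPull_injective ℓ₀ (pullback.snd g (str jA s)) 0
        ((compAt_stage g jA hg s _ (isLTorsion_const ℓ₀ hℓ₀ _)).1 0 (Nat.zero_le n)).1
      have h1 : oneCls ℓ₀ (Spec (CommRingCat.of (stage s.unop))) = 0 :=
        h (((H_const_isEmpty ℓ₀ _ _).trans (H_const_isEmpty ℓ₀ _ _).symm))
      refine oneCls_ne_zero ℓ₀ _ ((specCone A Ω).π.app s : Spec (CommRingCat.of Ω) ⟶ _) ?_
      haveI : (EtCoh.stalk ((specCone A Ω).π.app s : Spec (CommRingCat.of Ω) ⟶ _)).Additive :=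
        Functor.additive_of_preserves_binary_products _
      exact (congrArg _ ((Ext.mk₀_bijective _ _).1 (h1.trans (Ext.mk₀_zero _ _).symm))).trans (Functor.map_zero _ _ _)
    haveI : ∀ {i j} (f : i ⟶ j), IsAffineHom ((diag Ω g jA).map f) := fun f => haff f
    haveI : ∀ i, CompactSpace ↥((diag Ω g jA).obj i) := hqc
    exact Scheme.nonempty_of_isLimit (diag Ω g jA) (cone Ω g jA) hlim
  refine ⟨hne, ?_, fun ℓ hp hl q h1 hqn => ?_⟩
  · haveI : PreconnectedSpace P := preconnectedSpace_of_oneCls ℓ₀ P fun x => by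
      obtain ⟨y, rfl⟩ := hsurj ℓ₀ hℓ₀ 0 (Nat.zero_le n) x
      obtain ⟨m, rfl⟩ := exists_eq_nsmul_oneCls ℓ₀ Ω y
      exact ⟨m, by rw [cPull_nsmul, cPull_oneCls]⟩
    exact { toNonempty := hne }
  · haveI : Fact ℓ.Prime := ⟨hp⟩
    refine subsingleton_of_forall_eq 0 fun x => ?_
    obtain ⟨y, rfl⟩ := hsurj ℓ hl q hqn x
    obtain ⟨q, rfl⟩ : ∃ k, q = k + 1 := ⟨q - 1, by omega⟩
    rw [H_sepClosed_eq_zero Ω _ q y, cPull_zero]

end Groth.Agent.EtDerLib.GeomFibre
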