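import Groth.Agent.SpecLib.Limit
import Groth.Agent.SpecLib.Basic
import Groth.Agent.EtFound.Detect
import Groth.Agent.EtFound.ConstStalk
import Groth.Agent.EtFound.PushOutside
import Groth.Agent.S3883
import Groth.Prelude.Def_EtAcyc
import Mathlib.AlgebraicGeometry.IdealSheaf.Subscheme
import Mathlib.CategoryTheory.Adjunction.FullyFaithful

/-!
# `(-1)`-acyclicity and surjectivity
-/

set_option autoImplicit false

universe u

open CategoryTheory CategoryTheory.Limits AlgebraicGeometry Opposite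

namespace Groth.Agent.EtDerLib

set_option linter.style.haveILetI false
set_option backward.isDefEq.respectTransparency.types false

/-- an open set of the constructible topology is a union of locally closed sets -/
theorem exists_locallyClosed_of_co {X : Type*} [TopologicalSpace X] {O : Set X} (hO : SpecLib.CO O) :
    ∀ x ∈ O, ∃ U Z : Set X, IsOpen U ∧ IsClosed Z ∧ x ∈ U ∧ x ∈ Z ∧ U ∩ Z ⊆ O := by
  induction hO with
  | basic s hs =>
    intro x hx
    rcases hs with ⟨h1, -⟩ | ⟨h1, -⟩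
    · exact ⟨s, Set.univ, h1, isClosed_univ, hx, trivial, Set.inter_subset_left⟩
    · exact ⟨Set.univ, s, isOpen_univ, h1, trivial, hx, Set.inter_subset_right⟩
  | univ => exact fun x _ => ⟨Set.univ, Set.univ, isOpen_univ, isClosed_univ, trivial, trivial, fun _ _ => trivial⟩
  | inter s t _ _ hs ht =>
    intro x hx
    obtain ⟨U, Z, h1, h2, h3, h4, h5⟩ := hs x hx.1
    obtain ⟨U', Z', h1', h2', h3', h4', h5'⟩ := ht x hx.2
    exact ⟨U ∩ U', Z ∩ Z', h1.inter h1', h2.inter h2', ⟨h3, h3'⟩, ⟨h4, h4'⟩,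
      fun y hy => ⟨h5 ⟨hy.1.1, hy.2.1⟩, h5' ⟨hy.1.2, hy.2.2⟩⟩⟩
  | sUnion S _ hS =>
    intro x hx
    obtain ⟨s, hs, hxs⟩ := hx
    obtain ⟨U, Z, h1, h2, h3, h4, h5⟩ := hS s hs x hxs
    exact ⟨U, Z, h1, h2, h3, h4, h5.trans (Set.subset_sUnion_of_mem hs)⟩

variable {X Y : Scheme.{u}} (g : X ⟶ Y)

theorem exists_avoiding_range [QuasiCompact g] [QuasiSeparated g] (y : Y) (hy : y ∉ Set.range g.base) :
    ∃ (O : Y.Opens) (Z : Set O), IsClosed Z ∧ (∃ z, z ∈ Z) ∧ ∀ z : O, z ∈ Z → (z : Y) ∉ Set.range g.base := by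
  obtain ⟨U, hU, hyU, -⟩ := exists_isAffineOpen_mem_and_subset (Set.mem_univ y) (U := (⊤ : Y.Opens))
  let f := g ∣_ U
  haveI : IsAffine U.toScheme := hU
  haveI : QuasiCompact f := IsZariskiLocalAtTarget.restrict (P := @QuasiCompact) ‹_› U
  haveI : QuasiSeparated f := IsZariskiLocalAtTarget.restrict (P := @QuasiSeparated) ‹_› U
  haveI : CompactSpace (g ⁻¹ᵁ U).toScheme := QuasiCompact.compactSpace_of_compactSpace f
  haveI : QuasiSeparatedSpace (g ⁻¹ᵁ U).toScheme := quasiSeparatedSpace_of_quasiSeparated f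
  haveI : SpectralSpace U.toScheme := { }
  haveI : SpectralSpace (g ⁻¹ᵁ U).toScheme := { }
  have hE : SpecLib.CC (Set.range f.base) := by
    rw [← Set.image_univ]
    exact SpecLib.CC.image f.isSpectralMap (SpecLib.cc_of_isClosed isClosed_univ)
  have hmem : (⟨y, hyU⟩ : U) ∈ (Set.range f.base)ᶜ := by
    rintro ⟨x, hx⟩
    exact hy ⟨x.1, (morphismRestrict_base_coe g U x).symm.trans (congrArg Subtype.val hx)⟩
  obtain ⟨U', Z', hU', hZ', hyU', hyZ', hsub⟩ := exists_locallyClosed_of_co (SpecLib.CC.compl hE) _ hmem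
  let O : Y.Opens := ⟨Subtype.val '' U', U.2.isOpenMap_subtype_val _ hU'⟩
  have hOU : ∀ z : O, (z : Y) ∈ U := fun z => by
    obtain ⟨w, -, hw⟩ := z.2
    exact hw ▸ w.2
  refine ⟨O, (fun z : O => (⟨z.1, hOU z⟩ : U)) ⁻¹' Z', hZ'.preimage (by fun_prop),
    ⟨⟨y, ⟨_, hyU', rfl⟩⟩, hyZ'⟩, ?_⟩
  rintro z hz ⟨x, hx⟩
  obtain ⟨w, hw, hwz⟩ := z.2
  have hwU : (⟨z.1, hOU z⟩ : U) ∈ U' := by
    have e : w = ⟨z.1, hOU z⟩ := Subtype.ext hwz
    exact e ▸ hw
  have hxU : x ∈ g ⁻¹ᵁ U := by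
    show g.base x ∈ U
    rw [hx]
    exact hOU z
  exact hsub ⟨hwU, hz⟩ ⟨⟨x, hxU⟩, Subtype.ext ((morphismRestrict_base_coe g U ⟨x, hxU⟩).trans hx)⟩

/-- a monomorphic unit at a sheaf with trivial stalks on the image forces maps into it to be unique -/
theorem eq_of_mono_unit {P S : Scheme.{u}} (f : P ⟶ S) (F H : EtDesc.Sh S) [Mono ((EtDesc.adjSh f).unit.app F)]
    (hF : ∀ (k : Type u) [Field k] [IsSepClosed k] (ξ : Spec (CommRingCat.of k) ⟶ P),
      Nonempty (Unique (ToType ((Scheme.pointSmallEtale (ξ ≫ f)).sheafFiber.obj F))))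
    (a b : H ⟶ F) : a = b := by
  refine (cancel_mono ((EtDesc.adjSh f).unit.app F)).1 ?_
  have e : (EtDesc.pullSh f).map a = (EtDesc.pullSh f).map b := EtFound.eq_of_stalks _ _ fun k _ _ ξ => by
    obtain ⟨h⟩ := hF k ξ
    refine (cancel_mono ((EtFound.sheafFiberPullIso f ξ).hom.app F)).1 ?_
    refine ConcreteCategory.hom_ext _ _ fun t => ?_
    exact (h.eq_default _).trans (h.eq_default _).symm
  exact ((EtDesc.adjSh f).unit.naturality a).trans ((congrArg (fun m => _ ≫ (EtDesc.pushSh f).map m) e).trans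
    ((EtDesc.adjSh f).unit.naturality b).symm)

theorem exists_endo_ne {Z : Scheme.{u}} (z : Z) :
    ∃ (G : EtDesc.Sh Z) (σ : G ⟶ G), σ ≠ 𝟙 G := by
  let Ω : Type u := SeparableClosure (Z.residueField z)
  let ξ : Spec (CommRingCat.of Ω) ⟶ Z :=
    Spec.map (CommRingCat.ofHom (algebraMap (Z.residueField z) Ω)) ≫ Z.fromSpecResidueField z
  let C := constantSheaf Z.smallEtaleTopology (Type (u + 1))
  let σ₀ : ULift.{u + 1} Bool ⟶ ULift.{u + 1} Bool := TypeCat.ofHom fun b => ⟨!b.down⟩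
  refine ⟨C.obj (ULift.{u + 1} Bool), C.map σ₀, fun h => ?_⟩
  let P := (Functor.const Z.Etaleᵒᵖ).obj (ULift.{u + 1} Bool)
  have h0 : (Functor.const Z.Etaleᵒᵖ).map σ₀ ≫ toSheafify Z.smallEtaleTopology P = toSheafify Z.smallEtaleTopology P :=
    (toSheafify_naturality Z.smallEtaleTopology ((Functor.const Z.Etaleᵒᵖ).map σ₀)).trans
      ((congrArg (fun φ => toSheafify Z.smallEtaleTopology P ≫ φ.hom) h).trans (Category.comp_id _))
  have h1 : (toSheafify Z.smallEtaleTopology P).app (op (EtCoh.top Z)) (⟨false⟩ : ULift.{u + 1} Bool) =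
      (toSheafify Z.smallEtaleTopology P).app (op (EtCoh.top Z)) (⟨true⟩ : ULift.{u + 1} Bool) :=
    ConcreteCategory.congr_hom (C := Type (u + 1))
      (congrArg (fun φ : P ⟶ sheafify Z.smallEtaleTopology P => φ.app (op (EtCoh.top Z))) h0) (⟨true⟩ : ULift.{u + 1} Bool)
  have h2 := (EtFound.toSheafify_const_germ_bijective ξ (Type (u + 1)) (ULift.{u + 1} Bool) (EtCoh.top Z)
      (CategoryTheory.Over.homMk ξ (Category.comp_id _))).1
    (congrArg ((Scheme.pointSmallEtale ξ).toPresheafFiber (EtCoh.top Z)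
      (CategoryTheory.Over.homMk ξ (Category.comp_id _)) (sheafify Z.smallEtaleTopology P)) h1)
  exact Bool.noConfusion (congrArg ULift.down h2)

theorem minusOne_of_surjective [Surjective g] : EtAcyc.IsMinusOneAcyclic g := by
  intro V F
  haveI : Surjective (EtAcyc.prj g V) := MorphismProperty.pullback_fst (P := @Surjective) V.hom g ‹_›
  haveI : (EtDesc.pullSh (EtAcyc.prj g V)).Faithful := EtFound.pullback_faithful (EtAcyc.prj g V)
  infer_instance

theorem surjective_of_minusOne [QuasiCompact g] [QuasiSeparated g] (h : EtAcyc.IsMinusOneAcyclic g) :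
    Function.Surjective g.base := by
  intro y
  by_contra hy
  obtain ⟨O, Z, hZ, ⟨z, hz⟩, hdis⟩ := exists_avoiding_range g y hy
  let W : Y.Etale := Scheme.Etale.mk O.ι
  let I := Scheme.IdealSheafData.vanishingIdeal (⟨Z, hZ⟩ : TopologicalSpace.Closeds O.toScheme)
  let i : I.subscheme ⟶ O.toScheme := I.subschemeι
  have hr : Set.range i.base = Z := by
    refine (Scheme.IdealSheafData.range_subschemeι I).trans ?_
    exact Scheme.IdealSheafData.coe_support_vanishingIdeal (⟨Z, hZ⟩ : TopologicalSpace.Closeds O.toScheme)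
  obtain ⟨z', -⟩ : ∃ z', i.base z' = z := by
    have : z ∈ Set.range i.base := by rw [hr]; exact hz
    exact this
  obtain ⟨G, σ, hσ⟩ := exists_endo_ne z'
  let f : pullback W.hom g ⟶ O.toScheme := EtAcyc.prj g W
  haveI : Mono ((EtDesc.adjSh f).unit.app ((EtDesc.pushSh i).obj G)) := h W _
  have hl := EtFound.liftable_of_isClosedImmersion i
  have hc : IsIso (EtDesc.adjSh i).counit := by
    have : ∀ G, IsIso ((EtDesc.adjSh i).counit.app G) := fun G => EtFound.counit_isIso i hl G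
    exact NatIso.isIso_of_isIso_app _
  haveI := hc
  refine hσ (((EtDesc.adjSh i).fullyFaithfulROfIsIsoCounit).map_injective
    ((eq_of_mono_unit f _ _ (fun k _ _ ξ => ?_) ((EtDesc.pushSh i).map σ) (𝟙 _)).trans
      ((EtDesc.pushSh i).map_id G).symm))
  refine EtFound.nonempty_unique_stalk (i.isClosedEmbedding.isClosed_range) _
    (fun V hV => EtFound.push_unique_of_disjoint i G V hV) (ξ ≫ f) fun hmem => ?_
  rw [hr] at hmem
  refine hdis _ hmem ⟨(pullback.snd W.hom g).base (ξ.base default), ?_⟩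
  exact (Scheme.Hom.comp_apply _ _ _).symm.trans ((congrArg (fun m : _ ⟶ Y => m.base (ξ.base default))
    pullback.condition.symm).trans ((Scheme.Hom.comp_apply _ _ _).trans
      (congrArg O.ι.base (Scheme.Hom.comp_apply ξ f default).symm)))

end Groth.Agent.EtDerLib
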