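import Groth.Agent.HTop74.PhExt
import Groth.Agent.QCoh.ProperOver2
import Mathlib.AlgebraicGeometry.ZariskisMainTheorem

/-!
# A decreasing family of closed sets with proper intersection is eventually proper
-/

set_option autoImplicit false

universe u

open CategoryTheory CategoryTheory.Limits AlgebraicGeometry TopologicalSpace

namespace Groth.Agent.EtDerLib.ProperLimit

set_option linter.style.haveILetI false

theorem exists_isClosed_image {N X' : Type*} [TopologicalSpace N] [CompactSpace N] [TopologicalSpace X'] (e : X' → N)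
    (he : Topology.IsOpenEmbedding e) {ℬ : Set (Set N)} (hB : IsTopologicalBasis ℬ)
    (hBc : ∀ W ∈ ℬ, IsCompact (e ⁻¹' W)) {ι : Type*} [Nonempty ι] (T : ι → Set X') (hT : ∀ k, IsClosed (T k))
    (hdir : Directed (fun a b => b ⊆ a) T) (hK : IsClosed (e '' ⋂ k, T k)) :
    ∃ k, IsClosed (e '' T k) := by
  have hB' : ∀ p ∈ (Set.range e)ᶜ, ∃ k, p ∉ closure (e '' T k) := by
    intro p hp
    have hpK : p ∈ (e '' ⋂ k, T k)ᶜ := fun ⟨x, _, hx⟩ => hp ⟨x, hx⟩
    obtain ⟨W, hW, hpW, hWK⟩ := hB.exists_subset_of_mem_open hpK hK.isOpen_compl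
    obtain ⟨k, hk⟩ := (hBc W hW).elim_directed_family_closed T hT
      (Set.eq_empty_of_forall_notMem fun x hx => hWK hx.1 ⟨x, hx.2, rfl⟩) hdir
    refine ⟨k, fun hcl => ?_⟩
    obtain ⟨y, hyW, x, hx, rfl⟩ := mem_closure_iff.1 hcl W (hB.isOpen hW) hpW
    exact Set.notMem_empty x (hk ▸ ⟨hyW, hx⟩)
  obtain ⟨k, hk⟩ := (he.isOpen_range.isClosed_compl.isCompact).elim_directed_cover
    (fun k => (closure (e '' T k))ᶜ) (fun k => isClosed_closure.isOpen_compl)
    (fun p hp => Set.mem_iUnion.2 (hB' p hp))
    (Directed.mono_comp (fun a b : Set X' => b ⊆ a) (rb := (· ⊆ ·)) (g := fun S : Set X' => (closure (e '' S))ᶜ)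
      (fun _ _ hab => Set.compl_subset_compl.2 (closure_mono (Set.image_mono hab))) hdir)
  refine ⟨k, isClosed_of_closure_subset fun p hp => ?_⟩
  obtain ⟨x, rfl⟩ : p ∈ Set.range e := by
    by_contra hn
    exact hk hn hp
  refine ⟨x, ?_, rfl⟩
  rw [← (hT k).closure_eq, he.isInducing.closure_eq_preimage_closure_image]
  exact hp

variable {A : Type u} [CommRing A]

theorem exists_isProperOver_piece {X' N : Scheme.{u}} (e : X' ⟶ N) [IsOpenImmersion e] [QuasiCompact e]
    (q : N ⟶ Spec (CommRingCat.of A)) [UniversallyClosed q] [IsSeparated q] [LocallyOfFiniteType (e ≫ q)]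
    {ι : Type*} [Nonempty ι] (T : ι → Set X') (hT : ∀ k, IsClosed (T k))
    (hdir : Directed (fun a b => b ⊆ a) T) (hK : ClSub.IsProperOver (e ≫ q) (⋂ k, T k)) :
    ∃ k, ClSub.IsProperOver (e ≫ q) (T k) := by
  haveI : QuasiCompact q := inferInstance
  haveI : CompactSpace N := QuasiCompact.compactSpace_of_compactSpace q
  have hKc : IsClosed (e.base '' ⋂ k, T k) := by
    obtain ⟨hC, hP⟩ := hK
    let i := (Scheme.IdealSheafData.vanishingIdeal ⟨⋂ k, T k, hC⟩).subschemeι
    haveI : IsProper (i ≫ e ≫ q) := hP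
    haveI : UniversallyClosed ((i ≫ e) ≫ q) := by rw [Category.assoc]; infer_instance
    haveI : UniversallyClosed (i ≫ e) := UniversallyClosed.of_comp_of_isSeparated _ q
    have hr : Set.range (i ≫ e).base = e.base '' ⋂ k, T k := by
      rw [Scheme.Hom.comp_base, TopCat.coe_comp, Set.range_comp, QCoh.range_vanishing]
    rw [← hr]
    exact (i ≫ e).isClosedMap.isClosed_range
  obtain ⟨k, hk⟩ := exists_isClosed_image e.base e.isOpenEmbedding N.isBasis_affineOpens
    (by rintro _ ⟨W, hW, rfl⟩; exact (e.isSpectralMap.isCompact_preimage_of_isOpen W.2 hW.isCompact))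
    T hT hdir hKc
  refine ⟨k, hT k, ?_⟩
  let i := (Scheme.IdealSheafData.vanishingIdeal ⟨T k, hT k⟩).subschemeι
  haveI : IsClosedImmersion (i ≫ e) := IsClosedImmersion.of_isPreimmersion _ (by
    rw [Scheme.Hom.comp_base, TopCat.coe_comp, Set.range_comp, QCoh.range_vanishing]
    exact hk)
  show IsProper (i ≫ e ≫ q)
  haveI : UniversallyClosed (i ≫ e ≫ q) := by rw [← Category.assoc]; infer_instance
  haveI : IsSeparated (i ≫ e ≫ q) := by rw [← Category.assoc]; infer_instance
  haveI : LocallyOfFiniteType (i ≫ e ≫ q) := inferInstance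
  exact { }

theorem isProperOver_biUnion {X S : Scheme.{u}} {p : X ⟶ S} [LocallyOfFiniteType p] {κ : Type*} (s : Finset κ)
    (Z : κ → Set X) (h : ∀ i ∈ s, ClSub.IsProperOver p (Z i)) : ClSub.IsProperOver p (⋃ i ∈ s, Z i) := by
  classical
  induction s using Finset.induction with
  | empty => simpa using QCoh.isProperOver_empty
  | insert a s _ ih =>
    rw [Finset.set_biUnion_insert]
    exact QCoh.IsProperOver.union (h a (Finset.mem_insert_self a s)) (ih fun i hi => h i (Finset.mem_insert_of_mem hi))

theorem exists_isProperOver_qc {O : Scheme.{u}} (h : O ⟶ Spec (CommRingCat.of A)) [IsSeparated h]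
    [LocallyOfFiniteType h] [QuasiCompact h] {ι : Type*} [Nonempty ι] (T : ι → Set O) (hT : ∀ k, IsClosed (T k))
    (hdir : Directed (fun a b => b ⊆ a) T) (hK : ClSub.IsProperOver h (⋂ k, T k)) :
    ∃ k, ClSub.IsProperOver h (T k) := by
  classical
  obtain ⟨κ, _, X', π, N, p, hπ, hp, hpπ, hcov⟩ := HTop74.exists_chow_pieces h
  have key : ∀ K, ∃ k, ClSub.IsProperOver h ((π K).base '' ((π K).base ⁻¹' T k)) := by
    intro K
    haveI := hπ K
    haveI := hp K
    let P := CohB1.ProjSpace.toSpec (N K) A
    haveI : IsProper P := PnCoh.Chow.isProper_toSpec _ _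
    haveI : LocallyOfFiniteType (p K ≫ P) := by rw [hpπ]; infer_instance
    haveI : LocallyOfFiniteType (p K) := locallyOfFiniteType_of_comp (p K) P
    haveI : CompactSpace O := QuasiCompact.compactSpace_of_compactSpace h
    haveI : CompactSpace (X' K) := QuasiCompact.compactSpace_of_compactSpace (π K)
    haveI : QuasiSeparatedSpace (CohB1.ProjSpace (N K) A) := quasiSeparatedSpace_of_quasiSeparated P
    haveI : QuasiCompact (p K) := quasiCompact_of_compactSpace _
    haveI : LocallyQuasiFinite (p K) := inferInstance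
    haveI : UniversallyClosed ((p K).fromNormalization ≫ P) := inferInstance
    haveI : IsSeparated ((p K).fromNormalization ≫ P) := inferInstance
    have he : (p K).toNormalization ≫ (p K).fromNormalization ≫ P = π K ≫ h := by
      rw [← Category.assoc, (p K).toNormalization_fromNormalization, hpπ]
    haveI : LocallyOfFiniteType ((p K).toNormalization ≫ (p K).fromNormalization ≫ P) := by
      rw [he]; infer_instance
    haveI : QuasiSeparatedSpace (p K).normalization :=
      quasiSeparatedSpace_of_quasiSeparated ((p K).fromNormalization ≫ P)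
    haveI : QuasiCompact (p K).toNormalization := quasiCompact_of_compactSpace _
    obtain ⟨k, hk⟩ := exists_isProperOver_piece (p K).toNormalization ((p K).fromNormalization ≫ P)
      (fun k => (π K).base ⁻¹' T k) (fun k => (hT k).preimage (π K).continuous)
      (Directed.mono_comp (fun a b : Set O => b ⊆ a) (rb := fun a b => b ⊆ a) (g := fun S => (π K).base ⁻¹' S)
        (fun _ _ hab => Set.preimage_mono hab) hdir)
      (by rw [he, ← Set.preimage_iInter]; exact QCoh.IsProperOver.preimage rfl hK)
    rw [he] at hk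
    exact ⟨k, QCoh.IsProperOver.image rfl hk fun i _ hi => by
      haveI := hi
      haveI : UniversallyClosed ((i ≫ π K) ≫ h) := by rw [Category.assoc]; infer_instance
      exact UniversallyClosed.of_comp_of_isSeparated _ h⟩
  choose k hk using key
  haveI := Fintype.ofFinite κ
  obtain ⟨k₀, hk₀⟩ := hdir.finset_le (Finset.univ.image k)
  refine ⟨k₀, QCoh.IsProperOver.subset
    (isProperOver_biUnion Finset.univ (fun K => (π K).base '' ((π K).base ⁻¹' T (k K))) fun K _ => hk K) (hT k₀) ?_⟩
  intro x hx
  obtain ⟨K, y, rfl⟩ := hcov x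
  exact Set.mem_iUnion₂.2 ⟨K, Finset.mem_univ _, y,
    hk₀ (k K) (Finset.mem_image.2 ⟨K, Finset.mem_univ _, rfl⟩) hx, rfl⟩

/-- closed sets of a quasi-compact open with intersection closed and proper are eventually closed and proper -/
theorem exists_isProperOver {P S : Scheme.{u}} [IsAffine S] (g : P ⟶ S) [IsSeparated g] [LocallyOfFiniteType g]
    (O : P.Opens) (hO : IsCompact (O : Set P)) {ι : Type*} [Nonempty ι] (T : ι → Set O)
    (hT : ∀ k, IsClosed (T k)) (hdir : Directed (fun a b => b ⊆ a) T)
    (hK : ClSub.IsProperOver g (Subtype.val '' ⋂ k, T k)) :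
    ∃ k, ClSub.IsProperOver g (Subtype.val '' T k) := by
  let g' := g ≫ S.isoSpec.hom
  have iff' : ∀ Z : Set P, ClSub.IsProperOver g' Z ↔ ClSub.IsProperOver g Z := fun Z =>
    exists_congr fun hC => by
      rw [← Category.assoc]
      exact MorphismProperty.cancel_right_of_respectsIso @IsProper _ S.isoSpec.hom
  haveI : CompactSpace O.toScheme := isCompact_iff_compactSpace.1 hO
  haveI : QuasiCompact (O.ι ≫ g') := inferInstance
  obtain ⟨k, hk⟩ := exists_isProperOver_qc (O.ι ≫ g') T hT hdir (by
    obtain ⟨hC, hP⟩ := (iff' _).2 hK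
    let i := (Scheme.IdealSheafData.vanishingIdeal ⟨_, hC⟩).subschemeι
    have hr : Set.range i ⊆ Set.range O.ι := by
      rw [QCoh.range_vanishing, Scheme.Opens.range_ι]
      rintro _ ⟨x, -, rfl⟩
      exact x.2
    let i' := IsOpenImmersion.lift O.ι i hr
    have hi' : i' ≫ O.ι = i := IsOpenImmersion.lift_fac _ _ _
    haveI : IsClosedImmersion i' := by
      haveI : IsClosedImmersion (i' ≫ O.ι) := by rw [hi']; infer_instance
      exact IsClosedImmersion.of_comp i' O.ι
    haveI : IsProper (i' ≫ O.ι ≫ g') := by rw [← Category.assoc, hi']; exact hP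
    have hr' : Set.range i'.base = ⋂ k, T k := by
      refine (Set.image_injective.2 Subtype.val_injective ?_)
      have : Subtype.val '' Set.range i'.base = Set.range (i' ≫ O.ι).base := by
        rw [Scheme.Hom.comp_base, TopCat.coe_comp, Set.range_comp]
        rfl
      refine this.trans ?_
      rw [hi']
      exact QCoh.range_vanishing hC
    rw [← hr']
    exact QCoh.isProperOver_range (q := O.ι ≫ g') i')
  exact ⟨k, (iff' _).1 (QCoh.IsProperOver.image (f := O.ι) rfl hk fun i _ hi => by
    haveI := hi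
    haveI : UniversallyClosed ((i ≫ O.ι) ≫ g') := by rw [Category.assoc]; infer_instance
    exact UniversallyClosed.of_comp_of_isSeparated _ g')⟩

end Groth.Agent.EtDerLib.ProperLimit
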