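import Groth.Agent.EtDerLib.ProperLimit
import Groth.Agent.EtShriekLib.Coprod
import Groth.Agent.EtFound.QcqsObjects

/-!
# `f_!` commutes with filtered colimits
-/

set_option autoImplicit false

universe u

open CategoryTheory CategoryTheory.Limits AlgebraicGeometry Opposite

namespace Groth.Agent.EtDerLib.ShriekColim

open Groth.Agent.EtShriekLib

set_option linter.style.haveILetI false
set_option backward.isDefEq.respectTransparency.types false

variable {X Y : Scheme.{u}}

/-- every element of a geometric stalk is a germ over an affine object -/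
theorem exists_affine_rep (G : EtCoh.Ab Y) {Ω : Type u} [Field Ω] [IsSepClosed Ω]
    {η : Spec (CommRingCat.of Ω) ⟶ Y} (p : (EtCoh.stalk η).obj G) :
    ∃ (V : Y.Etale) (v : (Scheme.pointSmallEtale η).fiber.obj V) (t : EtCoh.sect G V),
      IsAffine V.left ∧ germHom G v t = p := by
  obtain ⟨V, v, t, rfl⟩ : ∃ (V : Y.Etale) (v : (Scheme.pointSmallEtale η).fiber.obj V) (t : EtCoh.sect G V),
      (Scheme.pointSmallEtale η).toPresheafFiber V v G.obj t = p :=
    (Scheme.pointSmallEtale η).toPresheafFiber_jointly_surjective p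
  let vl : Spec (CommRingCat.of Ω) ⟶ V.left := v.left
  obtain ⟨_, ⟨O, hO, rfl⟩, hvO, -⟩ := V.left.isBasis_affineOpens.exists_subset_of_mem_open
    (Set.mem_univ (vl.base (default : Spec (CommRingCat.of Ω)))) isOpen_univ
  let O' : V.left.Opens := O
  obtain ⟨qv, hqv⟩ := EtFound.exists_lift_open vl O' fun s => by
    rw [Subsingleton.elim (α := Spec (CommRingCat.of Ω)) s default]; exact hvO
  let v' : (Scheme.pointSmallEtale η).fiber.obj (EtFound.restrictEtale V O') := CategoryTheory.Over.homMk qv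
    ((Category.assoc _ _ _).symm.trans ((congrArg (· ≫ V.hom) hqv).trans (CategoryTheory.Over.w v)))
  have hv : (Scheme.pointSmallEtale η).fiber.map (EtFound.restrictEtaleHom V O') v' = v :=
    CategoryTheory.Over.OverMorphism.ext hqv
  refine ⟨EtFound.restrictEtale V O', v', G.obj.map (EtFound.restrictEtaleHom V O').op t, hO, ?_⟩
  exact ((Scheme.pointSmallEtale η).toPresheafFiber_w_apply (EtFound.restrictEtaleHom V O') v' G.obj t).trans
    (by rw [hv])

variable {J : Type u} [SmallCategory J] [IsFiltered J] {D : J ⥤ EtCoh.Ab X} {c : Cocone D} (hc : IsColimit c)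

include hc in
theorem exists_stage_germ_zero {U : X.Etale} (j : J) (a : EtCoh.sect (D.obj j) U)
    (h : (c.ι.app j).hom.app (op U) a = 0) {Ω : Type u} [Field Ω] [IsSepClosed Ω]
    {ξ : Spec (CommRingCat.of Ω) ⟶ X} (z : (Scheme.pointSmallEtale ξ).fiber.obj U) :
    ∃ (k : J) (g : j ⟶ k), EtFound.ptOf z ∉ EtShriek.sectSupp (D.obj k) U ((D.map g).hom.app (op U) a) := by
  have : PreservesColimitsOfSize.{u + 1, u + 1} (EtCoh.stalk ξ) :=
    (Scheme.pointSmallEtale ξ).skyscraperSheafAdjunction.leftAdjoint_preservesColimits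
  have : PreservesColimitsOfSize.{u, u} (EtCoh.stalk ξ) := preservesColimitsOfSize_shrink.{u, u + 1, u, u + 1} (EtCoh.stalk ξ)
  have hs := isColimitOfPreserves (EtCoh.stalk ξ) hc
  have e : ((EtCoh.stalk ξ).mapCocone c).ι.app j (germHom (D.obj j) z a) =
      ((EtCoh.stalk ξ).mapCocone c).ι.app j (0 : (EtCoh.stalk ξ).obj (D.obj j)) := by
    refine (germHom_app (c.ι.app j) z a).symm.trans ?_
    rw [h, map_zero]
    exact (map_zero ((EtCoh.stalk ξ).map (c.ι.app j)).hom).symm
  obtain ⟨k, g, g', hg⟩ := (Concrete.isColimit_rep_eq_iff_exists (D ⋙ EtCoh.stalk ξ) hs _ _).1 e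
  refine ⟨k, g, fun hz => (mem_supp_germHom z _).1 hz ?_⟩
  refine (germHom_app (D.map g) z a).trans ?_
  exact hg.trans (map_zero ((EtCoh.stalk ξ).map (D.map g')).hom)

theorem supp_anti {U : X.Etale} {j k l : J} (g : j ⟶ k) (h : k ⟶ l) (a : EtCoh.sect (D.obj j) U) :
    EtShriek.sectSupp (D.obj l) U ((D.map (g ≫ h)).hom.app (op U) a) ⊆
      EtShriek.sectSupp (D.obj k) U ((D.map g).hom.app (op U) a) := by
  rw [D.map_comp]
  exact EtShriek.sectSupp_map_subset (D.map h) U _

theorem exists_upper {U : X.Etale} {j : J} (a : EtCoh.sect (D.obj j) U) {κ : Type*} (s : Finset κ) (k : κ → J)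
    (g : ∀ i, j ⟶ k i) :
    ∃ (l : J) (e : j ⟶ l), ∀ i ∈ s, EtShriek.sectSupp (D.obj l) U ((D.map e).hom.app (op U) a) ⊆
      EtShriek.sectSupp (D.obj (k i)) U ((D.map (g i)).hom.app (op U) a) := by
  classical
  induction s using Finset.induction with
  | empty => exact ⟨j, 𝟙 j, fun i hi => absurd hi (Finset.notMem_empty i)⟩
  | insert x s _ ih =>
    obtain ⟨l, e, he⟩ := ih
    obtain ⟨m, p, q, hpq⟩ : ∃ (m : J) (p : l ⟶ m) (q : k x ⟶ m), e ≫ p = g x ≫ q := by
      let m₀ := IsFiltered.max l (k x)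
      let p₀ : l ⟶ m₀ := IsFiltered.leftToMax _ _
      let q₀ : k x ⟶ m₀ := IsFiltered.rightToMax _ _
      refine ⟨IsFiltered.coeq (e ≫ p₀) (g x ≫ q₀), p₀ ≫ IsFiltered.coeqHom _ _,
        q₀ ≫ IsFiltered.coeqHom _ _, ?_⟩
      rw [← Category.assoc, ← Category.assoc]
      exact IsFiltered.coeq_condition _ _
    refine ⟨m, e ≫ p, fun i hi => ?_⟩
    rcases Finset.mem_insert.1 hi with rfl | hi
    · rw [hpq]
      exact supp_anti (g _) q a
    · exact (supp_anti e p a).trans (he i hi)

include hc in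
theorem exists_stage_zero {U : X.Etale} (j : J) (a : EtCoh.sect (D.obj j) U)
    (hcomp : IsCompact (EtShriek.sectSupp (D.obj j) U a)) (h : (c.ι.app j).hom.app (op U) a = 0) :
    ∃ (k : J) (g : j ⟶ k), (D.map g).hom.app (op U) a = 0 := by
  have hpt : ∀ x : U.left, ∃ (k : J) (g : j ⟶ k),
      x ∉ EtShriek.sectSupp (D.obj k) U ((D.map g).hom.app (op U) a) := fun x => by
    obtain ⟨Ω, _, _, ξ, z, rfl⟩ := EtFound.exists_algClosed_point U x
    exact exists_stage_germ_zero hc j a h z
  choose k g hg using hpt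
  obtain ⟨T, hT⟩ := hcomp.elim_finite_subcover
    (fun x => (EtShriek.sectSupp (D.obj (k x)) U ((D.map (g x)).hom.app (op U) a))ᶜ)
    (fun x => (isClosed_supp _).isOpen_compl) fun x _ => Set.mem_iUnion.2 ⟨x, hg x⟩
  obtain ⟨l, e, he⟩ := exists_upper a T k g
  refine ⟨l, e, eq_zero_of_supp_eq_empty (Set.eq_empty_of_forall_notMem fun y hy => ?_)⟩
  obtain ⟨x, hxT, hyx⟩ := Set.mem_iUnion₂.1 (hT (EtShriek.sectSupp_map_subset (D.map e) U a hy))
  exact hyx (he x hxT hy)

variable (f : X ⟶ Y) [IsSeparated f] [LocallyOfFiniteType f]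

include hc in
theorem exists_stage_section {V : Y.Etale} [IsAffine V.left] (t : EtCoh.sect ((sh f).obj c.pt) V) :
    ∃ (j : J) (s : EtCoh.sect ((sh f).obj (D.obj j)) V), ((sh f).map (c.ι.app j)).hom.app (op V) s = t := by
  classical
  let P := (EtCoh.bc f).obj V
  let K : Set P.left := EtShriek.sectSupp c.pt P (val t)
  haveI : IsSeparated (EtShriek.prV f V) :=
    MorphismProperty.pullback_fst (P := @IsSeparated) V.hom f inferInstance
  haveI : LocallyOfFiniteType (EtShriek.prV f V) :=
    MorphismProperty.pullback_fst (P := @LocallyOfFiniteType) V.hom f inferInstance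
  haveI : QuasiSeparatedSpace P.left := quasiSeparatedSpace_of_quasiSeparated (EtShriek.prV f V)
  have hKc : IsCompact K := compact_supp f t
  -- a quasi-compact open around the support
  obtain ⟨O, hOc, hKO⟩ : ∃ O : P.left.Opens, IsCompact (O : Set P.left) ∧ K ⊆ O := by
    choose W hW hxW _ using fun x : P.left => P.left.isBasis_affineOpens.exists_subset_of_mem_open
      (Set.mem_univ x) isOpen_univ
    obtain ⟨T, hT⟩ := hKc.elim_finite_subcover W (fun x => by obtain ⟨O, -, e⟩ := hW x; exact e ▸ O.2)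
      fun x _ => Set.mem_iUnion.2 ⟨x, hxW x⟩
    refine ⟨⟨⋃ x ∈ T, W x, isOpen_biUnion fun x _ => by obtain ⟨O, -, e⟩ := hW x; exact e ▸ O.2⟩,
      T.isCompact_biUnion fun x _ => ?_, hT⟩
    obtain ⟨O, hO, e⟩ := hW x
    exact e ▸ IsAffineOpen.isCompact hO
  let PO := EtFound.restrictEtale P O
  let r : PO ⟶ P := EtFound.restrictEtaleHom P O
  have hPO : EtFound.IsQcqsObj PO :=
    ⟨isCompact_iff_compactSpace.1 hOc, O.ι.isOpenEmbedding.quasiSeparatedSpace⟩
  let e : J ≌ AsSmall.{u + 1} J := AsSmall.equiv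
  haveI : IsFiltered (AsSmall.{u + 1} J) := IsFiltered.of_equivalence e
  haveI := EtFound.preservesColimitsOfShape_sections_qcqs_ab PO hPO (AsSmall.{u + 1} J)
  haveI := preservesColimitsOfShape_of_equiv e.symm
    (sheafToPresheaf X.smallEtaleTopology AddCommGrpCat.{u + 1} ⋙
      (evaluation X.Etaleᵒᵖ AddCommGrpCat.{u + 1}).obj (op PO))
  obtain ⟨j, a, ha⟩ := Concrete.isColimit_exists_rep _
    (isColimitOfPreserves (sheafToPresheaf X.smallEtaleTopology AddCommGrpCat.{u + 1} ⋙
      (evaluation X.Etaleᵒᵖ AddCommGrpCat.{u + 1}).obj (op PO)) hc) (c.pt.obj.map r.op (val t))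
  replace ha : (c.ι.app j).hom.app (op PO) a = c.pt.obj.map r.op (val t) := ha
  let T : (Σ k, j ⟶ k) → Set PO.left := fun p => EtShriek.sectSupp (D.obj p.1) PO ((D.map p.2).hom.app (op PO) a)
  haveI : Nonempty (Σ k, j ⟶ k) := ⟨⟨j, 𝟙 j⟩⟩
  have hcomp : ∀ {k : J} (g : j ⟶ k), (c.ι.app k).hom.app (op PO) ((D.map g).hom.app (op PO) a) =
      (c.ι.app j).hom.app (op PO) a := fun {k} g =>
    congrArg (fun m : D.obj j ⟶ c.pt => m.hom.app (op PO) a) (c.w g)
  have hdir : Directed (fun A B => B ⊆ A) T := fun p q => by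
    obtain ⟨l, e, he⟩ := exists_upper a (Finset.univ (α := Bool)) (fun b => (cond b p q).1) fun b => (cond b p q).2
    exact ⟨⟨l, e⟩, he true (Finset.mem_univ _), he false (Finset.mem_univ _)⟩
  have hsupp : r.left.base ⁻¹' K = EtShriek.sectSupp c.pt PO ((c.ι.app j).hom.app (op PO) a) := by
    rw [ha, supp_map]
  have hK' : Subtype.val '' ⋂ p, T p = K := by
    ext x
    constructor
    · rintro ⟨y, hy, rfl⟩
      show y ∈ r.left.base ⁻¹' K
      rw [hsupp]
      by_contra hn
      obtain ⟨Ω, _, _, ξ, z, rfl⟩ := EtFound.exists_algClosed_point PO y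
      have h0 : germHom c.pt z ((c.ι.app j).hom.app (op PO) a) = 0 := by
        by_contra hne; exact hn ((mem_supp_germHom z _).2 hne)
      obtain ⟨V', g', v', hv', hz'⟩ := ((Scheme.pointSmallEtale ξ).toPresheafFiber_eq_iff' PO z
        ((c.ι.app j).hom.app (op PO) a) 0).1 (h0.trans (map_zero _).symm)
      subst hv'
      rw [map_zero] at hz'
      obtain ⟨k, g, hg⟩ := exists_stage_germ_zero hc j ((D.obj j).obj.map g'.op a)
        ((NatTrans.naturality_apply (c.ι.app j).hom g'.op a).trans hz') v'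
      refine hg ?_
      rw [NatTrans.naturality_apply (D.map g).hom g'.op a, supp_map]
      refine Set.mem_preimage.2 ?_
      rw [← EtFound.ptOf_map g' v']
      exact Set.mem_iInter.1 hy ⟨k, g⟩
    · intro hx
      refine ⟨⟨x, hKO hx⟩, Set.mem_iInter.2 fun p => ?_, rfl⟩
      refine EtShriek.sectSupp_map_subset (c.ι.app p.1) PO _ ?_
      exact (congrArg (fun b => EtShriek.sectSupp c.pt PO b) (hcomp p.2)).ge (hsupp.le hx)
  obtain ⟨⟨k, g⟩, hk⟩ := ProperLimit.exists_isProperOver (EtShriek.prV f V) O hOc T (fun p => isClosed_supp _) hdir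
    (by rw [hK']; exact isProperOver_val t)
  let a' : EtCoh.sect (D.obj k) PO := (D.map g).hom.app (op PO) a
  let Z : Set P.left := Subtype.val '' EtShriek.sectSupp (D.obj k) PO a'
  have hsurj : Z ⊆ Set.range r.left.base := by
    rintro _ ⟨y, -, rfl⟩
    exact ⟨y, rfl⟩
  haveI : Mono r.left := inferInstanceAs (Mono O.ι)
  obtain ⟨s, hs, hsr⟩ := glue_exists r hk.1 hsurj (uniqueLifts_of_mono r Z) a' fun y hy => ⟨y, hy, rfl⟩
  refine ⟨k, mkSec s (QCoh.IsProperOver.subset hk (isClosed_supp _) hs), val_injective ?_⟩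
  rw [val_app, val_mkSec]
  refine glue_unique r hsurj ((EtShriek.sectSupp_map_subset _ _ _).trans hs) (fun x hx => ?_) ?_
  · have hx' : x ∈ Subtype.val '' ⋂ p, T p := hK'.ge hx
    exact Set.image_mono (Set.iInter_subset T ⟨k, g⟩) hx'
  · rw [← NatTrans.naturality_apply (c.ι.app k).hom r.op s, hsr, hcomp g]
    exact ha

theorem preservesColimit (D : J ⥤ EtCoh.Ab X) : PreservesColimit D (sh f) := by
  suffices IsIso (colimit.post D (sh f)) from preservesColimit_of_isIso_post (sh f) D
  refine (EtFound.isIso_iff_stalks _).2 fun Ω _ _ η => (ConcreteCategory.isIso_iff_bijective _).2 ?_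
  have : PreservesColimitsOfSize.{u + 1, u + 1} (EtCoh.stalk η) :=
    (Scheme.pointSmallEtale η).skyscraperSheafAdjunction.leftAdjoint_preservesColimits
  have : PreservesColimitsOfSize.{u, u} (EtCoh.stalk η) := preservesColimitsOfSize_shrink.{u, u + 1, u, u + 1} (EtCoh.stalk η)
  have hs := isColimitOfPreserves (EtCoh.stalk η) (colimit.isColimit (D ⋙ sh f))
  have hpost : ∀ (j : J) (V : Y.Etale) (v : (Scheme.pointSmallEtale η).fiber.obj V)
      (s : EtCoh.sect ((sh f).obj (D.obj j)) V),
      (EtCoh.stalk η).map (colimit.post D (sh f))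
        ((EtCoh.stalk η).map (colimit.ι (D ⋙ sh f) j) (germHom ((sh f).obj (D.obj j)) v s)) =
      germHom ((sh f).obj (colimit D)) v (((sh f).map (colimit.ι D j)).hom.app (op V) s) := by
    intro j V v s
    rw [germHom_app, ← ConcreteCategory.comp_apply, ← Functor.map_comp, colimit.ι_post]
  refine ⟨(injective_iff_map_eq_zero ((EtCoh.stalk η).map (colimit.post D (sh f))).hom).2 fun x hx => ?_, fun p => ?_⟩
  · obtain ⟨j, y, rfl⟩ := Concrete.isColimit_exists_rep _ hs x
    obtain ⟨V, v, s, hV, rfl⟩ := exists_affine_rep ((sh f).obj (D.obj j)) y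
    have hx' : germHom ((sh f).obj (colimit D)) v (((sh f).map (colimit.ι D j)).hom.app (op V) s) = 0 :=
      (hpost j V v s).symm.trans hx
    obtain ⟨W, i, w, hw, hi⟩ := ((Scheme.pointSmallEtale η).toPresheafFiber_eq_iff' V v
      (((sh f).map (colimit.ι D j)).hom.app (op V) s) 0).1 (hx'.trans (map_zero _).symm)
    subst hw
    rw [map_zero] at hi
    obtain ⟨W', w', s', hW', hs'⟩ : ∃ (W' : Y.Etale) (w' : (Scheme.pointSmallEtale η).fiber.obj W')
        (s' : EtCoh.sect ((sh f).obj (D.obj j)) W'), IsAffine W'.left ∧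
        germHom ((sh f).obj (D.obj j)) w' s' = germHom ((sh f).obj (D.obj j)) ((Scheme.pointSmallEtale η).fiber.map i w) s ∧
        ((sh f).map (colimit.ι D j)).hom.app (op W') s' = 0 := by
      let wl : Spec (CommRingCat.of Ω) ⟶ W.left := w.left
      obtain ⟨_, ⟨O, hO, rfl⟩, hvO, -⟩ := W.left.isBasis_affineOpens.exists_subset_of_mem_open
        (Set.mem_univ (wl.base (default : Spec (CommRingCat.of Ω)))) isOpen_univ
      let O' : W.left.Opens := O
      obtain ⟨qv, hqv⟩ := EtFound.exists_lift_open wl O' fun s => by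
        rw [Subsingleton.elim (α := Spec (CommRingCat.of Ω)) s default]; exact hvO
      let w' : (Scheme.pointSmallEtale η).fiber.obj (EtFound.restrictEtale W O') := CategoryTheory.Over.homMk qv
        ((Category.assoc _ _ _).symm.trans ((congrArg (· ≫ W.hom) hqv).trans (CategoryTheory.Over.w w)))
      have hv : (Scheme.pointSmallEtale η).fiber.map (EtFound.restrictEtaleHom W O') w' = w :=
        CategoryTheory.Over.OverMorphism.ext hqv
      refine ⟨EtFound.restrictEtale W O', w', ((sh f).obj (D.obj j)).obj.map (EtFound.restrictEtaleHom W O' ≫ i).op s,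
        hO, ?_, ?_⟩
      · refine ((Scheme.pointSmallEtale η).toPresheafFiber_w_apply _ w' ((sh f).obj (D.obj j)).obj s).trans ?_
        rw [Functor.map_comp, ConcreteCategory.comp_apply, hv]
        rfl
      · rw [NatTrans.naturality_apply ((sh f).map (colimit.ι D j)).hom _ s, op_comp, Functor.map_comp_apply, hi,
          map_zero]
    haveI := hW'
    obtain ⟨k, g, hg⟩ := exists_stage_zero (colimit.isColimit D) j (val s') (compact_supp f s')
      (congrArg val hs'.2)
    have h0 : ((sh f).map (D.map g)).hom.app (op W') s' = 0 := val_injective hg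
    show ((EtCoh.stalk η).mapCocone (colimit.cocone (D ⋙ sh f))).ι.app j (germHom _ _ s) = 0
    rw [← ((EtCoh.stalk η).mapCocone (colimit.cocone (D ⋙ sh f))).w g, ConcreteCategory.comp_apply]
    refine (congrArg (((EtCoh.stalk η).mapCocone (colimit.cocone (D ⋙ sh f))).ι.app k) ?_).trans
      (map_zero (((EtCoh.stalk η).mapCocone (colimit.cocone (D ⋙ sh f))).ι.app k).hom)
    refine (congrArg (((D ⋙ sh f) ⋙ EtCoh.stalk η).map g) hs'.1.symm).trans ?_
    exact (germHom_app ((sh f).map (D.map g)) w' s').symm.trans (by rw [h0, map_zero])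
  · obtain ⟨V, v, t, hV, rfl⟩ := exists_affine_rep ((sh f).obj (colimit D)) p
    haveI := hV
    obtain ⟨j, s, rfl⟩ := exists_stage_section (colimit.isColimit D) f t
    exact ⟨_, hpost j V v s⟩

end Groth.Agent.EtDerLib.ShriekColim
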