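import Groth.Agent.EtShriekLib.Comp
import Groth.Agent.EtShriekLib.Exact

/-!
# Composition of direct images with proper support, compatibly with the inclusions into direct images
-/

set_option autoImplicit false

universe u

open CategoryTheory CategoryTheory.Limits AlgebraicGeometry Opposite

namespace Groth.Agent.EtDerLib

open EtShriekLib

set_option backward.isDefEq.respectTransparency.types false

variable {X Y Z : Scheme.{u}}

theorem lowerShriekToPush_eq (f : X ⟶ Y) [LocallyOfFiniteType f] (F : EtCoh.Ab X) :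
    EtShriek.lowerShriekToPush f F = (shIso f).hom.app F ≫ (shToPush f).app F := by
  refine ((sheafificationAdjunction Y.smallEtaleTopology AddCommGrpCat.{u + 1}).homEquiv_counit _ _ _).trans ?_
  refine ((sheafificationAdjunction Y.smallEtaleTopology AddCommGrpCat.{u + 1}).counit.naturality
    ((shToPush f).app F)).trans ?_
  refine congrArg (· ≫ (shToPush f).app F) ?_
  dsimp [shIso]
  apply Sheaf.hom_ext
  simp [sheafificationNatIso, sheafificationIso]

theorem mono_shToPush (f : X ⟶ Y) [LocallyOfFiniteType f] (F : EtCoh.Ab X) : Mono ((shToPush f).app F) := by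
  have : ∀ V, Mono (((shToPush f).app F).hom.app V) := fun _ =>
    (AddCommGrpCat.mono_iff_injective _).2 val_injective
  have := NatTrans.mono_of_mono_app ((shToPush f).app F).hom
  exact (sheafToPresheaf _ _).mono_of_mono_map this

theorem mono_lowerShriekToPush (f : X ⟶ Y) [LocallyOfFiniteType f] (F : EtCoh.Ab X) :
    Mono (EtShriek.lowerShriekToPush f F) := by
  rw [lowerShriekToPush_eq]
  have := mono_shToPush f F
  infer_instance

theorem lowerShriek_preservesFiniteLimits (f : X ⟶ Y) [LocallyOfFiniteType f] :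
    PreservesFiniteLimits (EtShriek.lowerShriek f) :=
  haveI := sh_preservesFiniteLimits f
  preservesFiniteLimits_of_natIso (shIso f).symm

variable (h : X ⟶ Y) (g : Y ⟶ Z) [LocallyOfFiniteType h] [LocallyOfFiniteType g] [IsSeparated g]

theorem shComp_toPush (F : EtCoh.Ab X) :
    (shComp h g (h ≫ g) rfl).hom.app F ≫ (sh g).map ((shToPush h).app F) ≫
        (shToPush g).app ((EtCoh.push h).obj F) =
      (shToPush (h ≫ g)).app F ≫ (EtCoh.pushComp g h).inv.app F := by
  apply Sheaf.hom_ext
  ext W s
  change val (val (compFun h g (h ≫ g) rfl s)) = _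
  rw [val_val_compFun]
  refine congrArg (fun m => F.obj.map (Quiver.Hom.op m) (val s)) ?_
  refine MorphismProperty.Over.Hom.ext ?_
  apply pullback.hom_ext
  · refine (bcComp_fst h g (h ≫ g) rfl W.unop).trans ?_
    simp [MorphismProperty.Over.pullbackComp]
    exact (pullbackLeftPullbackSndIso_hom_fst _ _ _).symm
  · refine ((isPullback_bc_bc h g (h ≫ g) rfl W.unop).isoPullback_hom_snd).trans ?_
    simp [MorphismProperty.Over.pullbackComp]
    exact (pullbackLeftPullbackSndIso_hom_snd _ _ _).symm

/-- `(h ≫ g)_! ≅ h_! ⋙ g_!` -/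
noncomputable def lowerShriekComp :
    EtShriek.lowerShriek (h ≫ g) ≅ EtShriek.lowerShriek h ⋙ EtShriek.lowerShriek g :=
  shIso (h ≫ g) ≪≫ shComp h g (h ≫ g) rfl ≪≫
    NatIso.ofComponents (fun F => ((sh g).mapIso ((shIso h).symm.app F)) ≪≫ (shIso g).symm.app _)
      (fun {F G} a => by
        dsimp
        rw [← Category.assoc, ← (sh g).map_comp, Category.assoc]
        erw [← (shIso g).inv.naturality, ← Category.assoc, ← (sh g).map_comp, (shIso h).inv.naturality]
        rfl)

theorem lowerShriekComp_toPush (F : EtCoh.Ab X) :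
    (lowerShriekComp h g).hom.app F ≫ (EtShriek.lowerShriek g).map (EtShriek.lowerShriekToPush h F) ≫
        EtShriek.lowerShriekToPush g ((EtCoh.push h).obj F) =
      EtShriek.lowerShriekToPush (h ≫ g) F ≫ (EtCoh.pushComp g h).inv.app F := by
  rw [lowerShriekToPush_eq g, lowerShriekToPush_eq (h ≫ g), lowerShriekToPush_eq h, Category.assoc,
    ← shComp_toPush h g F]
  refine Eq.trans (congrArg (_ ≫ ·) ((shIso g).hom.naturality_assoc _ _)) ?_
  change ((shIso (h ≫ g)).hom.app F ≫ (shComp h g (h ≫ g) rfl).hom.app F ≫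
    (sh g).map ((shIso h).inv.app F) ≫ (shIso g).inv.app _) ≫
      (shIso g).hom.app _ ≫ (sh g).map ((shIso h).hom.app F ≫ (shToPush h).app F) ≫ (shToPush g).app _ = _
  simp only [Category.assoc]
  refine congrArg (_ ≫ ·) (congrArg (_ ≫ ·) ?_)
  erw [Iso.inv_hom_id_app_assoc]
  rw [← Category.assoc, ← Functor.map_comp, Iso.inv_hom_id_app_assoc]

end Groth.Agent.EtDerLib
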