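import Groth.Prelude.Def_Hensel
import Mathlib.FieldTheory.IsSepClosed
import Mathlib.RingTheory.LocalRing.ResidueField.Basic

/-! # Functoriality of strict henselizations -/

set_option autoImplicit false
set_option linter.style.haveILetI false

universe u

open IsLocalRing Polynomial

namespace Groth.Agent.EtDerLib.StrictFunc

/-- The image of a separable closure contains every separable algebraic element. -/
theorem mem_range {k K L : Type u} [Field k] [Field K] [Field L] [Algebra k K] [IsSepClosure k K]
    (τ : K →+* L) (z : L) (p : k[X]) (hsep : p.Separable) (hz : p.eval₂ (τ.comp (algebraMap k K)) z = 0) :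
    z ∈ τ.range := by
  haveI := IsSepClosure.sep_closed k (K := K)
  have hs : (p.map (algebraMap k K)).Splits := IsSepClosed.splits_of_separable _ hsep.map
  have hz' : (p.map (algebraMap k K)).eval₂ τ z = 0 := by rwa [eval₂_map]
  exact hs.mem_range_of_isRoot (i := τ) (Polynomial.map_ne_zero hsep.ne_zero)
    (by rwa [IsRoot, eval_map])

variable {A B A' B' : Type u} [CommRing A] [CommRing B] [CommRing A'] [CommRing B'] [IsLocalRing A] [IsLocalRing B]
  [IsLocalRing A'] [IsLocalRing B'] [Algebra A A'] [Algebra B B'] [IsLocalHom (algebraMap A A')]
  [IsLocalHom (algebraMap B B')]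

/-- A local map extends to strict henselizations. -/
theorem exists_map [Hensel.IsStrictHenselization A A'] [Hensel.IsStrictHenselization B B'] (f : A →+* B)
    [IsLocalHom f] :
    ∃ φ : A' →+* B', IsLocalHom φ ∧ φ.comp (algebraMap A A') = (algebraMap B B').comp f := by
  haveI : HenselianLocalRing B' := Hensel.IsStrictHenselization.henselian B
  haveI := Hensel.IsStrictHenselization.isSepClosure (R := A) (S := A')
  haveI := Hensel.IsStrictHenselization.isSepClosure (R := B) (S := B')
  haveI : IsSepClosed (ResidueField B') := IsSepClosure.sep_closed (ResidueField B)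
  let F : A →+* B' := (algebraMap B B').comp f
  letI : Algebra (ResidueField A) (ResidueField B') := (ResidueField.map F).toAlgebra
  haveI : Algebra.IsSeparable (ResidueField A) (ResidueField A') := IsSepClosure.separable
  let τ : ResidueField A' →ₐ[ResidueField A] ResidueField B' := IsSepClosed.lift
  obtain ⟨φ, ⟨h1, h2⟩, -⟩ := Hensel.IsStrictHenselization.universal (R := A) (S := A') B' F τ.toRingHom
    (RingHom.ext fun c => τ.commutes c)
  refine ⟨φ, ⟨fun a ha => ?_⟩, h1⟩
  by_contra hn
  have : residue B' (φ a) = 0 := by
    rw [h2 a, (residue_eq_zero_iff a).2 hn, map_zero]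
  exact (residue_eq_zero_iff _).1 this ha

/-- A map out of a strict henselization factors through an intermediate one. -/
theorem exists_factor {C C' D' : Type u} [CommRing D'] [CommRing C] [CommRing C'] [IsLocalRing C] [IsLocalRing C'] [Algebra C C']
    [IsLocalHom (algebraMap C C')] [Hensel.IsStrictHenselization A A'] [Hensel.IsStrictHenselization C C']
    [HenselianLocalRing D'] (f : C →+* A) [IsLocalHom f] (φ : A' →+* D') [IsLocalHom φ]
    (θ : C' →+* D') [IsLocalHom θ] (hθ : θ.comp (algebraMap C C') = φ.comp ((algebraMap A A').comp f)) :
    ∃ ψ : C' →+* A', IsLocalHom ψ ∧ ψ.comp (algebraMap C C') = (algebraMap A A').comp f ∧ φ.comp ψ = θ := by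
  haveI : HenselianLocalRing A' := Hensel.IsStrictHenselization.henselian A
  haveI := Hensel.IsStrictHenselization.isSepClosure (R := A) (S := A')
  haveI := Hensel.IsStrictHenselization.isSepClosure (R := C) (S := C')
  haveI : Algebra.IsSeparable (ResidueField C) (ResidueField C') := IsSepClosure.separable
  have hk : (ResidueField.map θ).comp (ResidueField.map (algebraMap C C')) =
      (ResidueField.map φ).comp ((ResidueField.map (algebraMap A A')).comp (ResidueField.map f)) :=
    RingHom.ext fun c => by
      obtain ⟨c, rfl⟩ := residue_surjective c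
      exact congrArg (residue D') congr($hθ c)
  have hrange : ∀ z, ResidueField.map θ z ∈ (ResidueField.map φ).range := fun z => by
    refine mem_range (k := ResidueField A) _ _ ((minpoly (ResidueField C) z).map (ResidueField.map f))
      (Polynomial.Separable.map (Algebra.IsSeparable.isSeparable (ResidueField C) z)) ?_
    rw [eval₂_map]
    have h0 := congrArg (ResidueField.map θ) (minpoly.aeval (ResidueField C) z)
    rw [map_zero, aeval_def, hom_eval₂] at h0
    have : ((ResidueField.map φ).comp (algebraMap (ResidueField A) (ResidueField A'))).comp (ResidueField.map f) =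
        (ResidueField.map θ).comp (algebraMap (ResidueField C) (ResidueField C')) := by
      rw [RingHom.comp_assoc]
      exact hk.symm
    rw [this]
    exact h0
  choose σ hσ using hrange
  let τ : ResidueField C' →+* ResidueField A' :=
    { toFun := σ
      map_one' := (ResidueField.map φ).injective (by rw [hσ, map_one, map_one])
      map_mul' := fun x y => (ResidueField.map φ).injective (by rw [hσ, map_mul, map_mul, hσ, hσ])
      map_zero' := (ResidueField.map φ).injective (by rw [hσ, map_zero, map_zero])
      map_add' := fun x y => (ResidueField.map φ).injective (by rw [hσ, map_add, map_add, hσ, hσ]) }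
  have hτ : ∀ z, ResidueField.map φ (τ z) = ResidueField.map θ z := hσ
  obtain ⟨ψ, ⟨h1, h2⟩, -⟩ := Hensel.IsStrictHenselization.universal (R := C) (S := C') A'
    ((algebraMap A A').comp f) τ (RingHom.ext fun c => (ResidueField.map φ).injective (by
      rw [RingHom.comp_apply, hτ]
      obtain ⟨c, rfl⟩ := residue_surjective c
      exact congr($hk (residue C c))))
  refine ⟨ψ, ⟨fun a ha => ?_⟩, h1, ?_⟩
  · by_contra hn
    have : residue A' (ψ a) = 0 := by
      rw [h2 a, (residue_eq_zero_iff a).2 hn, map_zero]
    exact (residue_eq_zero_iff _).1 this ha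
  · refine (Hensel.IsStrictHenselization.universal (R := C) (S := C') D' (θ.comp (algebraMap C C'))
      (ResidueField.map θ) (RingHom.ext fun c => ?_)).unique ⟨?_, fun x => ?_⟩ ⟨rfl, fun x => rfl⟩
    · obtain ⟨c, rfl⟩ := residue_surjective c
      rfl
    · rw [RingHom.comp_assoc, h1, hθ]
    · show ResidueField.map φ (residue A' (ψ x)) = ResidueField.map θ (residue C' x)
      rw [h2, hτ]

end Groth.Agent.EtDerLib.StrictFunc
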