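import Groth.Agent.GalEt.CdCriterion
import Groth.Prelude.Def_EtDepth

/-!
# Nonvanishing of top cohomology over finite separable extensions
-/

set_option autoImplicit false

universe u

open CategoryTheory CategoryTheory.Limits AlgebraicGeometry Opposite CategoryTheory.Abelian

noncomputable section

namespace Groth.Agent.EtDerLib.TopCd

open GalEt

set_option linter.style.haveILetI false
set_option backward.isDefEq.respectTransparency.types false

/-- `H^m` vanishes on sheaves killed by `p` -/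
def KV (k : Type u) [Field k] (p m : ℕ) : Prop :=
  ∀ G : EtCoh.Ab (Spec (CommRingCat.of k)), IsKilled p G → ∀ x : EtCoh.H (Spec (CommRingCat.of k)) G m, x = 0

theorem KV.finite_ext {k : Type u} [Field k] {p m : ℕ} (h : KV k p m) (L : Type u) [Field L] [Algebra k L]
    [FiniteDimensional k L] [Algebra.IsSeparable k L] : KV L p m := by
  intro G hG x
  let f := specOver k L
  haveI : IsIntegralHom f := isIntegralHom_extObj (k := k) (L := L)
  haveI := EtFound.push_preservesFiniteLimits f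
  haveI := EtFound.push_preservesFiniteColimits f
  haveI := EtFound.pull_preservesFiniteLimits f
  refine eq_zero_of_mk₀_iso_comp (EtCore.pullConst f ℤ) x
    ((EtMVLib.adjExtMap_bijective (EtCoh.pullPushAdj f) _ G m).1 ((h _ (hG.map (EtCoh.push f)) _).trans ?_))
  exact (map_zero _).symm

theorem exists_ne_zero_of_not_KV {k : Type u} [Field k] {p m : ℕ} (h : ¬ KV k p m) :
    ∃ G : EtCoh.Ab (Spec (CommRingCat.of k)), IsKilled p G ∧
      ∃ x : EtCoh.H (Spec (CommRingCat.of k)) G m, x ≠ 0 := by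
  simpa [KV] using h

theorem not_KV_finite_ext {k : Type u} [Field k] {p m : ℕ} [Fact p.Prime] (h : ¬ KV k p m) (L : Type u) [Field L]
    [Algebra k L] [FiniteDimensional k L] [Algebra.IsSeparable k L] (hL : ¬ p ∣ Module.finrank k L) :
    ¬ KV L p m := by
  intro hV
  obtain ⟨G, hG, x, hx⟩ := exists_ne_zero_of_not_KV h
  haveI := EtFound.pull_preservesFiniteLimits (specOver k L)
  have h0 : EtCore.Hpull (specOver k L) G m x = 0 := hV _ (hG.map _) _
  exact hx (eq_zero_of_coprime_smul ((Fact.out : p.Prime).coprime_iff_not_dvd.2 hL) (hG.ext x)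
    (finrank_nsmul_eq_zero (L := L) x ((Hpull_eq_zero_iff (specOver k L) G m x).1 h0)))

theorem exists_zp_ne_zero {k : Type u} [Field k] {p m : ℕ} [Fact p.Prime] (h : ¬ KV k p m) :
    ∃ (L : Type u) (_ : Field L) (_ : Algebra k L) (_ : FiniteDimensional k L) (_ : Algebra.IsSeparable k L)
      (x : EtCoh.H (Spec (CommRingCat.of L)) (EtCoh.const (Spec (CommRingCat.of L)) (ZMod p)) m), x ≠ 0 := by
  by_contra hc
  push Not at hc
  exact h fun G hG x => H_eq_zero_of_killed k p m (fun L _ _ _ _ _ y => hc L _ _ inferInstance inferInstance y) G hG x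

theorem exists_lift {C : Type*} [Category* C] [Abelian C] [HasExt.{u + 1} C] {A : C} {S : ShortComplex C}
    (hS : S.ShortExact) {n : ℕ} (x : Ext A S.X₃ n) (hx : x ≠ 0) (h0 : ∀ z : Ext A S.X₁ (n + 1), z = 0) :
    ∃ y : Ext A S.X₂ n, y ≠ 0 := by
  obtain ⟨y, hy⟩ := Ext.covariant_sequence_exact₃ A hS x rfl (h0 _)
  exact ⟨y, fun h => hx (by rw [← hy, h, Ext.zero_comp])⟩

theorem exists_ne_zero_of_iso {X : Scheme.{u}} {F G : EtCoh.Ab X} (e : F ≅ G) {n : ℕ}
    (h : ∃ x : EtCoh.H X F n, x ≠ 0) : ∃ y : EtCoh.H X G n, y ≠ 0 := by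
  obtain ⟨x, hx⟩ := h
  exact ⟨x.comp (Ext.mk₀ e.hom) (add_zero n), fun h0 => hx (by
    have := congrArg (fun z : EtCoh.H X G n => z.comp (Ext.mk₀ e.inv) (add_zero n)) h0
    simpa using this)⟩

/-- the composite of two extensions -/
def towerIso {k L M : Type u} [Field k] [Field L] [Field M] [Algebra k L] [Algebra L M] [Algebra k M]
    [IsScalarTower k L M] (F : EtCoh.Ab (Spec (CommRingCat.of k))) :
    (EtCoh.pull (specOver L M)).obj ((EtCoh.pull (specOver k L)).obj F) ≅ (EtCoh.pull (specOver k M)).obj F :=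
  ((EtCore.pullComp (specOver L M) (specOver k L)).app F).symm ≪≫ (EtCore.pullCongr (by
    show Spec.map (CommRingCat.ofHom (algebraMap L M)) ≫ Spec.map (CommRingCat.ofHom (algebraMap k L)) =
      Spec.map (CommRingCat.ofHom (algebraMap k M))
    rw [← Spec.map_comp, ← CommRingCat.ofHom_comp, ← IsScalarTower.algebraMap_eq])).app F

set_option maxHeartbeats 1000000 in
theorem exists_ext_ne_zero (p n : ℕ) [Fact p.Prime] (N : ℕ) : ∀ (k : Type u) [Field k], KV k p (n + 1) → ¬ KV k p n →
    ∀ F : EtCoh.Ab (Spec (CommRingCat.of k)), IsKilled p F → ¬ IsZero F →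
      (∀ (Ω : Type u) [Field Ω] [IsSepClosed Ω] (ξ : Spec (CommRingCat.of Ω) ⟶ Spec (CommRingCat.of k)),
        Finite ((EtCoh.stalk ξ).obj F) ∧ Nat.card ((EtCoh.stalk ξ).obj F) ≤ N) →
      ∃ (L : Type u) (_ : Field L) (_ : Algebra k L) (_ : FiniteDimensional k L) (_ : Algebra.IsSeparable k L)
        (x : EtCoh.H (Spec (CommRingCat.of L)) ((EtCoh.pull (specOver k L)).obj F) n), x ≠ 0 := by
  induction N with
  | zero =>
    intro k _ _ _ F hF hz hfin
    exfalso
    obtain ⟨h1, h2⟩ := hfin (SeparableClosure k) (specOver k (SeparableClosure k))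
    exact Nat.card_pos.ne' (Nat.le_zero.1 h2)
  | succ N ih =>
    intro k _ hA hB F hF hz hfin
    obtain ⟨M, _, _, _, _, s, hs⟩ := exists_galois_section F hz
    obtain ⟨L, _, _, _, _, _, _, _, _, hL, hPG⟩ := exists_sylow_field k p M
    let F' := (EtCoh.pull (specOver k L)).obj F
    have hF' : IsKilled p F' := hF.map _
    let c : (EtShriek.compEtale (π (extObj k L))).obj (extObj L M) ≅ extObj k M :=
      MorphismProperty.Over.isoMk (Iso.refl _) (by
        show 𝟙 _ ≫ Spec.map (CommRingCat.ofHom (algebraMap k M)) =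
          Spec.map (CommRingCat.ofHom (algebraMap L M)) ≫ Spec.map (CommRingCat.ofHom (algebraMap k L))
        rw [Category.id_comp, ← Spec.map_comp, ← CommRingCat.ofHom_comp, ← IsScalarTower.algebraMap_eq])
    let s₁ : EtCoh.sect ((EtShriek.restrAlong (π (extObj k L))).obj F) (extObj L M) := F.obj.map c.hom.op s
    let s' : EtCoh.sect F' (extObj L M) := ((restrIso (extObj k L)).hom.app F).hom.app (op (extObj L M)) s₁
    have hs' : s' ≠ 0 := fun h => hs (by
      have h' := congrArg (((restrIso (extObj k L)).inv.app F).hom.app (op (extObj L M))) h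
      have h'' : s₁ = 0 :=
        ((congrArg (fun t : (EtShriek.restrAlong (π (extObj k L))).obj F ⟶ _ => t.hom.app (op (extObj L M)) s₁)
          ((restrIso (extObj k L)).hom_inv_id_app F)).symm.trans (h'.trans (map_zero _)))
      have h3 : F.obj.map c.inv.op (F.obj.map c.hom.op s) = 0 :=
        (congrArg (F.obj.map c.inv.op) h'').trans (map_zero _)
      rw [hom_comp_map F, c.inv_hom_id, id_map] at h3
      exact h3)
    obtain ⟨w, hw⟩ := exists_global_section p F' (sect_nsmul_eq_zero hF') M hPG s' hs'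
    let φ := fromConst p F' w (sect_nsmul_eq_zero hF' _ w)
    haveI : Mono φ := mono_fromConst p F' w _ hw
    let S := ShortComplex.mk φ (cokernel.π φ) (cokernel.condition _)
    have hS : S.ShortExact := { exact := ShortComplex.exact_of_g_is_cokernel _ (cokernelIsCokernel φ) }
    have hA' : KV L p (n + 1) := hA.finite_ext L
    have hB' : ¬ KV L p n := not_KV_finite_ext hB L hL
    by_cases hQ : IsZero (cokernel φ)
    · haveI : Epi φ := Preadditive.epi_of_cokernel_zero (hQ.eq_of_tgt _ _)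
      haveI : IsIso φ := isIso_of_mono_of_epi φ
      obtain ⟨L', _, _, _, _, x, hx⟩ := exists_zp_ne_zero hB'
      letI : Algebra k L' := ((algebraMap L L').comp (algebraMap k L)).toAlgebra
      haveI : IsScalarTower k L L' := IsScalarTower.of_algebraMap_eq fun _ => rfl
      haveI : FiniteDimensional k L' := FiniteDimensional.trans k L L'
      haveI : Algebra.IsSeparable k L' := Algebra.IsSeparable.trans k L L'
      exact ⟨L', inferInstance, inferInstance, inferInstance, inferInstance, exists_ne_zero_of_iso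
        ((EtCore.pullConst (specOver L L') (ZMod p)).symm ≪≫ (EtCoh.pull (specOver L L')).mapIso (asIso φ) ≪≫
          towerIso F) ⟨x, hx⟩⟩
    · have hfin' : ∀ (Ω : Type u) [Field Ω] [IsSepClosed Ω] (ξ : Spec (CommRingCat.of Ω) ⟶ Spec (CommRingCat.of L)),
          Finite ((EtCoh.stalk ξ).obj (cokernel φ)) ∧ Nat.card ((EtCoh.stalk ξ).obj (cokernel φ)) ≤ N := by
        intro Ω _ _ ξ
        obtain ⟨h1, h2⟩ := hfin Ω (ξ ≫ specOver k L)
        let e := ((EtFound.stalkPullIso (specOver k L) ξ).app F).addCommGroupIsoToAddEquiv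
        haveI : Finite ((EtCoh.stalk ξ).obj F') := Finite.of_equiv _ e.symm.toEquiv
        obtain ⟨h3, h4⟩ := card_stalk_cokernel L p φ ξ
        refine ⟨h3, ?_⟩
        have h5 : Nat.card ((EtCoh.stalk ξ).obj F') ≤ N + 1 := (Nat.card_congr e.toEquiv).trans_le h2
        omega
      obtain ⟨L', _, _, _, _, x, hx⟩ := ih L hA' hB' _ (hF'.of_epi (cokernel.π φ)) hQ hfin'
      letI : Algebra k L' := ((algebraMap L L').comp (algebraMap k L)).toAlgebra
      haveI : IsScalarTower k L L' := IsScalarTower.of_algebraMap_eq fun _ => rfl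
      haveI : FiniteDimensional k L' := FiniteDimensional.trans k L L'
      haveI : Algebra.IsSeparable k L' := Algebra.IsSeparable.trans k L L'
      haveI := EtFound.pull_preservesFiniteLimits (specOver L L')
      have hc : IsKilled p (EtCoh.const (Spec (CommRingCat.of L)) (ZMod p)) := by
        rw [IsKilled, ← cancel_mono φ, zero_comp, Preadditive.nsmul_comp, Category.id_comp,
          ← Category.comp_id φ, ← Preadditive.comp_nsmul, show p • 𝟙 F' = 0 from hF', comp_zero]
      exact ⟨L', inferInstance, inferInstance, inferInstance, inferInstance, exists_ne_zero_of_iso (towerIso F)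
        (exists_lift (hS.map_of_exact (EtCoh.pull (specOver L L'))) x hx
          (fun z => (hA'.finite_ext L') _ (hc.map _) z))⟩

variable {X : Scheme.{u}}

theorem hom_eq_zero_of_coprime {ℓ r : ℕ} (h : Nat.Coprime ℓ r) {D F : EtCoh.Ab X} (hF : EtDepth.IsLTorsion ℓ F)
    (a : D ⟶ F) (ha : r • a = 0) : a = 0 := by
  ext U t
  show a.hom.app U t = 0
  have h0 : r • a.hom.app U t = 0 := by
    rw [← hom_app_nsmul a r U.unop t, ha]
    rfl
  refine EtFound.eq_of_cover F _ _ ((EtFound.mem_topology_iff _).2 fun x => ?_)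
  obtain ⟨V, g, ⟨v, hv⟩, b, hb⟩ := hF U.unop (a.hom.app U t) x
  refine ⟨V, g, v, ?_, hv⟩
  show F.obj.map g.op (a.hom.app U t) = F.obj.map g.op 0
  rw [map_zero]
  exact eq_zero_of_coprime_smul (Nat.Coprime.pow_left b h) hb (by rw [← map_nsmul, h0, map_zero])

theorem exists_killed_pow {ℓ : ℕ} (hℓ : ℓ.Prime) {N : ℕ} (hN : N ≠ 0) {D F : EtCoh.Ab X}
    (hF : EtDepth.IsLTorsion ℓ F) (a : D ⟶ F) (ha : N • a = 0) : ∃ b : ℕ, (ℓ ^ b) • a = 0 := by
  obtain ⟨b, r, hr, rfl⟩ := Nat.exists_eq_pow_mul_and_not_dvd hN ℓ hℓ.ne_one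
  refine ⟨b, hom_eq_zero_of_coprime (hℓ.coprime_iff_not_dvd.2 hr) hF _ ?_⟩
  rw [← mul_nsmul]
  exact ha

theorem isLTorsion_of_isKilled {ℓ : ℕ} {G : EtCoh.Ab X} (h : IsKilled ℓ G) : EtDepth.IsLTorsion ℓ G :=
  fun U s x => ⟨U, 𝟙 U, ⟨x, rfl⟩, 1, by rw [pow_one]; exact sect_nsmul_eq_zero h U _⟩

set_option maxHeartbeats 1000000 in
theorem ltorsion_vanish {k : Type u} [Field k] {ℓ q : ℕ} [Fact ℓ.Prime] (hq : KV k ℓ q)
    (F : EtCoh.Ab (Spec (CommRingCat.of k))) (hF : EtDepth.IsLTorsion ℓ F)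
    (x : EtCoh.H (Spec (CommRingCat.of k)) F q) : x = 0 := by
  let X := Spec (CommRingCat.of k)
  have hT : EtCoh.IsTorsion F := fun U s y => by
    obtain ⟨V, g, hv, b, hb⟩ := hF U s y
    exact ⟨V, g, hv, isOfFinAddOrder_iff_nsmul_eq_zero.2 ⟨ℓ ^ b, pow_pos (Fact.out : ℓ.Prime).pos b, hb⟩⟩
  obtain ⟨J, _, _, D, c, hc, ⟨e⟩, hD⟩ := EtPBC63.exists_colimit_constructible F hT
  haveI := EtLC12.QcqsAcyclic.preservesColimitsOfShape_HF X q J
  obtain ⟨j, y, hy⟩ := Concrete.isColimit_exists_rep _ (isColimitOfPreserves (EtCoh.HF X q) hc)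
    ((EtCoh.HF X q).map e.inv x)
  let a : D.obj j ⟶ F := c.ι.app j ≫ e.hom
  obtain ⟨N, hN, hkN⟩ := EtFound.exists_killedBy X (hD j)
  obtain ⟨b, hb⟩ := exists_killed_pow (Fact.out : ℓ.Prime) hN.ne' hF a (by
    rw [← Category.id_comp a, ← Preadditive.nsmul_comp, show N • 𝟙 (D.obj j) = 0 from hkN, zero_comp])
  let G := cokernel (ℓ ^ b • 𝟙 (D.obj j))
  let d : G ⟶ F := cokernel.desc _ a (by rw [Preadditive.nsmul_comp, Category.id_comp, hb])
  have hx : x = (EtCoh.HF X q).map a y := by
    rw [Functor.map_comp, ConcreteCategory.comp_apply]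
    refine Eq.trans ?_ (congrArg ((EtCoh.HF X q).map e.hom) hy).symm
    exact ((EtCoh.HF X q).mapIso e).addCommGroupIsoToAddEquiv.apply_symm_apply x |>.symm
  have hG : (EtCoh.HF X q).map (cokernel.π (ℓ ^ b • 𝟙 (D.obj j))) y = 0 :=
    killed_pow_vanish k hq b G (isKilled_cokernel _ (D.obj j)) _
  rw [hx, show a = cokernel.π (ℓ ^ b • 𝟙 (D.obj j)) ≫ d from (cokernel.π_desc _ _ _).symm, Functor.map_comp,
    ConcreteCategory.comp_apply]
  exact (congrArg _ hG).trans (map_zero _)

theorem not_KV_zero (k : Type u) [Field k] (p : ℕ) [Fact p.Prime] : ¬ KV k p 0 := by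
  intro h
  let X := Spec (CommRingCat.of k)
  let C := EtCoh.const X (ZMod p)
  let w : EtCoh.sect C (EtCoh.top X) := (toSheafify X.smallEtaleTopology ((Functor.const X.Etaleᵒᵖ).obj
    (AddCommGrpCat.of (ULift.{u + 1} (ZMod p))))).app (op (EtCoh.top X)) (ULift.up 1)
  let g : AddCommGrpCat.of (ULift.{u + 1} ℤ) ⟶ C.obj.obj (op (EtCoh.top X)) :=
    AddCommGrpCat.ofHom ((zmultiplesHom _ w).comp AddEquiv.ulift.toAddMonoidHom)
  let y : EtCoh.const X ℤ ⟶ C := ((EtCore.constAdj X).homEquiv _ _).symm g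
  have hC : IsKilled p C := by
    haveI : (EtCore.gsec X).Additive := ⟨fun {_ _ _ _} => rfl⟩
    haveI := (EtCore.constAdj X).left_adjoint_additive
    refine IsKilled.map _ (?_ : IsKilled p (AddCommGrpCat.of (ULift.{u + 1} (ZMod p))))
    refine AddCommGrpCat.ext fun z => ULift.ext _ _ ?_
    show p • z.down = 0
    simp [nsmul_eq_mul]
  have hy : y = 0 := (Ext.mk₀_bijective _ _).1 ((h C hC (Ext.mk₀ y)).trans (Ext.mk₀_zero _ _).symm)
  have hg : g = ((EtCore.constAdj X).homEquiv _ _) 0 := by rw [← hy]; exact (Equiv.apply_symm_apply _ _).symm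
  have hw : w = 0 := by
    have := congrArg (fun m => m.hom (ULift.up 1)) hg
    rw [Adjunction.homEquiv_unit, Functor.map_zero, comp_zero] at this
    exact (one_zsmul w).symm.trans this
  let ξ := specOver k (SeparableClosure k)
  let v : (Scheme.pointSmallEtale ξ).fiber.obj (EtCoh.top X) := CategoryTheory.Over.homMk ξ (Category.comp_id _)
  have := (EtFound.toSheafify_const_germ_bijective ξ AddCommGrpCat.{u + 1}
    (AddCommGrpCat.of (ULift.{u + 1} (ZMod p))) (EtCoh.top X) v).1 (a₁ := ULift.up 1) (a₂ := 0)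
    ((congrArg ((Scheme.pointSmallEtale ξ).toPresheafFiber (EtCoh.top X) v C.obj) hw).trans ((map_zero _).trans ((congrArg _ (map_zero _)).trans (map_zero _)).symm))
  exact one_ne_zero (congrArg ULift.down this)

set_option maxHeartbeats 1000000 in
theorem main (K : Type u) [Field K] (ℓ : ℕ) [Fact ℓ.Prime] (F : EtCoh.Ab (Spec (CommRingCat.of K)))
    (hF : EtDepth.IsLTorsion ℓ F) (hFc : EtPBC.IsConstructible F) (hF0 : ¬ IsZero F) (n : ℕ)
    (hcd : EtDepth.CohDimLLE (Spec (CommRingCat.of K)) ℓ n)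
    (hcd' : ∀ d : ℕ, d < n → ¬ EtDepth.CohDimLLE (Spec (CommRingCat.of K)) ℓ d) :
    ∃ (L : Type u) (_ : Field L) (_ : Algebra K L) (_ : Module.Finite K L) (_ : Algebra.IsSeparable K L),
      Nontrivial (EtCoh.H (Spec (CommRingCat.of L)) ((EtCoh.pull (specOver K L)).obj F) n) := by
  have hA : KV K ℓ (n + 1) := fun G hG x =>
    haveI := hcd G (isLTorsion_of_isKilled hG) (n + 1) n.lt_succ_self
    Subsingleton.elim _ _
  have hB : ¬ KV K ℓ n := by
    cases n with
    | zero => exact not_KV_zero K ℓ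
    | succ m =>
      intro h
      exact hcd' m m.lt_succ_self fun G hG q hq =>
        subsingleton_of_forall_eq 0 fun x => ltorsion_vanish (killed_vanish_mono K h q hq) G hG x
  obtain ⟨N, hN, hkN⟩ := EtFound.exists_killedBy (Spec (CommRingCat.of K)) hFc
  obtain ⟨b, hb⟩ := exists_killed_pow (Fact.out : ℓ.Prime) hN.ne' hF (𝟙 F) hkN
  let f := ℓ • 𝟙 F
  have hfin : ∀ (Ω : Type u) [Field Ω] [IsSepClosed Ω] (ξ : Spec (CommRingCat.of Ω) ⟶ Spec (CommRingCat.of K)),
      Finite ((EtCoh.stalk ξ).obj (cokernel f)) := fun Ω _ _ ξ =>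
    EtFound.finite_stalk_of_isConstructible (EtFound.isConstructible_cokernel _ hFc hFc) ξ
  have hG0 : ¬ IsZero (cokernel f) := by
    intro hz
    haveI : Epi f := Preadditive.epi_of_cokernel_zero (hz.eq_of_tgt _ _)
    haveI : Mono f := (EtFound.mono_iff_stalks f).2 fun Ω _ _ ξ => by
      haveI := EtFound.finite_stalk_of_isConstructible hFc ξ
      exact Finite.injective_iff_surjective.2 ((AddCommGrpCat.epi_iff_surjective _).1 inferInstance)
    haveI : IsIso f := isIso_of_mono_of_epi f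
    apply hF0
    rw [IsZero.iff_id_eq_zero]
    induction b with
    | zero => simpa using hb
    | succ b ih =>
      refine ih ((cancel_mono f).1 ?_)
      rw [zero_comp, Preadditive.nsmul_comp, Category.id_comp, ← mul_nsmul', ← pow_succ]
      exact hb
  let N' := Nat.card ((EtCoh.stalk (specOver K (SeparableClosure K))).obj (cokernel f))
  obtain ⟨L, _, _, _, _, x, hx⟩ := exists_ext_ne_zero ℓ n N' K hA hB (cokernel f) (isKilled_cokernel ℓ F) hG0
    (fun Ω _ _ ξ => by
      obtain ⟨e⟩ := EtFound.nonempty_stalk_equiv (cokernel f) ξ (specOver K (SeparableClosure K))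
        (Subsingleton.elim (α := Spec (CommRingCat.of K)) _ _)
      exact ⟨hfin Ω ξ, (Nat.card_congr e).le⟩)
  haveI := EtFound.pull_preservesFiniteLimits (specOver K L)
  let S := ShortComplex.mk (kernel.ι (cokernel.π f)) (cokernel.π f) (kernel.condition _)
  have hS : S.ShortExact := { exact := ShortComplex.exact_of_f_is_kernel _ (kernelIsKernel (cokernel.π f)) }
  have hk : IsKilled (ℓ ^ b) (kernel (cokernel.π f)) := by
    rw [IsKilled, ← cancel_mono (kernel.ι (cokernel.π f)), zero_comp, Preadditive.nsmul_comp, Category.id_comp,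
      ← Category.comp_id (kernel.ι (cokernel.π f)), ← Preadditive.comp_nsmul, hb, comp_zero]
  obtain ⟨y, hy⟩ := exists_lift (hS.map_of_exact (EtCoh.pull (specOver K L))) x hx
    (fun z => killed_pow_vanish L (hA.finite_ext L) b _ (hk.map _) z)
  exact ⟨L, inferInstance, inferInstance, inferInstance, inferInstance, ⟨⟨y, 0, hy⟩⟩⟩

end Groth.Agent.EtDerLib.TopCd
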