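import Groth.Agent.EtDerLib.TrPoint

/-!
# The finite flat trace commutes with base change
-/

set_option autoImplicit false

universe u

open CategoryTheory CategoryTheory.Limits AlgebraicGeometry Opposite

noncomputable section

namespace Groth.Agent.EtDerLib.TrBC

open EtDual68.FTrace TrPoint

set_option backward.isDefEq.respectTransparency.types false

theorem dimU_iso {Ω : Type u} [Field Ω] {P P' : Scheme.{u}} (g : P ⟶ Spec (CommRingCat.of Ω)) (g' : P' ⟶ Spec (CommRingCat.of Ω))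
    [IsFinite g] [Flat g] [IsFinite g'] [Flat g'] (φ : P' ⟶ P) [IsIso φ] (e : φ ≫ g = g') (U : P.Opens)
    (U' : P'.Opens) (hU : φ ⁻¹ᵁ U = U') : EtDual68.FibreMult.dimU g' U' = EtDual68.FibreMult.dimU g U := by
  have := EtDual68.FibreMult.discreteTopology g
  have hci : IsClosedImmersion U.ι := .of_isPreimmersion _ (by simp [isClosed_discrete])
  haveI : IsFinite (U.ι ≫ g) := MorphismProperty.comp_mem @IsFinite _ _ (inferInstanceAs (IsFinite U.ι)) ‹_›
  haveI : Flat (U.ι ≫ g) := MorphismProperty.comp_mem @Flat _ _ (inferInstanceAs (Flat U.ι)) ‹Flat g›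
  subst hU
  rw [← EtDual68.FibreMult.finrank_ι, ← EtDual68.FibreMult.finrank_ι]
  subst e
  rw [← morphismRestrict_ι_assoc, Scheme.Hom.finrank_comp_left_of_isIso]

variable {X S X' S' : Scheme.{u}} {f : X ⟶ S} {g : S' ⟶ S} {f' : X' ⟶ S'} {g' : X' ⟶ X}

theorem sigma_eq (f : X ⟶ S) [IsFinite f] {Ω : Type u} [Field Ω] [IsAlgClosed Ω]
    {η : Spec (CommRingCat.of Ω) ⟶ S} (z : {ξ : Spec (CommRingCat.of Ω) ⟶ X // ξ ≫ f = η}) (F : EtCoh.Ab S)
    (p : (EtCoh.stalk η).obj (PP f F)) :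
    (sigma f z).app F p =
      ev f z.2 F ((EtFound.pushStalkAt (A := AddCommGrpCat.{u + 1}) f z.2).app ((EtCoh.pull f).obj F) p) := rfl

theorem stalk_push_map (f : X ⟶ S) {Ω : Type u} [Field Ω] [IsSepClosed Ω] {η : Spec (CommRingCat.of Ω) ⟶ S}
    {ξ : Spec (CommRingCat.of Ω) ⟶ X} (hξ : ξ ≫ f = η) {A B : EtCoh.Ab X} (θ : A ⟶ B)
    (q : (EtCoh.stalk η).obj ((EtCoh.push f).obj A)) :
    (EtFound.pushStalkAt (A := AddCommGrpCat.{u + 1}) f hξ).app B ((EtCoh.stalk η).map ((EtCoh.push f).map θ) q) =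
      (EtCoh.stalk ξ).map θ ((EtFound.pushStalkAt (A := AddCommGrpCat.{u + 1}) f hξ).app A q) :=
  ConcreteCategory.congr_hom ((EtFound.pushStalkAt (A := AddCommGrpCat.{u + 1}) f hξ).naturality θ) q

theorem stalk_baseChange0 (f : X ⟶ S) (g : S' ⟶ S) (f' : X' ⟶ S') (g' : X' ⟶ X) (w : g' ≫ f = f' ≫ g)
    (G : EtCoh.Ab X) {Ω : Type u} [Field Ω] [IsSepClosed Ω] {η' : Spec (CommRingCat.of Ω) ⟶ S'}
    {ξ' : Spec (CommRingCat.of Ω) ⟶ X'} (hξ' : ξ' ≫ f' = η') (hξ : (ξ' ≫ g') ≫ f = η' ≫ g)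
    (p : (EtCoh.stalk (η' ≫ g)).obj ((EtCoh.push f).obj G)) :
    (EtFound.pushStalkAt (A := AddCommGrpCat.{u + 1}) f' hξ').app ((EtCoh.pull g').obj G)
        ((EtCoh.stalk η').map (EtCoh.baseChange0 f g f' g' w G)
          ((EtFound.stalkPullIso g η').inv.app ((EtCoh.push f).obj G) p)) =
      (EtFound.stalkPullIso g' ξ').inv.app G ((EtFound.pushStalkAt (A := AddCommGrpCat.{u + 1}) f hξ).app G p) :=
  ConcreteCategory.congr_hom (EtFound.baseChange_stalk (A := AddCommGrpCat.{u + 1}) f g f' g' w G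
    (EtCoh.baseChange0 f g f' g' w G) (EtFound.baseChange0_unit f g f' g' w G) hξ' hξ) p

theorem theta_point {Ω : Type u} [Field Ω] [IsAlgClosed Ω] (w : g' ≫ f = f' ≫ g) (F : EtCoh.Ab S)
    {η' : Spec (CommRingCat.of Ω) ⟶ S'} {ξ' : Spec (CommRingCat.of Ω) ⟶ X'} (hξ' : ξ' ≫ f' = η')
    (hξ : (ξ' ≫ g') ≫ f = η' ≫ g) (q : (EtCoh.stalk (ξ' ≫ g')).obj ((EtCoh.pull f).obj F)) :
    ev f' hξ' ((EtCoh.pull g).obj F)
        ((EtCoh.stalk ξ').map ((EtCore.pullComp g' f).inv.app F ≫ (EtCore.pullCongr w).hom.app F ≫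
          (EtCore.pullComp f' g).hom.app F)
            ((EtFound.stalkPullIso g' ξ').inv.app ((EtCoh.pull f).obj F) q)) =
      (EtFound.stalkPullIso g η').inv.app F (ev f hξ F q) := by
  subst hξ'
  obtain ⟨V, v, b, rfl⟩ := exists_PG f hξ F q
  have e1 : (EtFound.stalkPullIso g' ξ').inv.app ((EtCoh.pull f).obj F) (PG f hξ F v b) =
      PG g' rfl ((EtCoh.pull f).obj F) (EtFound.liftPt f hξ v) (((EtCoh.pullPushAdj f).unit.app F).hom.app (op V) b) := by
    refine Eq.trans ?_ (phi_inv_gm g' ξ' ((EtCoh.pull f).obj F) _ (EtFound.liftPt g' rfl (EtFound.liftPt f hξ v)) _)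
    exact congrArg (fun t => (EtFound.stalkPullIso g' ξ').inv.app ((EtCoh.pull f).obj F)
      (gm ((EtCoh.pull f).obj F) t (((EtCoh.pullPushAdj f).unit.app F).hom.app (op V) b)))
      ((EtFound.bcFiberEquiv g' ξ' _).apply_symm_apply (EtFound.liftPt f hξ v)).symm
  rw [e1, Functor.map_comp, Functor.map_comp, ConcreteCategory.comp_apply, ConcreteCategory.comp_apply,
    PG_comp_inv g' f (η := (ξ' ≫ f') ≫ g) (((Category.assoc ξ' g' f).symm).trans hξ) F v b, PG_congr,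
    PG_comp f' g, ev_PG, ev_PG]
  refine Eq.trans ?_ (congrArg (fun t => (EtFound.stalkPullIso g (ξ' ≫ f')).inv.app F (gm F t b))
    ((EtFound.bcFiberEquiv g (ξ' ≫ f') V).apply_symm_apply v))
  exact (phi_inv_gm g (ξ' ≫ f') F V (EtFound.liftPt g rfl v) b).symm

theorem sigma_bcTheta [IsFinite f] [IsFinite f'] {Ω : Type u} [Field Ω] [IsAlgClosed Ω] (w : g' ≫ f = f' ≫ g)
    (F : EtCoh.Ab S) {η' : Spec (CommRingCat.of Ω) ⟶ S'} (z' : {ξ : Spec (CommRingCat.of Ω) ⟶ X' // ξ ≫ f' = η'})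
    (z : {ξ : Spec (CommRingCat.of Ω) ⟶ X // ξ ≫ f = η' ≫ g}) (hz : z'.1 ≫ g' = z.1)
    (p : (EtCoh.stalk (η' ≫ g)).obj (PP f F)) :
    (sigma f' z').app ((EtCoh.pull g).obj F)
        ((EtCoh.stalk η').map (EtCoh.baseChange0 f g f' g' w ((EtCoh.pull f).obj F) ≫
          (EtCoh.push f').map ((EtCore.pullComp g' f).inv.app F ≫ (EtCore.pullCongr w).hom.app F ≫
            (EtCore.pullComp f' g).hom.app F)) ((EtFound.stalkPullIso g η').inv.app (PP f F) p)) =
      (EtFound.stalkPullIso g η').inv.app F ((sigma f z).app F p) := by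
  obtain ⟨ξ, hξ⟩ := z
  obtain ⟨ξ', hξ'⟩ := z'
  change ξ' ≫ g' = ξ at hz
  subst hz
  rw [sigma_eq, sigma_eq, Functor.map_comp, ConcreteCategory.comp_apply]
  refine (congrArg (ev f' hξ' _) ((stalk_push_map f' hξ' _ _).trans (congrArg ((EtCoh.stalk ξ').map
    ((EtCore.pullComp g' f).inv.app F ≫ (EtCore.pullCongr w).hom.app F ≫ (EtCore.pullComp f' g).hom.app F))
      (stalk_baseChange0 f g f' g' w ((EtCoh.pull f).obj F) hξ' hξ p)))).trans ?_
  exact theta_point w F hξ' hξ _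

theorem mult_pointsEquiv [IsFinite f] [Flat f] [IsFinite f'] [Flat f'] (h : IsPullback g' f' f g)
    {Ω : Type u} [Field Ω] [IsAlgClosed Ω] {η' : Spec (CommRingCat.of Ω) ⟶ S'}
    (z : {ξ : Spec (CommRingCat.of Ω) ⟶ X' // ξ ≫ f' = η'}) :
    EtDual68.FibreMult.mult f' z = EtDual68.FibreMult.mult f (EtFound.pointsEquiv h η' z) := by
  let hpb := (IsPullback.of_hasPullback f' η').paste_horiz h
  let φ := hpb.isoPullback.hom
  refine dimU_iso (pullback.snd f (η' ≫ g)) (pullback.snd f' η') φ hpb.isoPullback_hom_snd _ _ ?_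
  have hp : φ.base (EtDual68.FibreMult.pt f' z) = EtDual68.FibreMult.pt f (EtFound.pointsEquiv h η' z) := by
    refine (Scheme.Hom.comp_apply _ φ default).symm.trans ?_
    refine congrArg (fun m : Spec (CommRingCat.of Ω) ⟶ pullback f (η' ≫ g) => m.base default) ?_
    refine pullback.hom_ext ?_ ?_
    · refine ((Category.assoc _ _ _).trans (congrArg (_ ≫ ·) hpb.isoPullback_hom_fst)).trans ?_
      refine ((Category.assoc _ _ _).symm.trans (congrArg (· ≫ g') (pullback.lift_fst _ _ _))).trans ?_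
      exact (pullback.lift_fst _ _ _).symm
    · refine ((Category.assoc _ _ _).trans (congrArg (_ ≫ ·) hpb.isoPullback_hom_snd)).trans ?_
      exact (pullback.lift_snd _ _ _).trans (pullback.lift_snd _ _ _).symm
  refine TopologicalSpace.Opens.ext (Set.ext fun x => ?_)
  change φ.base x = EtDual68.FibreMult.pt f (EtFound.pointsEquiv h η' z) ↔ x = EtDual68.FibreMult.pt f' z
  rw [← hp]
  exact (Scheme.Hom.homeomorph φ).injective.eq_iff

theorem stalk_bcTheta [IsFinite f] [Flat f] [LocallyOfFinitePresentation f]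
    [IsFinite f'] [Flat f'] [LocallyOfFinitePresentation f'] (h : IsPullback g' f' f g) (F : EtCoh.Ab S)
    {Ω : Type u} [Field Ω] [IsAlgClosed Ω] (η' : Spec (CommRingCat.of Ω) ⟶ S')
    (p : (EtCoh.stalk (η' ≫ g)).obj (PP f F)) :
    (trStalk f' η').app ((EtCoh.pull g).obj F)
        ((EtCoh.stalk η').map (EtCoh.baseChange0 f g f' g' h.w ((EtCoh.pull f).obj F) ≫
          (EtCoh.push f').map ((EtCore.pullComp g' f).inv.app F ≫ (EtCore.pullCongr h.w).hom.app F ≫
            (EtCore.pullComp f' g).hom.app F)) ((EtFound.stalkPullIso g η').inv.app (PP f F) p)) =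
      (EtFound.stalkPullIso g η').inv.app F ((trStalk f (η' ≫ g)).app F p) := by
  haveI := EtFound.finite_points f' η'
  haveI := EtFound.finite_points f (η' ≫ g)
  letI := Fintype.ofFinite {ξ : Spec (CommRingCat.of Ω) ⟶ X' // ξ ≫ f' = η'}
  letI := Fintype.ofFinite {ξ : Spec (CommRingCat.of Ω) ⟶ X // ξ ≫ f = η' ≫ g}
  rw [trStalk_apply, trStalk_apply, map_sum]
  refine Fintype.sum_equiv (EtFound.pointsEquiv h η') _ _ fun z => ?_
  rw [map_nsmul, mult_pointsEquiv h, sigma_bcTheta h.w F z (EtFound.pointsEquiv h η' z) rfl p]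

theorem bc [IsFinite f] [Flat f] [LocallyOfFinitePresentation f]
    [IsFinite f'] [Flat f'] [LocallyOfFinitePresentation f'] (h : IsPullback g' f' f g) (F : EtCoh.Ab S) :
    EtCoh.baseChange0 f g f' g' h.w ((EtCoh.pull f).obj F) ≫
        (EtCoh.push f').map ((EtCore.pullComp g' f).inv.app F ≫ (EtCore.pullCongr h.w).hom.app F ≫
          (EtCore.pullComp f' g).hom.app F) ≫ (tr f').app ((EtCoh.pull g).obj F) =
      (EtCoh.pull g).map ((tr f).app F) := by
  rw [← Category.assoc]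
  refine EtFound.eq_of_stalks _ _ fun k _ _ ξ => ?_
  let Ω := AlgebraicClosure k
  let l : Spec (CommRingCat.of Ω) ⟶ Spec (CommRingCat.of k) := Spec.map (CommRingCat.ofHom (algebraMap k Ω))
  apply (cancel_mono ((EtFound.stalkExtIso AddCommGrpCat.{u + 1} ξ l).hom.app _)).1
  rw [NatTrans.naturality, NatTrans.naturality]
  refine congrArg (_ ≫ ·) (ConcreteCategory.hom_ext _ _ fun q => ?_)
  obtain ⟨p, rfl⟩ : ∃ p, (EtFound.stalkPullIso g (l ≫ ξ)).inv.app (PP f F) p = q :=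
    ((ConcreteCategory.isIso_iff_bijective _).1
      (inferInstanceAs (IsIso ((EtFound.stalkPullIso g (l ≫ ξ)).inv.app (PP f F))))).2 q
  rw [Functor.map_comp, ConcreteCategory.comp_apply]
  refine (ConcreteCategory.congr_hom (stalk_tr f' (η := l ≫ ξ) _) _).trans ((stalk_bcTheta h F (l ≫ ξ) p).trans ?_)
  refine Eq.trans ?_ (ConcreteCategory.congr_hom ((EtFound.stalkPullIso g (l ≫ ξ)).inv.naturality ((tr f).app F)) p)
  exact congrArg _ (ConcreteCategory.congr_hom (stalk_tr f (η := (l ≫ ξ) ≫ g) F) p).symm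

end Groth.Agent.EtDerLib.TrBC
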