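import Groth.Agent.EtDual68.FibreMult
import Mathlib.RingTheory.LocalRing.Module

/-!
# Multiplicativity of ranks of finite flat morphisms
-/

set_option autoImplicit false

universe u

open CategoryTheory CategoryTheory.Limits AlgebraicGeometry Opposite

namespace Groth.Agent.EtDerLib.TrMul

open EtDual68.FibreMult

set_option backward.isDefEq.respectTransparency.types false

theorem finrank_comp_of_subsingleton {Ω : Type u} [Field Ω] {A B : Scheme.{u}} (f : A ⟶ B) [IsFinite f] [Flat f]
    (g : B ⟶ Spec (CommRingCat.of Ω)) [IsFinite g] [Flat g] [Subsingleton B] [IsFinite (f ≫ g)] [Flat (f ≫ g)]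
    (b : B) :
    (f ≫ g).finrank (default : Spec (CommRingCat.of Ω)) =
      f.finrank b * g.finrank (default : Spec (CommRingCat.of Ω)) := by
  have : IsAffine B := isAffine_of_isAffineHom g
  have : IsAffine A := isAffine_of_isAffineHom f
  let φ := f.appTop
  have sq : IsPullback A.isoSpec.inv (Spec.map φ) f B.isoSpec.inv :=
    IsPullback.of_horiz_isIso ⟨by rw [Scheme.isoSpec_inv_naturality]⟩
  haveI : IsFinite (Spec.map φ) := MorphismProperty.of_isPullback (P := @IsFinite) sq ‹_›
  haveI : Flat (Spec.map φ) := MorphismProperty.of_isPullback (P := @Flat) sq ‹_›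
  have h1 : φ.hom.Finite := (IsFinite.SpecMap_iff _).1 ‹_›
  have h2 : φ.hom.Flat := Flat.SpecMap_iff.1 ‹_›
  haveI : Subsingleton ↥(Spec Γ(B, ⊤)) := B.isoSpec.inv.homeomorph.injective.subsingleton
  have : Nonempty B := ⟨b⟩
  have hfr : f.finrank b = φ.hom.finrank (B.isoSpec.hom b) := by
    rw [← congrFun (Scheme.Hom.finrank_SpecMap_eq_finrank h1 h2)]
    refine ((congrArg f.finrank ?_).trans (Scheme.Hom.finrank_of_isPullback _ _ _ _ sq _).symm)
    rw [← Scheme.Hom.comp_apply, Iso.hom_inv_id]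
    rfl
  rw [← dimU_top (f ≫ g), ← dimU_top g, hfr]
  let R := Γ(B, ⊤)
  haveI : Nontrivial R := PrimeSpectrum.nontrivial (B.isoSpec.hom b : PrimeSpectrum R)
  haveI : Subsingleton (PrimeSpectrum R) := inferInstanceAs (Subsingleton ↥(Spec Γ(B, ⊤)))
  haveI : Subsingleton (MaximalSpectrum R) := MaximalSpectrum.toPrimeSpectrum_injective.subsingleton
  haveI : IsLocalRing R :=
    IsLocalRing.of_singleton_maximalSpectrum (R := R)
  letI : Algebra R Γ(A, ⊤) := φ.hom.toAlgebra
  haveI : Module.Finite R Γ(A, ⊤) := h1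
  haveI : Module.Flat R Γ(A, ⊤) := h2
  haveI : Module.Free R Γ(A, ⊤) := Module.free_of_flat_of_isLocalRing
  have h3 : φ.hom.finrank (B.isoSpec.hom b) = Module.finrank R Γ(A, ⊤) := by
    rw [← RingHom.algebraMap_toAlgebra φ.hom, RingHom.finrank_algebraMap]
    exact congrFun (Module.rankAtStalk_eq_finrank_of_free (R := R) (M := Γ(A, ⊤))) _
  rw [h3, mul_comm]
  letI : Algebra Ω R := (str g ⊤).hom.toAlgebra
  letI : Algebra Ω Γ(A, ⊤) := (str (f ≫ g) ⊤).hom.toAlgebra
  haveI : IsScalarTower Ω R Γ(A, ⊤) := IsScalarTower.of_algebraMap_eq fun c => by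
    change (str (f ≫ g) ⊤).hom c = φ.hom ((str g ⊤).hom c)
    rw [str_top, str_top, Scheme.Hom.comp_appTop]
    rfl
  exact (Module.finrank_mul_finrank Ω R Γ(A, ⊤)).symm

end Groth.Agent.EtDerLib.TrMul
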