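import Groth.Agent.EtDerLib.TrBC
import Groth.Agent.EtDerLib.TrMul

/-!
# The finite flat trace of a composite
-/

set_option autoImplicit false

universe u

open CategoryTheory CategoryTheory.Limits AlgebraicGeometry Opposite

noncomputable section

namespace Groth.Agent.EtDerLib.TrComp

open EtDual68.FTrace TrPoint

set_option linter.style.haveILetI false
set_option backward.isDefEq.respectTransparency.types false

variable {X Y S : Scheme.{u}} (h : X ⟶ Y) (g : Y ⟶ S)

theorem stalk_pushComp {Ω : Type u} [Field Ω] [IsSepClosed Ω] {η : Spec (CommRingCat.of Ω) ⟶ S}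
    {τ : Spec (CommRingCat.of Ω) ⟶ X} {y : Spec (CommRingCat.of Ω) ⟶ Y} (hh : τ ≫ h = y) (hg : y ≫ g = η)
    (hhg : τ ≫ h ≫ g = η) (G : EtCoh.Ab X) (q : (EtCoh.stalk η).obj ((EtCoh.push (h ≫ g)).obj G)) :
    (EtFound.pushStalkAt (A := AddCommGrpCat.{u + 1}) h hh).app G
      ((EtFound.pushStalkAt (A := AddCommGrpCat.{u + 1}) g hg).app ((EtCoh.push h).obj G)
        ((EtCoh.stalk η).map ((EtCoh.pushComp g h).inv.app G) q)) =
      (EtFound.pushStalkAt (A := AddCommGrpCat.{u + 1}) (h ≫ g) hhg).app G q := by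
  obtain ⟨V, v, s, rfl⟩ := (Scheme.pointSmallEtale η).toPresheafFiber_jointly_surjective q
  let e := (MorphismProperty.Over.pullbackComp (P := EtCoh.etaleMP) (Q := ⊤) h g).app V
  let s' : EtCoh.sect G ((EtCoh.bc h).obj ((EtCoh.bc g).obj V)) :=
    ((EtCoh.pushComp g h).inv.app G).hom.app (op V) s
  have hs : s' = G.obj.map e.inv.op s := by
    simp [s', e, EtCoh.pushComp]
    rfl
  refine (congrArg ((EtFound.pushStalkAt (A := AddCommGrpCat.{u + 1}) h hh).app G)
    ((congrArg ((EtFound.pushStalkAt (A := AddCommGrpCat.{u + 1}) g hg).app ((EtCoh.push h).obj G))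
      (gm_app ((EtCoh.pushComp g h).inv.app G) v s)).trans
        (EtFound.pushStalkAt_germ_apply g hg ((EtCoh.push h).obj G) v s'))).trans ?_
  refine (EtFound.pushStalkAt_germ_apply h hh G (EtFound.liftPt g hg v) s').trans ?_
  refine Eq.trans ?_ (EtFound.pushStalkAt_germ_apply (h ≫ g) hhg G v s).symm
  rw [hs]
  refine ((Scheme.pointSmallEtale τ).toPresheafFiber_w_apply e.inv (EtFound.liftPt h hh (EtFound.liftPt g hg v)) G.obj s).trans ?_
  refine congrArg (fun w => (Scheme.pointSmallEtale τ).toPresheafFiber ((EtCoh.bc (h ≫ g)).obj V) w G.obj s) ?_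
  apply CategoryTheory.Over.OverMorphism.ext
  refine pullback.hom_ext ?_ ?_
  · refine Eq.trans ?_ (pullback.lift_fst _ _ _).symm
    have h2 : e.inv.left ≫ pullback.fst V.hom (h ≫ g) =
        pullback.fst ((EtCoh.bc g).obj V).hom h ≫ pullback.fst V.hom g := by
      refine (congrArg (e.inv.left ≫ ·)
        (MorphismProperty.Over.pullbackComp_left_fst_fst (P := EtCoh.etaleMP) (Q := ⊤) h g V).symm).trans ?_
      exact (Category.assoc _ _ _).symm.trans ((congrArg (· ≫ _) (congr(($(e.inv_hom_id)).left))).trans (Category.id_comp _))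
    refine (Category.assoc _ _ _).trans ((congrArg (_ ≫ ·) h2).trans ?_)
    refine (Category.assoc _ _ _).symm.trans ?_
    exact (congrArg (· ≫ pullback.fst V.hom g) (pullback.lift_fst _ _ _)).trans (pullback.lift_fst _ _ _)
  · refine Eq.trans ?_ (pullback.lift_snd _ _ _).symm
    refine (Category.assoc _ _ _).trans ((congrArg (_ ≫ ·) (MorphismProperty.Over.w e.inv)).trans ?_)
    exact pullback.lift_snd _ _ _

theorem ev_comp {Ω : Type u} [Field Ω] [IsSepClosed Ω] {η : Spec (CommRingCat.of Ω) ⟶ S}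
    {τ : Spec (CommRingCat.of Ω) ⟶ X} {y : Spec (CommRingCat.of Ω) ⟶ Y} (hh : τ ≫ h = y) (hg : y ≫ g = η)
    (hhg : τ ≫ h ≫ g = η) (F : EtCoh.Ab S) (q : (EtCoh.stalk τ).obj ((EtCoh.pull (h ≫ g)).obj F)) :
    ev g hg F (ev h hh ((EtCoh.pull g).obj F) ((EtCoh.stalk τ).map ((EtCore.pullComp h g).hom.app F) q)) =
      ev (h ≫ g) hhg F q := by
  subst hh
  obtain ⟨V, v, b, rfl⟩ := exists_PG (h ≫ g) hhg F q
  rw [PG_comp h g hhg, ev_PG, ev_PG]
  exact ev_PG g hg F v b

section Mult

variable [IsFinite h] [Flat h] [IsFinite g] [Flat g] [IsFinite (h ≫ g)] [Flat (h ≫ g)]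
  {Ω : Type u} [Field Ω] [IsAlgClosed Ω] {η : Spec (CommRingCat.of Ω) ⟶ S}

open EtDual68.FibreMult in
theorem mult_comp (x : {ξ : Spec (CommRingCat.of Ω) ⟶ X // ξ ≫ h ≫ g = η})
    (y : {ξ : Spec (CommRingCat.of Ω) ⟶ Y // ξ ≫ g = η}) (hxy : x.1 ≫ h = y.1) :
    mult (h ≫ g) x = mult h (η := y.1) ⟨x.1, hxy⟩ * mult g y := by
  let P := pullback (h ≫ g) η
  let Q := pullback g η
  let hQ : P ⟶ Q := pullback.lift (pullback.fst (h ≫ g) η ≫ h) (pullback.snd (h ≫ g) η)
    (by rw [Category.assoc]; exact pullback.condition)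
  have hQs : hQ ≫ pullback.snd g η = pullback.snd (h ≫ g) η := pullback.lift_snd _ _ _
  have sqh : IsPullback (pullback.fst (h ≫ g) η) hQ h (pullback.fst g η) := by
    refine IsPullback.of_bot ?_ (pullback.lift_fst _ _ _).symm (IsPullback.of_hasPullback g η)
    rw [hQs]
    exact IsPullback.of_hasPullback (h ≫ g) η
  haveI : IsFinite hQ := MorphismProperty.of_isPullback (P := @IsFinite) sqh ‹_›
  haveI : Flat hQ := MorphismProperty.of_isPullback (P := @Flat) sqh ‹_›
  have := discreteTopology (pullback.snd (h ≫ g) η)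
  have := discreteTopology (pullback.snd g η)
  let U : P.Opens := ptOpen (h ≫ g) x
  let W : Q.Opens := ptOpen g y
  have hUci : IsClosedImmersion U.ι := .of_isPreimmersion _ (by simp [isClosed_discrete])
  have hWci : IsClosedImmersion W.ι := .of_isPreimmersion _ (by simp [isClosed_discrete])
  haveI : IsFinite (U.ι ≫ hQ) := MorphismProperty.comp_mem @IsFinite _ _ (inferInstanceAs (IsFinite U.ι)) ‹_›
  haveI : Flat (U.ι ≫ hQ) := MorphismProperty.comp_mem @Flat _ _ (inferInstanceAs (Flat U.ι)) ‹Flat hQ›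
  let ly : Spec (CommRingCat.of Ω) ⟶ Q := pullback.lift y.1 (𝟙 _) (y.2.trans (Category.id_comp η).symm)
  have hpt : hQ.base (pt (h ≫ g) x) = pt g y := by
    refine (Scheme.Hom.comp_apply _ hQ default).symm.trans ?_
    refine congrArg (fun m : Spec (CommRingCat.of Ω) ⟶ Q => m.base default) ?_
    refine pullback.hom_ext ?_ ?_
    · refine ((Category.assoc _ _ _).trans (congrArg (_ ≫ ·) (pullback.lift_fst _ _ _))).trans ?_
      refine ((Category.assoc _ _ _).symm.trans (congrArg (· ≫ h) (pullback.lift_fst _ _ _))).trans ?_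
      exact hxy.trans (pullback.lift_fst _ _ _).symm
    · refine ((Category.assoc _ _ _).trans (congrArg (_ ≫ ·) hQs)).trans ?_
      exact (pullback.lift_snd _ _ _).trans (pullback.lift_snd _ _ _).symm
  have hsub : ∀ u : U.toScheme, u.1 = pt (h ≫ g) x := fun u => u.2
  let h' : U.toScheme ⟶ W.toScheme := IsOpenImmersion.lift W.ι (U.ι ≫ hQ) (by
    rintro _ ⟨u, rfl⟩
    rw [Scheme.Opens.range_ι]
    change (U.ι ≫ hQ).base u = pt g y
    rw [Scheme.Hom.comp_apply]
    exact (congrArg hQ.base (hsub u)).trans hpt)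
  have hh' : h' ≫ W.ι = U.ι ≫ hQ := IsOpenImmersion.lift_fac _ _ _
  have sqW : IsPullback (𝟙 _) h' (U.ι ≫ hQ) W.ι := by
    refine IsPullback.of_isLimit' ⟨by rw [Category.id_comp, hh']⟩
      (PullbackCone.IsLimit.mk _ (fun s => s.fst) (fun s => Category.comp_id _) (fun s => ?_)
        (fun s m hm _ => (Category.comp_id m).symm.trans hm))
    refine (cancel_mono W.ι).1 ?_
    rw [Category.assoc, hh']
    exact s.condition
  haveI : IsFinite h' := MorphismProperty.of_isPullback (P := @IsFinite) sqW ‹_›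
  haveI : Flat h' := MorphismProperty.of_isPullback (P := @Flat) sqW ‹_›
  haveI : IsFinite (W.ι ≫ pullback.snd g η) :=
    MorphismProperty.comp_mem @IsFinite _ _ (inferInstanceAs (IsFinite W.ι)) inferInstance
  haveI : Flat (W.ι ≫ pullback.snd g η) :=
    MorphismProperty.comp_mem @Flat _ _ (inferInstanceAs (Flat W.ι)) (inferInstance : Flat (pullback.snd g η))
  haveI : Subsingleton W.toScheme := ⟨fun a b => Subtype.ext (a.2.trans b.2.symm)⟩
  have ecomp : h' ≫ W.ι ≫ pullback.snd g η = U.ι ≫ pullback.snd (h ≫ g) η := by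
    rw [← Category.assoc, hh', Category.assoc, hQs]
  haveI : IsFinite (h' ≫ W.ι ≫ pullback.snd g η) := inferInstance
  haveI : Flat (h' ≫ W.ι ≫ pullback.snd g η) := inferInstance
  let w : W.toScheme := ⟨pt g y, rfl⟩
  have e1 : mult (h ≫ g) x = h'.finrank w * mult g y := by
    rw [mult, mult, ← finrank_ι, ← finrank_ι, ← TrMul.finrank_comp_of_subsingleton h' (W.ι ≫ pullback.snd g η) w,
      ecomp]
  rw [e1]
  refine congrArg (· * _) ?_
  let φ : pullback h y.1 ⟶ P := pullback.lift (pullback.fst h y.1) (pullback.snd h y.1)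
    (by rw [← Category.assoc, pullback.condition, Category.assoc, y.2])
  have sqφ : IsPullback φ (pullback.snd h y.1) hQ ly := by
    refine IsPullback.of_right ?_ ?_ sqh
    · rw [pullback.lift_fst, pullback.lift_fst]
      exact IsPullback.of_hasPullback h y.1
    · refine pullback.hom_ext ?_ ?_
      · rw [Category.assoc, Category.assoc, pullback.lift_fst, pullback.lift_fst, ← Category.assoc, pullback.lift_fst,
          pullback.condition]
      · rw [Category.assoc, Category.assoc, hQs, pullback.lift_snd, pullback.lift_snd, Category.comp_id]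
  have hU : φ ⁻¹ᵁ U = ptOpen h (η := y.1) ⟨x.1, hxy⟩ := by
    have hp : ∀ z : {ξ : Spec (CommRingCat.of Ω) ⟶ X // ξ ≫ h = y.1},
        φ.base (pt h z) = pt (h ≫ g) ⟨z.1, by rw [← Category.assoc, z.2, y.2]⟩ := fun z => by
      refine (Scheme.Hom.comp_apply _ φ default).symm.trans ?_
      refine congrArg (fun m : Spec (CommRingCat.of Ω) ⟶ P => m.base default) ?_
      refine pullback.hom_ext ?_ ?_
      · refine ((Category.assoc _ _ _).trans (congrArg (_ ≫ ·) (pullback.lift_fst _ _ _))).trans ?_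
        exact (pullback.lift_fst _ _ _).trans (pullback.lift_fst _ _ _).symm
      · refine ((Category.assoc _ _ _).trans (congrArg (_ ≫ ·) (pullback.lift_snd _ _ _))).trans ?_
        exact (pullback.lift_snd _ _ _).trans (pullback.lift_snd _ _ _).symm
    refine TopologicalSpace.Opens.ext (Set.ext fun p => ?_)
    obtain ⟨z, rfl⟩ := pt_surjective h p
    change φ.base (pt h z) = pt (h ≫ g) x ↔ pt h z = pt h _
    rw [hp z, (pt_injective (h ≫ g)).eq_iff, (pt_injective h).eq_iff, Subtype.ext_iff, Subtype.ext_iff]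
  rw [mult, ← finrank_ι, ← hU,
    Scheme.Hom.finrank_of_isPullback _ _ _ _ ((isPullback_morphismRestrict φ U).paste_vert sqφ),
    Scheme.Hom.finrank_of_isPullback _ _ _ _ sqW]
  rfl

end Mult

variable [IsFinite h] [Flat h] [LocallyOfFinitePresentation h]
  [IsFinite g] [Flat g] [LocallyOfFinitePresentation g]
  [IsFinite (h ≫ g)] [Flat (h ≫ g)] [LocallyOfFinitePresentation (h ≫ g)]

theorem stalk_comp {Ω : Type u} [Field Ω] [IsAlgClosed Ω] (η : Spec (CommRingCat.of Ω) ⟶ S) (F : EtCoh.Ab S)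
    (q : (EtCoh.stalk η).obj (PP (h ≫ g) F)) :
    (trStalk g η).app F ((EtCoh.stalk η).map ((EtCoh.push g).map ((tr h).app ((EtCoh.pull g).obj F)))
      ((EtCoh.stalk η).map ((EtCoh.pushComp g h).inv.app ((EtCoh.pull h).obj ((EtCoh.pull g).obj F)))
        ((EtCoh.stalk η).map ((EtCoh.push (h ≫ g)).map ((EtCore.pullComp h g).hom.app F)) q))) =
      (trStalk (h ≫ g) η).app F q := by
  classical
  haveI := EtFound.finite_points g η
  haveI := EtFound.finite_points (h ≫ g) η
  haveI := fun y : Spec (CommRingCat.of Ω) ⟶ Y => EtFound.finite_points h y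
  letI := Fintype.ofFinite {ξ : Spec (CommRingCat.of Ω) ⟶ Y // ξ ≫ g = η}
  letI := Fintype.ofFinite {ξ : Spec (CommRingCat.of Ω) ⟶ X // ξ ≫ h ≫ g = η}
  letI := fun y : Spec (CommRingCat.of Ω) ⟶ Y => Fintype.ofFinite {ξ : Spec (CommRingCat.of Ω) ⟶ X // ξ ≫ h = y}
  rw [trStalk_apply, trStalk_apply]
  let E : (Σ y : {ξ : Spec (CommRingCat.of Ω) ⟶ Y // ξ ≫ g = η}, {ξ : Spec (CommRingCat.of Ω) ⟶ X // ξ ≫ h = y.1}) ≃
      {ξ : Spec (CommRingCat.of Ω) ⟶ X // ξ ≫ h ≫ g = η} :=
    { toFun := fun p => ⟨p.2.1, by rw [← Category.assoc, p.2.2, p.1.2]⟩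
      invFun := fun x => ⟨⟨x.1 ≫ h, (Category.assoc _ _ _).trans x.2⟩, ⟨x.1, rfl⟩⟩
      left_inv := by
        rintro ⟨⟨y, hy⟩, x, hx⟩
        change x ≫ h = y at hx
        subst hx
        rfl
      right_inv := fun _ => rfl }
  rw [← E.sum_comp, Fintype.sum_sigma]
  refine Finset.sum_congr rfl fun y _ => ?_
  rw [TrBC.sigma_eq, TrBC.stalk_push_map, stalk_tr, trStalk_apply, map_sum, Finset.smul_sum]
  refine Finset.sum_congr rfl fun x _ => ?_
  rw [map_nsmul, smul_smul, mul_comm, mult_comp h g (E ⟨y, x⟩) y x.2]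
  refine congrArg (_ • ·) ?_
  rw [TrBC.sigma_eq, TrBC.sigma_eq]
  have e1 := (stalk_pushComp h g x.2 y.2 (E ⟨y, x⟩).2 ((EtCoh.pull h).obj ((EtCoh.pull g).obj F))
      ((EtCoh.stalk η).map ((EtCoh.push (h ≫ g)).map ((EtCore.pullComp h g).hom.app F)) q)).trans
    (TrBC.stalk_push_map (h ≫ g) (E ⟨y, x⟩).2 ((EtCore.pullComp h g).hom.app F) q)
  refine Eq.trans (congrArg (ev g y.2 F) (congrArg (ev h x.2 ((EtCoh.pull g).obj F)) e1)) ?_
  exact ev_comp h g x.2 y.2 (E ⟨y, x⟩).2 F _

theorem comp (F : EtCoh.Ab S) :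
    (tr (h ≫ g)).app F =
      (EtCoh.push (h ≫ g)).map ((EtCore.pullComp h g).hom.app F) ≫
        (EtCoh.pushComp g h).inv.app ((EtCoh.pull h).obj ((EtCoh.pull g).obj F)) ≫
        (EtCoh.push g).map ((tr h).app ((EtCoh.pull g).obj F)) ≫ (tr g).app F := by
  refine EtFound.eq_of_stalks _ _ fun k _ _ ξ => ?_
  let Ω := AlgebraicClosure k
  let l : Spec (CommRingCat.of Ω) ⟶ Spec (CommRingCat.of k) := Spec.map (CommRingCat.ofHom (algebraMap k Ω))
  apply (cancel_mono ((EtFound.stalkExtIso AddCommGrpCat.{u + 1} ξ l).hom.app _)).1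
  rw [NatTrans.naturality, NatTrans.naturality]
  refine congrArg (_ ≫ ·) (ConcreteCategory.hom_ext _ _ fun q => ?_)
  rw [Functor.map_comp, Functor.map_comp, Functor.map_comp, ConcreteCategory.comp_apply,
    ConcreteCategory.comp_apply, ConcreteCategory.comp_apply]
  refine (ConcreteCategory.congr_hom (stalk_tr (h ≫ g) (η := l ≫ ξ) F) q).trans ?_
  exact ((ConcreteCategory.congr_hom (stalk_tr g (η := l ≫ ξ) F) _).trans (stalk_comp h g (l ≫ ξ) F q)).symm

end Groth.Agent.EtDerLib.TrComp
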