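import Groth.Agent.EtDual68.FTrace
import Groth.Agent.EtFound.FiniteBaseChange
import Groth.Prelude.Def_EtCore

/-!
# Germs of pulled back sections through composites and congruences
-/

set_option autoImplicit false

universe u

open CategoryTheory CategoryTheory.Limits AlgebraicGeometry Opposite

noncomputable section

namespace Groth.Agent.EtDerLib.TrPoint

open EtDual68.FTrace

set_option backward.isDefEq.respectTransparency.types false

variable {P T S : Scheme.{u}} {Ω : Type u} [Field Ω] [IsSepClosed Ω]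

/-- the unit of a composite -/
theorem unit_pullComp (k : P ⟶ T) (p : T ⟶ S) (F : EtCoh.Ab S) :
    (EtCoh.pullPushAdj (k ≫ p)).unit.app F ≫ (EtCoh.push (k ≫ p)).map ((EtCore.pullComp k p).hom.app F) =
    ((EtCoh.pullPushAdj p).unit.app F ≫ (EtCoh.push p).map ((EtCoh.pullPushAdj k).unit.app _)) ≫
      (EtCoh.pushComp p k).hom.app _ := by
  refine (Adjunction.unit_leftAdjointUniq_hom_app (EtCoh.pullPushAdj (k ≫ p))
    (((EtCoh.pullPushAdj p).comp (EtCoh.pullPushAdj k)).ofNatIsoRight (EtCoh.pushComp p k)) F).trans ?_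
  rw [Adjunction.ofNatIsoRight_unit]
  simp

/-- the germ at `τ` of a section pulled back along `p` -/
def PG (p : T ⟶ S) {τ : Spec (CommRingCat.of Ω) ⟶ T} {η : Spec (CommRingCat.of Ω) ⟶ S} (hτ : τ ≫ p = η)
    (F : EtCoh.Ab S) {V : S.Etale} (v : (Scheme.pointSmallEtale η).fiber.obj V) (b : EtCoh.sect F V) :
    (EtCoh.stalk τ).obj ((EtCoh.pull p).obj F) :=
  gm ((EtCoh.pull p).obj F) (EtFound.liftPt p hτ v) (((EtCoh.pullPushAdj p).unit.app F).hom.app (op V) b)

theorem PG_comp (k : P ⟶ T) (p : T ⟶ S) {τ : Spec (CommRingCat.of Ω) ⟶ P} {η : Spec (CommRingCat.of Ω) ⟶ S}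
    (hτ : τ ≫ k ≫ p = η) (F : EtCoh.Ab S) {V : S.Etale} (v : (Scheme.pointSmallEtale η).fiber.obj V)
    (b : EtCoh.sect F V) :
    (EtCoh.stalk τ).map ((EtCore.pullComp k p).hom.app F) (PG (k ≫ p) hτ F v b) =
      PG k rfl ((EtCoh.pull p).obj F) (EtFound.liftPt p ((Category.assoc τ k p).trans hτ) v)
        (((EtCoh.pullPushAdj p).unit.app F).hom.app (op V) b) := by
  refine (gm_app _ _ _).trans ?_
  refine (congrArg (gm ((EtCoh.pull k).obj ((EtCoh.pull p).obj F)) (EtFound.liftPt (k ≫ p) hτ v)) (congrArg (fun m : F ⟶ (EtCoh.push (k ≫ p)).obj ((EtCoh.pull k).obj ((EtCoh.pull p).obj F)) =>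
    m.hom.app (op V) b) (unit_pullComp k p F))).trans ?_
  refine (gm_map _ ((MorphismProperty.Over.pullbackComp (P := EtCoh.etaleMP) (Q := ⊤) k p).hom.app V) _ _).trans ?_
  refine congrArg (fun w => gm ((EtCoh.pull k).obj ((EtCoh.pull p).obj F)) w
    (((EtCoh.pullPushAdj k).unit.app ((EtCoh.pull p).obj F)).hom.app (op ((EtCoh.bc p).obj V))
      (((EtCoh.pullPushAdj p).unit.app F).hom.app (op V) b))) ?_
  apply CategoryTheory.Over.OverMorphism.ext
  refine pullback.hom_ext ?_ ?_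
  · refine Eq.trans ?_ (pullback.lift_fst _ _ _).symm
    refine pullback.hom_ext ?_ ?_
    · refine ((Category.assoc _ _ _).trans (Category.assoc _ _ _)).trans ?_
      refine (congrArg (_ ≫ ·) (MorphismProperty.Over.pullbackComp_left_fst_fst (P := EtCoh.etaleMP) (Q := ⊤) k p V)).trans ?_
      exact (pullback.lift_fst _ _ _).trans (pullback.lift_fst _ _ _).symm
    · refine ((Category.assoc _ _ _).trans (congrArg (_ ≫ ·) pullback.condition)).trans ?_
      refine Eq.trans ?_ (pullback.lift_snd _ _ _).symm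
      refine (Category.assoc _ _ _).symm.trans (congrArg (· ≫ k) ?_)
      refine (Category.assoc _ _ _).trans ((congrArg (_ ≫ ·) (MorphismProperty.Over.w
        ((MorphismProperty.Over.pullbackComp (P := EtCoh.etaleMP) (Q := ⊤) k p).hom.app V))).trans ?_)
      exact pullback.lift_snd _ _ _
  · refine Eq.trans ?_ (pullback.lift_snd _ _ _).symm
    refine (Category.assoc _ _ _).trans ((congrArg (_ ≫ ·) (MorphismProperty.Over.w
      ((MorphismProperty.Over.pullbackComp (P := EtCoh.etaleMP) (Q := ⊤) k p).hom.app V))).trans ?_)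
    exact pullback.lift_snd _ _ _

theorem PG_comp_inv (k : P ⟶ T) (p : T ⟶ S) {τ : Spec (CommRingCat.of Ω) ⟶ P} {η : Spec (CommRingCat.of Ω) ⟶ S}
    (hτ : τ ≫ k ≫ p = η) (F : EtCoh.Ab S) {V : S.Etale} (v : (Scheme.pointSmallEtale η).fiber.obj V)
    (b : EtCoh.sect F V) :
    (EtCoh.stalk τ).map ((EtCore.pullComp k p).inv.app F)
        (PG k rfl ((EtCoh.pull p).obj F) (EtFound.liftPt p ((Category.assoc τ k p).trans hτ) v)
          (((EtCoh.pullPushAdj p).unit.app F).hom.app (op V) b)) = PG (k ≫ p) hτ F v b := by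
  rw [← PG_comp k p hτ F v b]
  exact ConcreteCategory.congr_hom (((EtCoh.stalk τ).mapIso ((EtCore.pullComp k p).app F)).hom_inv_id) _

theorem PG_congr {p p' : T ⟶ S} (h : p = p') {τ : Spec (CommRingCat.of Ω) ⟶ T} {η : Spec (CommRingCat.of Ω) ⟶ S}
    (hτ : τ ≫ p = η) (F : EtCoh.Ab S) {V : S.Etale} (v : (Scheme.pointSmallEtale η).fiber.obj V)
    (b : EtCoh.sect F V) :
    (EtCoh.stalk τ).map ((EtCore.pullCongr h).hom.app F) (PG p hτ F v b) =
      PG p' ((congrArg (τ ≫ ·) h).symm.trans hτ) F v b := by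
  subst h
  exact ConcreteCategory.congr_hom ((EtCoh.stalk τ).map_id _) _

/-- the identification `(p⁻¹F)_τ = F_η` -/
def ev (p : T ⟶ S) {τ : Spec (CommRingCat.of Ω) ⟶ T} {η : Spec (CommRingCat.of Ω) ⟶ S} (hτ : τ ≫ p = η)
    (F : EtCoh.Ab S) : (EtCoh.stalk τ).obj ((EtCoh.pull p).obj F) ⟶ (EtCoh.stalk η).obj F :=
  ((EtFound.stalkPullIso p τ).hom ≫ eqToHom (by rw [hτ])).app F

theorem ev_PG (p : T ⟶ S) {τ : Spec (CommRingCat.of Ω) ⟶ T} {η : Spec (CommRingCat.of Ω) ⟶ S} (hτ : τ ≫ p = η)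
    (F : EtCoh.Ab S) {V : S.Etale} (v : (Scheme.pointSmallEtale η).fiber.obj V) (b : EtCoh.sect F V) :
    ev p hτ F (PG p hτ F v b) = gm F v b := by
  subst hτ
  have e : EtFound.bcFiberEquiv p τ V (EtFound.liftPt p rfl v) = v :=
    (EtFound.bcFiberEquiv p τ V).apply_symm_apply v
  have h := ConcreteCategory.congr_hom
    (EtFound.sheafFiberPullIso_germ (A := AddCommGrpCat.{u + 1}) p τ F V (EtFound.liftPt p rfl v)) b
  rw [e] at h
  change ((EtFound.stalkPullIso p τ).hom.app F ≫ 𝟙 _) _ = _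
  rw [Category.comp_id]
  refine (congrArg ((EtFound.stalkPullIso p τ).hom.app F) h.symm).trans ?_
  exact ConcreteCategory.congr_hom ((EtFound.stalkPullIso p τ).inv_hom_id_app F) _

theorem ev_bijective (p : T ⟶ S) {τ : Spec (CommRingCat.of Ω) ⟶ T} {η : Spec (CommRingCat.of Ω) ⟶ S}
    (hτ : τ ≫ p = η) (F : EtCoh.Ab S) : Function.Bijective (ev p hτ F) :=
  (ConcreteCategory.isIso_iff_bijective _).1
    (inferInstanceAs (IsIso (((EtFound.stalkPullIso p τ).hom ≫ eqToHom (by rw [hτ])).app F)))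

theorem exists_PG (p : T ⟶ S) {τ : Spec (CommRingCat.of Ω) ⟶ T} {η : Spec (CommRingCat.of Ω) ⟶ S} (hτ : τ ≫ p = η)
    (F : EtCoh.Ab S) (q : (EtCoh.stalk τ).obj ((EtCoh.pull p).obj F)) :
    ∃ (V : S.Etale) (v : (Scheme.pointSmallEtale η).fiber.obj V) (b : EtCoh.sect F V), PG p hτ F v b = q := by
  obtain ⟨V, v, b, h⟩ := (Scheme.pointSmallEtale η).toPresheafFiber_jointly_surjective (ev p hτ F q)
  exact ⟨V, v, b, (ev_bijective p hτ F).1 ((ev_PG p hτ F v b).trans h)⟩

theorem ev_natural (p : T ⟶ S) {τ : Spec (CommRingCat.of Ω) ⟶ T} {η : Spec (CommRingCat.of Ω) ⟶ S} (hτ : τ ≫ p = η)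
    {F G : EtCoh.Ab S} (φ : F ⟶ G) (q : (EtCoh.stalk τ).obj ((EtCoh.pull p).obj F)) :
    ev p hτ G ((EtCoh.stalk τ).map ((EtCoh.pull p).map φ) q) = (EtCoh.stalk η).map φ (ev p hτ F q) :=
  ConcreteCategory.congr_hom (((EtFound.stalkPullIso p τ).hom ≫ eqToHom (by rw [hτ])).naturality φ) q

end Groth.Agent.EtDerLib.TrPoint
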