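import Groth.Agent.EtDerLib.TrComp

/-!
# Uniqueness of the finite flat trace
-/

set_option autoImplicit false

universe u

open CategoryTheory CategoryTheory.Limits AlgebraicGeometry Opposite

noncomputable section

namespace Groth.Agent.EtDerLib.TrUniq

open EtDual68.FTrace TrPoint

set_option linter.style.haveILetI false
set_option backward.isDefEq.respectTransparency.types false

/-- a trace for all finite flat morphisms -/
abbrev Traces : Type _ :=
  ∀ ⦃X S : Scheme.{u}⦄ (f : X ⟶ S) [IsFinite f] [Flat f] [LocallyOfFinitePresentation f],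
    EtCoh.pull f ⋙ EtCoh.push f ⟶ 𝟭 (EtCoh.Ab S)

-- the consequence of compatibility with base change that is used for uniqueness (a notation, so that no proof
-- terms get abstracted)
set_option quotPrecheck false in
local notation "Desc[" T "]" => ∀ ⦃X S X' S' : Scheme⦄ (f : X ⟶ S) (g : S' ⟶ S) (f' : X' ⟶ S') (g' : X' ⟶ X)
    (_ : IsPullback g' f' f g) [IsFinite f] [Flat f] [LocallyOfFinitePresentation f]
    [IsFinite f'] [Flat f'] [LocallyOfFinitePresentation f'] (F : EtCoh.Ab S),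
    ((T : Traces) f').app ((EtCoh.pull g).obj F) = (EtDual68.FTrace.tr f').app ((EtCoh.pull g).obj F) →
      (EtCoh.pull g).map (((T : Traces) f).app F) = (EtCoh.pull g).map ((EtDual68.FTrace.tr f).app F)

/-- compatibility with composition -/
def Var3 (Tr : Traces.{u}) : Prop :=
  ∀ ⦃X Y S : Scheme.{u}⦄ (h : X ⟶ Y) (g : Y ⟶ S)
      [IsFinite h] [Flat h] [LocallyOfFinitePresentation h]
      [IsFinite g] [Flat g] [LocallyOfFinitePresentation g]
      [IsFinite (h ≫ g)] [Flat (h ≫ g)] [LocallyOfFinitePresentation (h ≫ g)] (F : EtCoh.Ab S),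
    (Tr (h ≫ g)).app F =
      (EtCoh.push (h ≫ g)).map ((EtCore.pullComp h g).hom.app F) ≫
        (EtCoh.pushComp g h).inv.app ((EtCoh.pull h).obj ((EtCoh.pull g).obj F)) ≫
        (EtCoh.push g).map ((Tr h).app ((EtCoh.pull g).obj F)) ≫ (Tr g).app F

/-- normalisation -/
def Var4 (Tr : Traces.{u}) : Prop :=
  ∀ ⦃X S : Scheme.{u}⦄ (f : X ⟶ S) [IsFinite f] [Flat f] [LocallyOfFinitePresentation f] (n : ℕ)
      (_ : ∀ s : S, f.finrank s = n) (F : EtCoh.Ab S),
    (EtCoh.pullPushAdj f).unit.app F ≫ (Tr f).app F = n • 𝟙 F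

variable {X S : Scheme.{u}}

theorem sigma_ext (f : X ⟶ S) [IsFinite f] {Ω : Type u} [Field Ω] [IsAlgClosed Ω]
    (η : Spec (CommRingCat.of Ω) ⟶ S) (F : EtCoh.Ab S) {p q : (EtCoh.stalk η).obj (PP f F)}
    (h : ∀ z : {ξ : Spec (CommRingCat.of Ω) ⟶ X // ξ ≫ f = η}, (sigma f z).app F p = (sigma f z).app F q) :
    p = q := by
  refine (EtFound.pushStalkAt_bijective (A := AddCommGrpCat.{u + 1}) f ((EtCoh.pull f).obj F)).1 (funext fun z => ?_)
  exact (ev_bijective f z.2 F).1 (h z)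

theorem eq_of_stalk_id {Ω : Type u} [Field Ω] [IsAlgClosed Ω] {F G : EtCoh.Ab (Spec (CommRingCat.of Ω))}
    (a b : F ⟶ G)
    (h : ∀ p, (EtCoh.stalk (𝟙 (Spec (CommRingCat.of Ω)))).map a p =
      (EtCoh.stalk (𝟙 (Spec (CommRingCat.of Ω)))).map b p) : a = b := by
  refine EtFound.eq_of_stalks a b fun k _ _ ξ => ?_
  rw [show ξ = ξ ≫ 𝟙 _ from (Category.comp_id ξ).symm]
  apply (cancel_epi ((EtFound.stalkExtIso AddCommGrpCat.{u + 1} (𝟙 _) ξ).hom.app F)).1
  rw [← NatTrans.naturality, ← NatTrans.naturality]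
  exact congrArg (· ≫ _) (ConcreteCategory.hom_ext _ _ h)

theorem eq_of_subsingleton {Ω : Type u} [Field Ω] [IsAlgClosed Ω] (f : X ⟶ Spec (CommRingCat.of Ω)) [IsFinite f]
    [Subsingleton X] (F : EtCoh.Ab (Spec (CommRingCat.of Ω))) (T T' : PP f F ⟶ F)
    (h : (EtCoh.pullPushAdj f).unit.app F ≫ T = (EtCoh.pullPushAdj f).unit.app F ≫ T') : T = T' := by
  refine eq_of_stalk_id T T' fun p => ?_
  haveI : Subsingleton ↥(pullback f (𝟙 (Spec (CommRingCat.of Ω)))) :=
    (asIso (pullback.fst f (𝟙 (Spec (CommRingCat.of Ω))))).hom.homeomorph.injective.subsingleton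
  haveI : Subsingleton {ξ : Spec (CommRingCat.of Ω) ⟶ X // ξ ≫ f = 𝟙 _} :=
    (EtDual68.FibreMult.pt_injective f (η := 𝟙 (Spec (CommRingCat.of Ω)))).subsingleton
  rcases isEmpty_or_nonempty {ξ : Spec (CommRingCat.of Ω) ⟶ X // ξ ≫ f = 𝟙 _} with he | ⟨⟨z⟩⟩
  · have h0 : p = 0 := sigma_ext f (𝟙 _) F fun z => he.elim z
    rw [h0, map_zero, map_zero]
  · obtain ⟨V, v, b, hb⟩ := (Scheme.pointSmallEtale (𝟙 (Spec (CommRingCat.of Ω)))).toPresheafFiber_jointly_surjective
      ((sigma f z).app F p)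
    have hp : p = (EtCoh.stalk (𝟙 _)).map ((EtCoh.pullPushAdj f).unit.app F) (gm F v b) := by
      refine sigma_ext f (𝟙 _) F fun z' => ?_
      obtain rfl := Subsingleton.elim z' z
      exact hb.symm.trans ((sigma_gm_unit f z' F v b).symm.trans
        (congrArg ((sigma f z').app F) (gm_app ((EtCoh.pullPushAdj f).unit.app F) v b).symm))
    rw [hp, ← ConcreteCategory.comp_apply, ← ConcreteCategory.comp_apply, ← Functor.map_comp, ← Functor.map_comp]
    exact congrArg (fun m : F ⟶ F => (EtCoh.stalk (𝟙 _)).map m (gm F v b)) h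

theorem stalk_eq_of_pull {T : Scheme.{u}} {F G : EtCoh.Ab S} (a b : F ⟶ G) (g : T ⟶ S) {k : Type u} [Field k]
    [IsSepClosed k] (τ : Spec (CommRingCat.of k) ⟶ T) (h : (EtCoh.pull g).map a = (EtCoh.pull g).map b) :
    (EtCoh.stalk (τ ≫ g)).map a = (EtCoh.stalk (τ ≫ g)).map b := by
  apply (cancel_epi ((EtFound.stalkPullIso g τ).hom.app F)).1
  rw [← NatTrans.naturality, ← NatTrans.naturality]
  exact congrArg (fun m => (EtCoh.stalk τ).map m ≫ _) h

theorem stalk_eq_comp_id {F G : EtCoh.Ab S} (a b : F ⟶ G) {k : Type u} [Field k] [IsSepClosed k]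
    (g : Spec (CommRingCat.of k) ⟶ S) (h : (EtCoh.pull g).map a = (EtCoh.pull g).map b) :
    (EtCoh.stalk g).map a = (EtCoh.stalk g).map b := by
  have h' := stalk_eq_of_pull a b g (𝟙 _) h
  rwa [Category.id_comp] at h'

variable (Tr : Traces.{u})

theorem eq_tr_of_fibres (h2 : Desc[Tr]) (f : X ⟶ S) [IsFinite f] [Flat f] [LocallyOfFinitePresentation f]
    (H : ∀ (Ω : Type u) [Field Ω] [IsAlgClosed Ω] (η : Spec (CommRingCat.of Ω) ⟶ S)
      (G : EtCoh.Ab (Spec (CommRingCat.of Ω))),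
      (Tr (pullback.snd f η)).app G = (tr (pullback.snd f η)).app G)
    (F : EtCoh.Ab S) : (Tr f).app F = (tr f).app F := by
  refine EtFound.eq_of_stalks _ _ fun k _ _ ξ => ?_
  let Ω := AlgebraicClosure k
  let l : Spec (CommRingCat.of Ω) ⟶ Spec (CommRingCat.of k) := Spec.map (CommRingCat.ofHom (algebraMap k Ω))
  apply (cancel_mono ((EtFound.stalkExtIso AddCommGrpCat.{u + 1} ξ l).hom.app _)).1
  rw [NatTrans.naturality, NatTrans.naturality]
  refine congrArg (_ ≫ ·) ?_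
  have hsq := IsPullback.of_hasPullback f (l ≫ ξ)
  have h := h2 f (l ≫ ξ) (pullback.snd f (l ≫ ξ)) (pullback.fst f (l ≫ ξ)) hsq F (H Ω (l ≫ ξ) ((EtCoh.pull (l ≫ ξ)).obj F))
  exact stalk_eq_comp_id _ _ (l ≫ ξ) h

theorem eq_tr_subsingleton (h4 : Var4 Tr) {Ω : Type u} [Field Ω] [IsAlgClosed Ω]
    (f : X ⟶ Spec (CommRingCat.of Ω)) [IsFinite f] [Flat f] [LocallyOfFinitePresentation f] [Subsingleton X]
    (F : EtCoh.Ab (Spec (CommRingCat.of Ω))) : (Tr f).app F = (tr f).app F := by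
  have hn : ∀ s : Spec (CommRingCat.of Ω), f.finrank s = f.finrank default :=
    fun s => congrArg f.finrank (Subsingleton.elim s default)
  exact eq_of_subsingleton f F _ _ ((h4 f _ hn F).trans (unit_tr f _ hn F).symm)

theorem eq_tr_mono (h2 : Desc[Tr]) (h4 : Var4 Tr) (i : X ⟶ S) [IsFinite i] [Flat i] [LocallyOfFinitePresentation i]
    [Mono i] (F : EtCoh.Ab S) : (Tr i).app F = (tr i).app F := by
  refine eq_tr_of_fibres Tr h2 i (fun Ω _ _ η G => ?_) F
  haveI : Subsingleton ↥(pullback i η) := by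
    haveI : IsClosedImmersion (pullback.snd i η) := by
      rw [IsClosedImmersion.iff_isFinite_and_mono]
      exact ⟨inferInstance, inferInstance⟩
    exact (pullback.snd i η).isClosedEmbedding.injective.subsingleton
  exact eq_tr_subsingleton Tr h4 _ G

theorem sigma_psi {Y : Scheme.{u}} (h : X ⟶ Y) (g : Y ⟶ S) [IsFinite h] [Flat h] [LocallyOfFinitePresentation h]
    [IsFinite g] [IsFinite (h ≫ g)] {Ω : Type u} [Field Ω] [IsAlgClosed Ω] {η : Spec (CommRingCat.of Ω) ⟶ S}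
    (y : {ξ : Spec (CommRingCat.of Ω) ⟶ Y // ξ ≫ g = η})
    [Fintype {ξ : Spec (CommRingCat.of Ω) ⟶ X // ξ ≫ h = y.1}] (F : EtCoh.Ab S)
    (q : (EtCoh.stalk η).obj (PP (h ≫ g) F)) :
    (sigma g y).app F ((EtCoh.stalk η).map ((EtCoh.push g).map ((tr h).app ((EtCoh.pull g).obj F)))
      ((EtCoh.stalk η).map ((EtCoh.pushComp g h).inv.app ((EtCoh.pull h).obj ((EtCoh.pull g).obj F)))
        ((EtCoh.stalk η).map ((EtCoh.push (h ≫ g)).map ((EtCore.pullComp h g).hom.app F)) q))) =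
      ∑ x : {ξ : Spec (CommRingCat.of Ω) ⟶ X // ξ ≫ h = y.1}, EtDual68.FibreMult.mult h x •
        (sigma (h ≫ g) ⟨x.1, (Category.assoc _ _ _).symm.trans ((congrArg (· ≫ g) x.2).trans y.2)⟩).app F q := by
  rw [TrBC.sigma_eq, TrBC.stalk_push_map, stalk_tr, trStalk_apply, map_sum]
  refine Finset.sum_congr rfl fun x _ => ?_
  rw [map_nsmul]
  refine congrArg (_ • ·) ?_
  have hx : x.1 ≫ h ≫ g = η := (Category.assoc _ _ _).symm.trans ((congrArg (· ≫ g) x.2).trans y.2)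
  rw [TrBC.sigma_eq, TrBC.sigma_eq]
  have e1 := (TrComp.stalk_pushComp h g x.2 y.2 hx ((EtCoh.pull h).obj ((EtCoh.pull g).obj F))
      ((EtCoh.stalk η).map ((EtCoh.push (h ≫ g)).map ((EtCore.pullComp h g).hom.app F)) q)).trans
    (TrBC.stalk_push_map (h ≫ g) hx ((EtCore.pullComp h g).hom.app F) q)
  refine Eq.trans (congrArg (ev g y.2 F) (congrArg (ev h x.2 ((EtCoh.pull g).obj F)) e1)) ?_
  exact TrComp.ev_comp h g x.2 y.2 hx F _

theorem eq_tr_field (h2 : Desc[Tr]) (h3 : Var3 Tr) (h4 : Var4 Tr) {Ω : Type u} [Field Ω] [IsAlgClosed Ω]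
    (f : X ⟶ Spec (CommRingCat.of Ω)) [IsFinite f] [Flat f] [LocallyOfFinitePresentation f]
    (F : EtCoh.Ab (Spec (CommRingCat.of Ω))) : (Tr f).app F = (tr f).app F := by
  classical
  refine eq_of_stalk_id _ _ fun p => ?_
  haveI := EtFound.finite_points f (𝟙 (Spec (CommRingCat.of Ω)))
  letI := Fintype.ofFinite {ξ : Spec (CommRingCat.of Ω) ⟶ X // ξ ≫ f = 𝟙 _}
  have := EtDual68.FibreMult.discreteTopology f
  have key : ∀ z : {ξ : Spec (CommRingCat.of Ω) ⟶ X // ξ ≫ f = 𝟙 _},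
      ∃ p' : (EtCoh.stalk (𝟙 (Spec (CommRingCat.of Ω)))).obj (PP f F),
        (EtCoh.stalk (𝟙 _)).map ((Tr f).app F) p' = (EtCoh.stalk (𝟙 _)).map ((tr f).app F) p' ∧
        (sigma f z).app F p' = (sigma f z).app F p ∧ ∀ y, y ≠ z → (sigma f y).app F p' = 0 := by
    intro z
    let U : X.Opens := ⟨{z.1.base default}, isOpen_discrete _⟩
    let i : U.toScheme ⟶ X := U.ι
    haveI : IsClosedImmersion i := .of_isPreimmersion _ (by simp [i, isClosed_discrete])
    haveI : IsFinite i := inferInstance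
    haveI : IsFinite (i ≫ f) := inferInstance
    haveI : Flat (i ≫ f) := inferInstance
    haveI : LocallyOfFinitePresentation (i ≫ f) := inferInstance
    haveI : Subsingleton U.toScheme := ⟨fun a b => Subtype.ext (a.2.trans b.2.symm)⟩
    let x₀ : Spec (CommRingCat.of Ω) ⟶ U.toScheme := IsOpenImmersion.lift i z.1 (by
      rintro _ ⟨w, rfl⟩
      rw [Scheme.Opens.range_ι, Subsingleton.elim w default]
      rfl)
    have hx₀ : x₀ ≫ i = z.1 := IsOpenImmersion.lift_fac _ _ _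
    have hx₀' : x₀ ≫ i ≫ f = 𝟙 _ := by rw [← Category.assoc, hx₀, z.2]
    obtain ⟨q, hq⟩ : ∃ q, (sigma (i ≫ f) ⟨x₀, hx₀'⟩).app F q = (sigma f z).app F p := by
      obtain ⟨r, hr⟩ := (ev_bijective (i ≫ f) hx₀' F).2 ((sigma f z).app F p)
      obtain ⟨q, hq⟩ := (EtFound.pushStalkAt_bijective (A := AddCommGrpCat.{u + 1}) (i ≫ f)
        ((EtCoh.pull (i ≫ f)).obj F)).2 (Function.update 0 ⟨x₀, hx₀'⟩ r)
      refine ⟨q, ?_⟩
      rw [TrBC.sigma_eq, ← hr]
      exact congrArg _ ((congrFun hq ⟨x₀, hx₀'⟩).trans (Function.update_self _ _ _))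
    refine ⟨(EtCoh.stalk (𝟙 _)).map ((EtCoh.push f).map ((tr i).app ((EtCoh.pull f).obj F)))
      ((EtCoh.stalk (𝟙 _)).map ((EtCoh.pushComp f i).inv.app ((EtCoh.pull i).obj ((EtCoh.pull f).obj F)))
        ((EtCoh.stalk (𝟙 _)).map ((EtCoh.push (i ≫ f)).map ((EtCore.pullComp i f).hom.app F)) q)), ?_, ?_, ?_⟩
    · simp only [← ConcreteCategory.comp_apply, ← Functor.map_comp, Category.assoc]
      refine congrArg (fun m => (EtCoh.stalk (𝟙 (Spec (CommRingCat.of Ω)))).map m q) ?_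
      refine Eq.trans ?_ ((eq_tr_subsingleton Tr h4 (i ≫ f) F).trans (TrComp.comp i f F))
      rw [h3 i f F, eq_tr_mono Tr h2 h4 i]
    · haveI := EtFound.finite_points i z.1
      letI := Fintype.ofFinite {ξ : Spec (CommRingCat.of Ω) ⟶ U.toScheme // ξ ≫ i = z.1}
      rw [sigma_psi i f z F q, Fintype.sum_eq_single ⟨x₀, hx₀⟩ (fun x hx => absurd (Subtype.ext
        ((cancel_mono i).1 (x.2.trans hx₀.symm))) hx), EtDual68.FibreMult.mult_eq_one, one_smul]
      exact hq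
    · intro y hy
      haveI := EtFound.finite_points i y.1
      letI := Fintype.ofFinite {ξ : Spec (CommRingCat.of Ω) ⟶ U.toScheme // ξ ≫ i = y.1}
      rw [sigma_psi i f y F q]
      refine Finset.sum_eq_zero fun x _ => absurd ?_ hy
      refine Subtype.ext ?_
      have hxx : x.1 = x₀ := by
        have e1 : EtDual68.FibreMult.pt (i ≫ f) (η := 𝟙 _)
              ⟨x.1, (Category.assoc _ _ _).symm.trans ((congrArg (· ≫ f) x.2).trans y.2)⟩ =
            EtDual68.FibreMult.pt (i ≫ f) ⟨x₀, hx₀'⟩ :=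
          haveI : Subsingleton ↥(pullback (i ≫ f) (𝟙 (Spec (CommRingCat.of Ω)))) :=
            (asIso (pullback.fst (i ≫ f) (𝟙 (Spec (CommRingCat.of Ω))))).hom.homeomorph.injective.subsingleton
          Subsingleton.elim _ _
        exact congrArg Subtype.val (EtDual68.FibreMult.pt_injective (i ≫ f) e1)
      exact x.2.symm.trans ((congrArg (· ≫ i) hxx).trans hx₀)
  choose p' hp' hz hy using key
  have hsum : p = ∑ z, p' z := sigma_ext f (𝟙 _) F fun z => by
    rw [map_sum, Fintype.sum_eq_single z (fun z' hz' => hy z' z (Ne.symm hz')), hz]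
  rw [hsum, map_sum, map_sum]
  exact Finset.sum_congr rfl fun z _ => hp' z

theorem eq_tr (h2 : Desc[Tr]) (h3 : Var3 Tr) (h4 : Var4 Tr) (f : X ⟶ S) [IsFinite f] [Flat f]
    [LocallyOfFinitePresentation f] : Tr f = tr f :=
  NatTrans.ext (funext fun F => eq_tr_of_fibres Tr h2 f (fun _ _ _ _ G => eq_tr_field Tr h2 h3 h4 _ G) F)

end Groth.Agent.EtDerLib.TrUniq
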