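import Groth.Agent.EtDerLib.Ladder
import Groth.Agent.EtDerLib.Torsion
import Groth.Agent.EtLC12.AffineLocalAcyclic
import Groth.Agent.EtMVLib.Abstract
import Mathlib.CategoryTheory.Adjunction.Whiskering

/-!
# Cohomology over the objects of the small etale site
-/

set_option autoImplicit false

universe u

open CategoryTheory CategoryTheory.Limits AlgebraicGeometry Opposite CategoryTheory.Abelian

namespace Groth.Agent.EtDerLib

set_option linter.style.haveILetI false
set_option backward.isDefEq.respectTransparency.types false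

variable {X : Scheme.{u}}

theorem subsingleton_ext_injective {Z : Scheme.{u}} (P I : EtCoh.Ab Z) (hI : Injective I) (n : ℕ) :
    Subsingleton (Ext P I (n + 1)) :=
  Ext.subsingleton_of_injective _ _ n

/-- the presheaf of sets represented by `U`, in the large universe -/
noncomputable abbrev repP (U : X.Etale) : X.Etaleᵒᵖ ⥤ Type (u + 1) := uliftYoneda.{u + 1}.obj U

/-- the free abelian sheaf on `U` -/
noncomputable def ZU (U : X.Etale) : EtCoh.Ab X :=
  (presheafToSheaf X.smallEtaleTopology AddCommGrpCat.{u + 1}).obj (repP U ⋙ AddCommGrpCat.free.{u + 1})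

/-- `ZU` on morphisms -/
noncomputable def ZUmap {U V : X.Etale} (f : V ⟶ U) : ZU V ⟶ ZU U :=
  (presheafToSheaf X.smallEtaleTopology AddCommGrpCat.{u + 1}).map
    (Functor.whiskerRight (uliftYoneda.{u + 1}.map f) AddCommGrpCat.free.{u + 1})

/-- morphisms out of `ZU U` are sections over `U` -/
noncomputable def zuEquiv (U : X.Etale) (F : EtCoh.Ab X) : (ZU U ⟶ F) ≃ F.obj.obj (op U) :=
  (((sheafificationAdjunction X.smallEtaleTopology AddCommGrpCat.{u + 1}).homEquiv _ _).trans
    ((AddCommGrpCat.adj.whiskerRight X.Etaleᵒᵖ).homEquiv _ _)).trans uliftYonedaEquiv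

/-- the universal section -/
noncomputable def univSec (U : X.Etale) : (ZU U).obj.obj (op U) := zuEquiv U (ZU U) (𝟙 _)

theorem zuEquiv_comp (U : X.Etale) {F G : EtCoh.Ab X} (φ : ZU U ⟶ F) (a : F ⟶ G) :
    zuEquiv U G (φ ≫ a) = a.hom.app (op U) (zuEquiv U F φ) := rfl

theorem zuEquiv_eq (U : X.Etale) {F : EtCoh.Ab X} (φ : ZU U ⟶ F) :
    zuEquiv U F φ = φ.hom.app (op U) (univSec U) :=
  (congrArg (zuEquiv U F) (Category.id_comp φ).symm).trans (zuEquiv_comp U _ φ)

theorem zuEquiv_ZUmap {U V : X.Etale} (f : V ⟶ U) {F : EtCoh.Ab X} (φ : ZU U ⟶ F) :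
    zuEquiv V F (ZUmap f ≫ φ) = F.obj.map f.op (zuEquiv U F φ) := by
  have h1 := (sheafificationAdjunction X.smallEtaleTopology AddCommGrpCat.{u + 1}).homEquiv_naturality_left
    (Functor.whiskerRight (uliftYoneda.{u + 1}.map f) AddCommGrpCat.free.{u + 1}) φ
  have h2 := (AddCommGrpCat.adj.{u + 1}.whiskerRight X.Etaleᵒᵖ).homEquiv_naturality_left
    (uliftYoneda.{u + 1}.map f)
    ((sheafificationAdjunction X.smallEtaleTopology AddCommGrpCat.{u + 1}).homEquiv _ _ φ)
  exact (congrArg uliftYonedaEquiv ((congrArg _ h1).trans h2)).trans (uliftYonedaEquiv_naturality _ f.op).symm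

theorem zuEquiv_symm_comp (U : X.Etale) {F G : EtCoh.Ab X} (s : F.obj.obj (op U)) (a : F ⟶ G) :
    (zuEquiv U F).symm s ≫ a = (zuEquiv U G).symm (a.hom.app (op U) s) := by
  apply (zuEquiv U G).injective
  rw [zuEquiv_comp, Equiv.apply_symm_apply, Equiv.apply_symm_apply]

/-- `H^n(U, F)` -/
abbrev HT (F : EtCoh.Ab X) (n : ℕ) (U : X.Etale) : Type (u + 1) := Ext (ZU U) F n

/-- restriction `H^n(U, F) → H^n(V, F)` -/
noncomputable def HTres (F : EtCoh.Ab X) (n : ℕ) {U V : X.Etale} (f : V ⟶ U) : HT F n U →+ HT F n V :=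
  AddMonoidHom.mk' (fun x => (Ext.mk₀ (ZUmap f)).comp x (zero_add n)) fun _ _ => Ext.comp_add _ _ _ _

theorem HTres_comp_apply {F G : EtCoh.Ab X} {n k m : ℕ} {U V : X.Etale} (f : V ⟶ U) (x : HT F n U)
    (e : Ext F G k) (h : n + k = m) : HTres G m f (x.comp e h) = (HTres F n f x).comp e h :=
  (Ext.comp_assoc _ _ _ (zero_add n) h (by omega)).symm

theorem HTres_mk₀ {F : EtCoh.Ab X} {U V : X.Etale} (f : V ⟶ U) (φ : ZU U ⟶ F) :
    HTres F 0 f (Ext.mk₀ φ) = Ext.mk₀ (ZUmap f ≫ φ) :=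
  Ext.mk₀_comp_mk₀ _ _

section Shift

variable {S : ShortComplex (EtCoh.Ab X)} (hS : S.ShortExact)

/-- the boundary map from sections -/
noncomputable def secδ (U : X.Etale) (y : S.X₃.obj.obj (op U)) : HT S.X₁ 1 U :=
  (Ext.mk₀ ((zuEquiv U S.X₃).symm y)).comp hS.extClass (zero_add 1)

theorem secδ_res {U V : X.Etale} (f : V ⟶ U) (y : S.X₃.obj.obj (op U)) :
    secδ hS V (S.X₃.obj.map f.op y) = HTres S.X₁ 1 f (secδ hS U y) := by
  have e : (zuEquiv V S.X₃).symm (S.X₃.obj.map f.op y) = ZUmap f ≫ (zuEquiv U S.X₃).symm y := by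
    rw [Equiv.symm_apply_eq, zuEquiv_ZUmap, Equiv.apply_symm_apply]
  rw [secδ, secδ, HTres_comp_apply, HTres_mk₀, e]

theorem secδ_surjective [Injective S.X₂] (U : X.Etale) (x : HT S.X₁ 1 U) :
    ∃ y, secδ hS U y = x := by
  obtain ⟨z, hz⟩ := Ext.covariant_sequence_exact₁ _ hS x (Ext.eq_zero_of_injective _) (n₀ := 0) rfl
  obtain ⟨φ, rfl⟩ := (Ext.mk₀_bijective _ _).2 z
  exact ⟨zuEquiv U S.X₃ φ, by rw [secδ, Equiv.symm_apply_apply]; exact hz⟩

theorem secδ_eq_zero_iff (U : X.Etale) (y : S.X₃.obj.obj (op U)) :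
    secδ hS U y = 0 ↔ ∃ x, S.g.hom.app (op U) x = y := by
  constructor
  · intro h
    obtain ⟨t, ht⟩ := Ext.covariant_sequence_exact₃ _ hS (Ext.mk₀ ((zuEquiv U S.X₃).symm y)) (zero_add 1) h
    obtain ⟨φ, rfl⟩ := (Ext.mk₀_bijective _ _).2 t
    rw [Ext.mk₀_comp_mk₀] at ht
    refine ⟨zuEquiv U S.X₂ φ, ?_⟩
    rw [← zuEquiv_comp, (Ext.mk₀_bijective _ _).1 ht, Equiv.apply_symm_apply]
  · rintro ⟨x, rfl⟩
    rw [secδ, ← zuEquiv_symm_comp, ← Ext.mk₀_comp_mk₀, Ext.comp_assoc_of_second_deg_zero, hS.comp_extClass,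
      Ext.comp_zero]

theorem secδ_nsmul (U : X.Etale) (m : ℕ) (y : S.X₃.obj.obj (op U)) :
    secδ hS U (m • y) = m • secδ hS U y := by
  let Φ : S.X₃.obj.obj (op U) →+ HT S.X₁ 1 U := AddMonoidHom.mk' (secδ hS U) fun a b => by
    have e : (zuEquiv U S.X₃).symm (a + b) = (zuEquiv U S.X₃).symm a + (zuEquiv U S.X₃).symm b := by
      rw [Equiv.symm_apply_eq, zuEquiv_eq]
      change a + b = ((zuEquiv U S.X₃).symm a).hom.app (op U) (univSec U) +
        ((zuEquiv U S.X₃).symm b).hom.app (op U) (univSec U)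
      rw [← zuEquiv_eq, ← zuEquiv_eq, Equiv.apply_symm_apply, Equiv.apply_symm_apply]
    rw [secδ, secδ, secδ, e, Ext.mk₀_add, Ext.add_comp]
  exact map_nsmul Φ m y

theorem δ_bijective [Injective S.X₂] (q : ℕ) (U : X.Etale) :
    Function.Bijective (fun x : HT S.X₃ (q + 1) U => x.comp hS.extClass (rfl : (q + 1) + 1 = q + 2)) := by
  constructor
  · intro x y hxy
    refine sub_eq_zero.1 ?_
    obtain ⟨t, ht⟩ := Ext.covariant_sequence_exact₃ _ hS (x - y) (n₁ := q + 2) rfl (by
      rw [sub_eq_add_neg, Ext.add_comp, Ext.neg_comp, ← sub_eq_add_neg]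
      exact sub_eq_zero.2 hxy)
    rw [← ht, Ext.eq_zero_of_injective t, Ext.zero_comp]
  · intro z
    obtain ⟨y, hy⟩ := Ext.covariant_sequence_exact₁ _ hS z (Ext.eq_zero_of_injective _) (n₀ := q + 1) rfl
    exact ⟨y, hy⟩

end Shift

section Transfer

variable (U : X.Etale)

/-- the universal class on `U` -/
noncomputable def topCls : EtCoh.const U.left ℤ ⟶ (EtCoh.pull U.hom).obj (ZU U) :=
  haveI : AlgebraicGeometry.Etale U.hom := U.prop
  haveI := EtFound.jCont U.hom
  ((EtCore.constAdj U.left).homEquiv _ _).symm (AddCommGrpCat.ofHom ((zmultiplesHom _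
    (((EtLC12.AffineLocalAcyclic.restrIsoPull U.hom).hom.app (ZU U)).hom.app (op (EtCoh.top U.left))
      ((ZU U).obj.map (MorphismProperty.Over.homMk (𝟙 U.left) (by exact Category.id_comp _) :
          (EtShriek.compEtale U.hom).obj (EtCoh.top U.left) ⟶ U).op (univSec U)))).comp
    AddEquiv.ulift.toAddMonoidHom))

/-- transfer to the cohomology of the scheme `U` -/
noncomputable def toH (F : EtCoh.Ab X) (n : ℕ) : HT F n U →+ EtCoh.H U.left ((EtCoh.pull U.hom).obj F) n :=
  haveI := EtFound.pull_preservesFiniteLimits U.hom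
  hpl (EtCoh.pull U.hom) (topCls U) F n

theorem toH_zero_bijective (F : EtCoh.Ab X) : Function.Bijective (toH U F 0) := by
  haveI : AlgebraicGeometry.Etale U.hom := U.prop
  haveI := EtFound.jCont U.hom
  haveI := EtFound.pull_preservesFiniteLimits U.hom
  let r := EtLC12.AffineLocalAcyclic.restrIsoPull U.hom
  let a : (EtShriek.compEtale U.hom).obj (EtCoh.top U.left) ⟶ U :=
    MorphismProperty.Over.homMk (𝟙 U.left) (by exact Category.id_comp _)
  haveI : IsIso a := by
    let c : (EtShriek.compEtale U.hom).obj (EtCoh.top U.left) ≅ U :=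
      MorphismProperty.Over.isoMk (Iso.refl _) (by
        show 𝟙 U.left ≫ U.hom = 𝟙 U.left ≫ U.hom
        rfl)
    have e : a = c.hom := MorphismProperty.Over.Hom.ext rfl
    rw [e]; infer_instance
  let E : F.obj.obj (op U) → (EtCoh.const U.left ℤ ⟶ (EtCoh.pull U.hom).obj F) := fun s =>
    ((EtCore.constAdj U.left).homEquiv _ _).symm (AddCommGrpCat.ofHom ((zmultiplesHom _
      ((r.hom.app F).hom.app (op (EtCoh.top U.left)) (F.obj.map a.op s))).comp AddEquiv.ulift.toAddMonoidHom))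
  have hE : Function.Bijective E := by
    have h1 : Function.Bijective (fun s : F.obj.obj (op U) =>
        (r.hom.app F).hom.app (op (EtCoh.top U.left)) (F.obj.map a.op s)) :=
      ((ConcreteCategory.isIso_iff_bijective _).1 (inferInstance : IsIso ((r.hom.app F).hom.app _))).comp
        ((ConcreteCategory.isIso_iff_bijective _).1 (inferInstance : IsIso (F.obj.map a.op)))
    have h2 : Function.Bijective (fun t : ((EtCoh.pull U.hom).obj F).obj.obj (op (EtCoh.top U.left)) =>
        ((EtCore.constAdj U.left).homEquiv (AddCommGrpCat.of (ULift.{u + 1} ℤ)) ((EtCoh.pull U.hom).obj F)).symm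
          (AddCommGrpCat.ofHom ((zmultiplesHom _ t).comp AddEquiv.ulift.toAddMonoidHom))) := by
      refine (Equiv.bijective _).comp ⟨fun x y h => ?_, fun g => ⟨g (ULift.up 1), ?_⟩⟩
      · have := ConcreteCategory.congr_hom h (ULift.up 1)
        simp at this
        exact (one_zsmul x).symm.trans (this.trans (one_zsmul y))
      · refine AddCommGrpCat.hom_ext (AddMonoidHom.ext fun z => ?_)
        change z.down • g (ULift.up 1) = g z
        rw [← map_zsmul]
        congr 1
        exact ULift.ext _ _ (mul_one _)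
    exact h2.comp h1
  have key : ∀ φ : ZU U ⟶ F, toH U F 0 (Ext.mk₀ φ) = Ext.mk₀ (E (zuEquiv U F φ)) := by
    intro φ
    change (Ext.mk₀ (topCls U)).comp ((Ext.mk₀ φ).mapExactFunctor (EtCoh.pull U.hom)) (zero_add 0) = _
    rw [Ext.mapExactFunctor_mk₀, Ext.mk₀_comp_mk₀]
    congr 1
    refine ((EtCore.constAdj U.left).homEquiv_naturality_right_symm _ _).symm.trans (congrArg _ ?_)
    refine AddCommGrpCat.hom_ext (AddMonoidHom.ext fun z => ?_)
    change ((EtCoh.pull U.hom).map φ).hom.app (op (EtCoh.top U.left))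
      (z.down • (r.hom.app (ZU U)).hom.app (op (EtCoh.top U.left)) ((ZU U).obj.map a.op (univSec U))) =
      z.down • (r.hom.app F).hom.app (op (EtCoh.top U.left)) (F.obj.map a.op (zuEquiv U F φ))
    rw [map_zsmul, zuEquiv_eq]
    congr 1
    refine (congrArg (fun t : (EtShriek.restrAlong U.hom).obj (ZU U) ⟶ (EtCoh.pull U.hom).obj F =>
      t.hom.app (op (EtCoh.top U.left)) ((ZU U).obj.map a.op (univSec U))) (r.hom.naturality φ).symm).trans ?_
    exact congrArg ((r.hom.app F).hom.app (op (EtCoh.top U.left))) (NatTrans.naturality_apply φ.hom a.op _)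
  constructor
  · intro x y hxy
    obtain ⟨φ, rfl⟩ := (Ext.mk₀_bijective _ _).2 x
    obtain ⟨ψ, rfl⟩ := (Ext.mk₀_bijective _ _).2 y
    rw [key, key] at hxy
    exact congrArg _ ((zuEquiv U F).injective (hE.1 ((Ext.mk₀_bijective _ _).1 hxy)))
  · intro z
    obtain ⟨ψ, rfl⟩ := (Ext.mk₀_bijective _ _).2 z
    obtain ⟨s, rfl⟩ := hE.2 ψ
    exact ⟨Ext.mk₀ ((zuEquiv U F).symm s), by rw [key, Equiv.apply_symm_apply]⟩

theorem toH_bijective : ∀ (n : ℕ) (F : EtCoh.Ab X), Function.Bijective (toH U F n) := by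
  haveI : AlgebraicGeometry.Etale U.hom := U.prop
  haveI := EtFound.jCont U.hom
  haveI := EtFound.pull_preservesFiniteLimits U.hom
  intro n
  induction n with
  | zero => exact toH_zero_bijective U
  | succ n ih =>
    intro F
    let hS := EtMVLib.injSES_shortExact F
    haveI : Injective (EtMVLib.injSES F).X₂ := inferInstanceAs (Injective (Injective.under F))
    have hI : Injective ((EtMVLib.injSES F).map (EtCoh.pull U.hom)).X₂ :=
      EtLC12.AffineLocalAcyclic.injective_pull U.hom _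
    refine ⟨(injective_iff_map_eq_zero _).2 fun α hα => ?_, fun β => ?_⟩
    · obtain ⟨α', rfl⟩ := Ext.covariant_sequence_exact₁ _ hS α (Ext.eq_zero_of_injective _) rfl
      have h' := (hpl_δ (EtCoh.pull U.hom) (topCls U) hS rfl α').symm.trans hα
      obtain ⟨γ, hγ⟩ := Ext.covariant_sequence_exact₃ _ (hS.map_of_exact _) _ rfl h'
      obtain ⟨γ', rfl⟩ := (ih _).2 γ
      have : γ'.comp (Ext.mk₀ (EtMVLib.injSES F).g) (add_zero n) = α' :=
        (ih _).1 ((hpl_natural (EtCoh.pull U.hom) (topCls U) _ n γ').trans hγ)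
      rw [← this, Ext.comp_assoc_of_second_deg_zero, hS.comp_extClass]
      exact Ext.comp_zero _ _ _ _ rfl
    · obtain ⟨β', hβ⟩ := Ext.covariant_sequence_exact₁ _ (hS.map_of_exact _) β
        ((subsingleton_ext_injective _ _ hI n).elim _ _) rfl
      obtain ⟨α', rfl⟩ := (ih _).2 β'
      exact ⟨α'.comp hS.extClass rfl, (hpl_δ (EtCoh.pull U.hom) (topCls U) hS rfl α').trans hβ⟩

end Transfer

end Groth.Agent.EtDerLib
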